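import Cfsg.Agent.SPOR.J4.MathAut

/-! The automorphism groups of the five Mathieu groups. -/

set_option autoImplicit false
set_option linter.unusedSimpArgs false

namespace CL.MAut

open Cfsg CL.K CL.Enc CL.Golay CL.Wd MulAction
open scoped Pointwise

/-- the stabiliser of the duad `{∞, 0}` -/
abbrev Duad : Subgroup Pm := M24 ⊓ stabilizer Pm (E.setOf D2)
/-- the stabiliser of the pair of complementary dodecads -/
abbrev DuD : Subgroup Pm := CL.M12.Du (E.setOf D0)

theorem card_Duad : Nat.card Duad = 887040 :=
  card_stab_small (k := 887040) (by rw [card_D2]; norm_num) (by rw [card_D2]; decide +kernel)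

theorem card_M12 : Nat.card Spor.M12 = 95040 := by
  rw [CL.M12.M12_eq]; exact CL.M12.card_St D0_mem

theorem card_M11 : Nat.card Spor.M11 = 7920 := by
  rw [CL.M12.M11_eq]; exact CL.M12.card_G11

theorem R.img_eq {g : Pm} {P n : ℕ} (hP : R g P) (hn : n < 2 ^ 24) (h : g • E.setOf n = E.setOf n) :
    img24 P n = n := (E.setOf_inj (hP.img_lt n) hn).1 ((hP.setOf_img n).trans h)

theorem R.app_eq {g : Pm} {P : ℕ} (hP : R g P) {p : GolayPt} (h : g p = p) :
    app24 P (E.enc p) = E.enc p := by
  rw [app24_eq, ← hP p, h]

theorem setOf_D2 : E.setOf D2 = {none, some 0} := by decide +kernel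

theorem mem_Duad {g : Pm} : g ∈ Duad ↔ g ∈ M24 ∧
    ((g none = none ∧ g (some 0) = some 0) ∨ (g none = some 0 ∧ g (some 0) = none)) := by
  rw [Subgroup.mem_inf, setOf_D2]
  refine and_congr_right fun _ => mem_stabilizer_iff.trans ⟨fun h => ?_, fun h => ?_⟩
  · have h1 := apply_mem_of_smul_eq h (b := none) (by simp)
    have h2 := apply_mem_of_smul_eq h (b := some 0) (by simp)
    have h3 : g none ≠ g (some 0) := fun e => by simpa using g.injective e
    simp only [Finset.mem_insert, Finset.mem_singleton] at h1 h2
    rcases h1 with h1 | h1 <;> rcases h2 with h2 | h2 <;> simp_all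
  · rw [Finset.smul_finset_insert, Finset.smul_finset_singleton]
    rcases h with ⟨h1, h2⟩ | ⟨h1, h2⟩
    · rw [Equiv.Perm.smul_def, Equiv.Perm.smul_def, h1, h2]
    · rw [Equiv.Perm.smul_def, Equiv.Perm.smul_def, h1, h2, Finset.pair_comm]

theorem mem_M22 {g : Pm} : g ∈ Spor.M22 ↔ g ∈ M24 ∧ g none = none ∧ g (some 0) = some 0 := by
  simp [Spor.M22, Spor.M23, and_assoc]

theorem mem_M23 {g : Pm} : g ∈ Spor.M23 ↔ g ∈ M24 ∧ g none = none := by
  simp [Spor.M23]

theorem M22_le_Duad : Spor.M22 ≤ Duad := fun _ h =>
  mem_Duad.2 ⟨(mem_M22.1 h).1, Or.inl (mem_M22.1 h).2⟩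

def t24 (_ : ℕ) : Bool := true
def th24 (_ : ℕ) : Bool := true
theorem mem24 : M24 ≤ M24 ∧ ∀ g P, g ∈ M24 → R g P → t24 P = true := ⟨le_rfl, fun _ _ _ _ => rfl⟩
theorem memh24 : M24 ≤ M24 ∧ ∀ P, I M24 P → th24 P = true → I M24 P := ⟨le_rfl, fun _ h _ => h⟩
theorem norm_self (H : Subgroup Pm) : ∀ n ∈ H, ∀ h ∈ H, n * h * n⁻¹ ∈ H :=
  fun _ hn _ hh => H.mul_mem (H.mul_mem hn hh) (H.inv_mem hn)
theorem norm24 : ∀ n ∈ M24, ∀ h ∈ M24, n * h * n⁻¹ ∈ M24 := norm_self _

def t23 (P : ℕ) : Bool := Nat.beq (app24 P 23) 23
def th23 (P : ℕ) : Bool := Nat.beq (app24 P 23) 23
theorem mem23 : Spor.M23 ≤ M24 ∧ ∀ g P, g ∈ Spor.M23 → R g P → t23 P = true :=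
  ⟨inf_le_left, fun _ _ hg hP => Nat.beq_eq.mpr (R.app_eq hP (mem_M23.1 hg).2)⟩
theorem in23 {P : ℕ} (h : I M24 P) (h' : th23 P = true) : I Spor.M23 P :=
  In.stabilizer h (b := 23) (by norm_num) (Nat.eq_of_beq_eq_true h')
theorem memh23 : Spor.M23 ≤ Spor.M23 ∧ ∀ P, I M24 P → th23 P = true → I Spor.M23 P :=
  ⟨le_rfl, fun _ => in23⟩
theorem norm23 : ∀ n ∈ Spor.M23, ∀ h ∈ Spor.M23, n * h * n⁻¹ ∈ Spor.M23 := norm_self _

def t22 (P : ℕ) : Bool := Nat.beq (app24 P 23) 23 && Nat.beq (app24 P 0) 0
def th22 (P : ℕ) : Bool := Nat.beq (img24 P D2) D2
theorem mem22 : Spor.M22 ≤ M24 ∧ ∀ g P, g ∈ Spor.M22 → R g P → t22 P = true :=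
  ⟨fun _ h => (mem_M22.1 h).1, fun _ _ hg hP => Bool.and_eq_true_iff.2
    ⟨Nat.beq_eq.mpr (R.app_eq hP (mem_M22.1 hg).2.1), Nat.beq_eq.mpr (R.app_eq hP (mem_M22.1 hg).2.2)⟩⟩
theorem in22 {P : ℕ} (h : I M24 P) (h' : t22 P = true) : I Spor.M22 P :=
  In.stabilizer (in23 h (Bool.and_eq_true_iff.1 h').1) (b := 0) (by norm_num)
    (Nat.eq_of_beq_eq_true (Bool.and_eq_true_iff.1 h').2)
theorem inDuad {P : ℕ} (h : I M24 P) (h' : th22 P = true) : I Duad P :=
  h.stab_set (Nat.eq_of_beq_eq_true h')
theorem memh22 : Spor.M22 ≤ Duad ∧ ∀ P, I M24 P → th22 P = true → I Duad P :=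
  ⟨M22_le_Duad, fun _ => inDuad⟩
theorem norm22 : ∀ n ∈ Duad, ∀ h ∈ Spor.M22, n * h * n⁻¹ ∈ Spor.M22 := by
  intro n hn h hh
  obtain ⟨n1, n2⟩ := mem_Duad.1 hn
  obtain ⟨h1, h2, h3⟩ := mem_M22.1 hh
  refine mem_M22.2 ⟨conj_mem n1 h1, ?_⟩
  rcases n2 with ⟨a, b⟩ | ⟨a, b⟩
  · exact ⟨by rw [← a, conj_apply, h2], by rw [← b, conj_apply, h3]⟩
  · exact ⟨by rw [← b, conj_apply, h3], by rw [← a, conj_apply, h2]⟩

def t12 (P : ℕ) : Bool := Nat.beq (img24 P D0) D0
def th12 (P : ℕ) : Bool := Nat.beq (img24 P D0) D0 || Nat.beq (img24 P D0) (Nat.xor D0 16777215)
theorem mem12 : Spor.M12 ≤ M24 ∧ ∀ g P, g ∈ Spor.M12 → R g P → t12 P = true :=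
  ⟨inf_le_left, fun _ _ hg hP => Nat.beq_eq.mpr (R.img_eq hP (by decide)
    (CL.M12.mem_St.1 (CL.M12.M12_eq ▸ hg)).2)⟩
theorem in12 {P : ℕ} (h : I M24 P) (h' : t12 P = true) : I Spor.M12 P :=
  CL.M12.M12_eq ▸ h.stab_set (Nat.eq_of_beq_eq_true h')
theorem memh12 : Spor.M12 ≤ DuD ∧ ∀ P, I M24 P → th12 P = true → I DuD P := by
  refine ⟨CL.M12.M12_eq ▸ CL.M12.St_le_Du _, fun P h h' => ⟨_, CL.M12.mem_Du.2 ⟨h.permOf_mem, ?_⟩, h.rep⟩⟩
  rw [← (rp h).setOf_img, ← CL.M12.setOf_compl']
  rcases Bool.or_eq_true_iff.1 h' with e | e
  · exact Or.inl (congrArg _ (Nat.eq_of_beq_eq_true e))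
  · exact Or.inr (congrArg _ (Nat.eq_of_beq_eq_true e))
theorem norm12 : ∀ n ∈ DuD, ∀ h ∈ Spor.M12, n * h * n⁻¹ ∈ Spor.M12 := by
  intro n hn h hh
  rw [CL.M12.M12_eq] at hh ⊢
  obtain ⟨n1, n2⟩ := CL.M12.mem_Du.1 hn
  have := CL.M12.conj_mem_St n1 hh
  rcases n2 with e | e
  · rwa [e] at this
  · rwa [e, CL.M12.St_compl] at this

def t11 (P : ℕ) : Bool := Nat.beq (img24 P D0) D0 && Nat.beq (app24 P 0) 0
def th11 (P : ℕ) : Bool := t11 P
theorem mem11 : Spor.M11 ≤ M24 ∧ ∀ g P, g ∈ Spor.M11 → R g P → t11 P = true :=
  ⟨inf_le_left.trans mem12.1, fun _ _ hg hP => Bool.and_eq_true_iff.2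
    ⟨mem12.2 _ _ hg.1 hP, Nat.beq_eq.mpr (R.app_eq hP (p := some 0) hg.2)⟩⟩
theorem in11 {P : ℕ} (h : I M24 P) (h' : t11 P = true) : I Spor.M11 P :=
  In.stabilizer (in12 h (Bool.and_eq_true_iff.1 h').1) (b := 0) (by norm_num)
    (Nat.eq_of_beq_eq_true (Bool.and_eq_true_iff.1 h').2)
theorem memh11 : Spor.M11 ≤ Spor.M11 ∧ ∀ P, I M24 P → th11 P = true → I Spor.M11 P :=
  ⟨le_rfl, fun _ => in11⟩
theorem norm11 : ∀ n ∈ Spor.M11, ∀ h ∈ Spor.M11, n * h * n⁻¹ ∈ Spor.M11 := norm_self _

theorem allI_of {H : Subgroup Pm} {t : ℕ → Bool} (h : ∀ {P}, I M24 P → t P = true → I H P) {L : List ℕ}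
    (hL : lall (fun P => okM P && t P) L = true) : AllI H L := fun P hP =>
  have := Bool.and_eq_true_iff.1 (lall_iff.1 hL P hP)
  h (I.of_okM this.1) this.2

def ga24 : List ℕ := [591125190484244146974128386851979338, 394717757560647193970824518315953856, 689530553183503605913137660518189733]

theorem ga24_in : AllI M24 ga24 := allI_of (t := t24) (fun h _ => h) (by decide +kernel)

theorem ga24_eq : M24 = grp ga24 :=
  ga24_in.eq_grp (B := [(0, 24), (1, 23), (2, 22), (3, 21), (4, 20), (5, 16), (6, 3)]) (J := [43, 44, 45, 44, 41, 39, 34, 31, 27, 25, 18, 16, 5, 1, 0]) (prog := [(0, 3), (0, 2), (3, 0), (0, 2), (2, 0), (2, 1), (0, 8), (0, 9), (0, 7), (5, 1), (0, 2), (0, 8), (3, 0), (0, 10), (0, 11), (0, 12), (4, 1), (0, 2), (2, 0), (7, 0), (1, 1), (0, 2), (0, 7), (0, 12), (0, 9), (0, 8), (0, 2), (9, 0), (3, 0), (1, 1), (0, 3), (0, 4), (0, 4), (0, 16), (0, 10), (0, 18), (0, 19), (0, 13), (8, 10), (0, 22), (0, 16), (0, 17), (15, 1)])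
    (by decide +kernel) card_M24.le

theorem good24_3 : Good M24 M24 ga24 [591125190484244146974128386851979338, 394717757560647193970824518315953856, 689530553183503605913137660518189733] :=
  Good.done ga24_in ga24_eq

theorem good24_2 : Good M24 M24 ga24 [591125190484244146974128386851979338, 394717757560647193970824518315953856] :=
  Good.step (S := [2]) (T := [2, 2]) (rels := [([5, 0], 6)])
    (m := 457822919442383706259378233411750632) (Cs := [984818244535754528103549039458486304])
    (reps := [689530553183503605913137660518189733]) (tH := t24) (th := th24)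
    ga24_in mem24 memh24 norm24 (by decide +kernel) (by decide +kernel) (by
    simp only [List.mem_cons, List.not_mem_nil, or_false, forall_eq_or_imp, forall_eq]
    exact good24_3)

theorem good24_1 : Good M24 M24 ga24 [591125190484244146974128386851979338] :=
  Good.step (S := [0]) (T := [0, 0]) (rels := [])
    (m := 278005254942270151300183596051023543) (Cs := [984818244535754528103549039458486304, 591125190484244146974128386851979338, 66752113344638562350418903045546502, 105172834899805508885718222639879427, 21599065780800051368554886900255958, 362430224803521536644116261403964809, 815276264443513123004939138902285461, 670221392194476908479157138098598575, 890622264088670392997150039340679604, 374642979963040688129457269098236279, 933896740722862112997233818113295984, 302499917780626389737427274515780136, 844453172676943102327173808934902350, 426216318752422449492420043143789671, 640245094003724752369061355265764996, 141104750009556139570552715728081201, 721100137528856542665093707577244396, 189855054399076629319244942933165517, 752518325863799463069068273991208162, 277223034675199392242125596999263731, 500372766998420747617494174165870603,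 464889914536073880804132821871632065, 542989580020818162365708412429900114])
    (reps := [394717757560647193970824518315953856]) (tH := t24) (th := th24)
    ga24_in mem24 memh24 norm24 (by decide +kernel) (by decide +kernel) (by
    simp only [List.mem_cons, List.not_mem_nil, or_false, forall_eq_or_imp, forall_eq]
    exact good24_2)

theorem good24_5 : Good M24 M24 ga24 [362430224803521536644116261403964809, 394717757560647193970824518315953856] :=
  Good.step (S := [2]) (T := [2, 2]) (rels := [([1, 4], 6)])
    (m := 457822919442383706259378233411750632) (Cs := [])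
    (reps := []) (tH := t24) (th := th24)
    ga24_in mem24 memh24 norm24 (by decide +kernel) (by decide +kernel) (by simp)

theorem good24_4 : Good M24 M24 ga24 [362430224803521536644116261403964809] :=
  Good.step (S := [0]) (T := [0, 0]) (rels := [])
    (m := 236398112539060449040386381282122135) (Cs := [984818244535754528103549039458486304, 362430224803521536644116261403964809, 426216318752422449492420043143789671, 844453172676943102327173808934902350, 21599065780800051368554886900255958, 374642979963040688129457269098236279, 815276264443513123004939138902285461, 66752113344638562350418903045546502, 752518325863799463069068273991208162, 721100137528856542665093707577244396, 105172834899805508885718222639879427, 670221392194476908479157138098598575, 542989580020818162365708412429900114, 464889914536073880804132821871632065, 933896740722862112997233818113295984, 500372766998420747617494174165870603, 277223034675199392242125596999263731, 189855054399076629319244942933165517, 141104750009556139570552715728081201, 640245094003724752369061355265764996, 302499917780626389737427274515780136, 890622264088670392997150039340679604,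 591125190484244146974128386851979338])
    (reps := [394717757560647193970824518315953856]) (tH := t24) (th := th24)
    ga24_in mem24 memh24 norm24 (by decide +kernel) (by decide +kernel) (by
    simp only [List.mem_cons, List.not_mem_nil, or_false, forall_eq_or_imp, forall_eq]
    exact good24_5)

theorem good24 : Good M24 M24 ga24 [] :=
  Good.start (p := 23) (Cs := [984818244535754528103549039458486304, 458508053049759177234646338019415616, 876735380756044361841808442087780480, 605273577435578554121198838915538400, 296744831846887949455451979380209152, 352731675272236929823657671607919808, 553549727294584687907325705344069152, 506723423241225233372760100445412672, 394717757560647193970824518315953856, 109544586885126371908823032988377184, 811644159930194949723012904109193856])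
    (reps := [591125190484244146974128386851979338, 362430224803521536644116261403964809]) (tH := t24) (th := th24)
    ga24_in mem24 memh24 norm24 (by norm_num) (by rw [card_M24]; norm_num) (by decide +kernel) (by
    simp only [List.mem_cons, List.not_mem_nil, or_false, forall_eq_or_imp, forall_eq]
    exact ⟨good24_1, good24_4⟩)


theorem cent24 : ∀ n ∈ M24, (∀ h ∈ M24, n * h = h * n) → n = 1 :=
  cent_trivial (a := lget ga24 0) (b := lget ga24 1) (m := 278005254942270151300183596051023543)
    (ga24_in _ (lget_mem (by decide))) (ga24_in _ (lget_mem (by decide))) le_rfl (by decide +kernel)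

theorem out24 : Nat.card (Cfsg.Out M24) = 1 :=
  card_out norm24 good24 le_rfl cent24 (by rw [card_M24])

def ga23 : List ℕ := [969883688222012611799282250295056616, 965855360976994336510270754688224608, 969747941152285809484562800913422368]

theorem ga23_in : AllI Spor.M23 ga23 := allI_of (t := th23) in23 (by decide +kernel)

theorem ga23_eq : Spor.M23 = grp ga23 :=
  ga23_in.eq_grp (B := [(0, 23), (1, 22), (2, 21), (3, 20), (4, 16), (5, 3)]) (J := [40, 41, 42, 33, 42, 25, 24, 19, 15, 8, 6, 2, 0]) (prog := [(0, 0), (0, 1), (0, 2), (0, 5), (0, 7), (0, 8), (0, 7), (0, 0), (10, 0), (1, 1), (0, 4), (0, 5), (0, 15), (0, 7), (0, 8), (17, 18), (0, 0), (2, 0), (1, 1), (0, 4), (0, 5), (4, 7), (0, 7), (0, 8), (0, 10), (4, 0), (1, 0), (1, 1), (0, 2), (0, 9), (0, 6), (0, 7), (5, 12), (0, 13), (7, 8), (0, 15), (0, 12), (0, 17), (4, 0), (0, 2)])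
    (by decide +kernel) card_M23.le

theorem good23_3 : Good Spor.M23 Spor.M23 ga23 [969883688222012611799282250295056616, 965855360976994336510270754688224608, 969747941152285809484562800913422368] :=
  Good.done ga23_in ga23_eq

theorem good23_2 : Good Spor.M23 Spor.M23 ga23 [969883688222012611799282250295056616, 965855360976994336510270754688224608] :=
  Good.step (S := [2]) (T := [2, 2, 2]) (rels := [([4, 0], 5)])
    (m := 377943863318768225604812479687860972) (Cs := [984818244535754528103549039458486304])
    (reps := [969747941152285809484562800913422368]) (tH := t23) (th := th23)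
    ga23_in mem23 memh23 norm23 (by decide +kernel) (by decide +kernel) (by
    simp only [List.mem_cons, List.not_mem_nil, or_false, forall_eq_or_imp, forall_eq]
    exact good23_3)

theorem good23_1 : Good Spor.M23 Spor.M23 ga23 [969883688222012611799282250295056616] :=
  Good.step (S := [0]) (T := [0, 0]) (rels := [])
    (m := 880502710900288488116640120675912087) (Cs := [984818244535754528103549039458486304, 969883688222012611799282250295056616, 972852751474007675549329176531098212, 967801803068879003312549504253930836, 979092896635195971658840697624794535, 976531393364396476551461874050944674, 971122471770659965364157344834238771, 959781714112253094193639996564026895, 955521518420033427211652854770542758, 966468725560044018312798575892546006, 960619378776374387303825374161568331, 968918814990924571788311728387923436, 975626606395467622706104186172936265, 977554003679648976986185384597988373, 973568719639059724426700418740082017, 981649868258955412727617887697052045, 963784904907358383913190093461172784, 958800254163722006470394265565841514, 983057147971374808303802480896397507, 962546635683242964389809367595171537, 956940105307810900913455617251216645,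 980500686745366777114808540100560530, 965364708465056605812036534431401102])
    (reps := [965855360976994336510270754688224608]) (tH := t23) (th := th23)
    ga23_in mem23 memh23 norm23 (by decide +kernel) (by decide +kernel) (by
    simp only [List.mem_cons, List.not_mem_nil, or_false, forall_eq_or_imp, forall_eq]
    exact good23_2)

theorem good23_5 : Good Spor.M23 Spor.M23 ga23 [977554003679648976986185384597988373, 965855360976994336510270754688224608] :=
  Good.step (S := [2]) (T := [2, 2, 2]) (rels := [([1, 5], 5)])
    (m := 377943863318768225604812479687860972) (Cs := [])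
    (reps := []) (tH := t23) (th := th23)
    ga23_in mem23 memh23 norm23 (by decide +kernel) (by decide +kernel) (by simp)

theorem good23_4 : Good Spor.M23 Spor.M23 ga23 [977554003679648976986185384597988373] :=
  Good.step (S := [0]) (T := [0, 0]) (rels := [])
    (m := 255746107578157915281608270058587575) (Cs := [984818244535754528103549039458486304, 977554003679648976986185384597988373, 976531393364396476551461874050944674, 975626606395467622706104186172936265, 965364708465056605812036534431401102, 960619378776374387303825374161568331, 966468725560044018312798575892546006, 971122471770659965364157344834238771, 958800254163722006470394265565841514, 967801803068879003312549504253930836, 972852751474007675549329176531098212, 981649868258955412727617887697052045, 955521518420033427211652854770542758, 980500686745366777114808540100560530, 968918814990924571788311728387923436, 973568719639059724426700418740082017, 983057147971374808303802480896397507, 963784904907358383913190093461172784, 959781714112253094193639996564026895, 962546635683242964389809367595171537, 956940105307810900913455617251216645, 969883688222012611799282250295056616,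 979092896635195971658840697624794535])
    (reps := [965855360976994336510270754688224608]) (tH := t23) (th := th23)
    ga23_in mem23 memh23 norm23 (by decide +kernel) (by decide +kernel) (by
    simp only [List.mem_cons, List.not_mem_nil, or_false, forall_eq_or_imp, forall_eq]
    exact good23_5)

theorem good23 : Good Spor.M23 Spor.M23 ga23 [] :=
  Good.start (p := 23) (Cs := [984818244535754528103549039458486304, 962414378389580090002088468513641856, 975554113782673051148977952039213216, 981914118328285293929074585286194272, 961373791874425626278141613484066432, 970042259234235144896708188105226816, 971388341733070890338039826732489856, 956969035208651413700475907429639648, 965855360976994336510270754688224608, 978996827397397932899348738166375104, 959945198902321823804075994707568896])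
    (reps := [969883688222012611799282250295056616, 977554003679648976986185384597988373]) (tH := t23) (th := th23)
    ga23_in mem23 memh23 norm23 (by norm_num) (by rw [card_M23]; norm_num) (by decide +kernel) (by
    simp only [List.mem_cons, List.not_mem_nil, or_false, forall_eq_or_imp, forall_eq]
    exact ⟨good23_1, good23_4⟩)


theorem cent23 : ∀ n ∈ Spor.M23, (∀ h ∈ Spor.M23, n * h = h * n) → n = 1 :=
  cent_trivial (a := lget ga23 0) (b := lget ga23 1) (m := 880502710900288488116640120675912087)
    (ga23_in _ (lget_mem (by decide))) (ga23_in _ (lget_mem (by decide))) mem23.1 (by decide +kernel)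

theorem out23 : Nat.card (Cfsg.Out Spor.M23) = 1 :=
  card_out norm23 good23 le_rfl cent23 (by rw [card_M23])

def ga22 : List ℕ := [978240190274557698125254107792258560, 962014341913832130684256062939800608, 962688709542928764065900161959810464]

theorem ga22_in : AllI Spor.M22 ga22 := allI_of (t := t22) in22 (by decide +kernel)

theorem ga22_eq : Spor.M22 = grp ga22 :=
  ga22_in.eq_grp (B := [(1, 22), (2, 21), (3, 20), (4, 16), (5, 3)]) (J := [33, 34, 35, 28, 25, 24, 15, 11, 5, 3, 0]) (prog := [(0, 0), (0, 4), (0, 3), (0, 4), (0, 7), (7, 0), (0, 8), (0, 10), (3, 1), (4, 0), (2, 0), (1, 1), (0, 3), (0, 6), (0, 10), (0, 8), (0, 9), (0, 10), (9, 0), (0, 2), (0, 3), (0, 13), (4, 0), (14, 1), (0, 16), (0, 8), (0, 18), (0, 19), (10, 20), (0, 12), (0, 0), (0, 10), (0, 5)])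
    (by decide +kernel) card_M22.le

theorem good22_3 : Good Spor.M22 Duad ga22 [978240190274557698125254107792258560, 962014341913832130684256062939800608, 962688709542928764065900161959810464] :=
  Good.done ga22_in ga22_eq

theorem good22_2 : Good Spor.M22 Duad ga22 [978240190274557698125254107792258560, 962014341913832130684256062939800608] :=
  Good.step (S := [2]) (T := [2, 2]) (rels := [([4, 1], 7), ([0, 0, 5], 11)])
    (m := 599307543781840067587020037848325297) (Cs := [984818244535754528103549039458486304])
    (reps := [962688709542928764065900161959810464]) (tH := t22) (th := th22)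
    ga22_in mem22 memh22 norm22 (by decide +kernel) (by decide +kernel) (by
    simp only [List.mem_cons, List.not_mem_nil, or_false, forall_eq_or_imp, forall_eq]
    exact good22_3)

theorem good22_1 : Good Spor.M22 Duad ga22 [978240190274557698125254107792258560] :=
  Good.step (S := [0]) (T := [0, 0, 0]) (rels := [])
    (m := 393415496472692487473065090867180269) (Cs := [984818244535754528103549039458486304, 958107259180361783550630650541884992, 978240190274557698125254107792258560, 972716524758594005257164857988829312, 966073569562070688947192987818078560, 981924143674619876420016672684938464, 975599276284216401748972584373332640, 967230336263617258629168399710921312, 961924359280949682093679365404048576, 971219501098577799734406642506848704, 969040590680147461918753990235006048])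
    (reps := [962014341913832130684256062939800608]) (tH := t22) (th := th22)
    ga22_in mem22 memh22 norm22 (by decide +kernel) (by decide +kernel) (by
    simp only [List.mem_cons, List.not_mem_nil, or_false, forall_eq_or_imp, forall_eq]
    exact good22_2)

theorem good22 : Good Spor.M22 Duad ga22 [] :=
  Good.start (p := 11) (Cs := [984818244535754528103549039458486304, 25168828008162229558353144533127511, 978112160983175026376331470595341344, 962014341913832130684256062939800608, 966338504168041787751387870142244896, 14670610174225585291268249385043287, 21684654115993684290252268676364631, 7992910404102179853726336865618263, 971741779563050630254604756882837536, 3980917061641628199418002693379415])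
    (reps := [978240190274557698125254107792258560]) (tH := t22) (th := th22)
    ga22_in mem22 memh22 norm22 (by norm_num) (by rw [card_M22]; norm_num) (by decide +kernel) (by
    simp only [List.mem_cons, List.not_mem_nil, or_false, forall_eq_or_imp, forall_eq]
    exact good22_1)


theorem cent22 : ∀ n ∈ Duad, (∀ h ∈ Spor.M22, n * h = h * n) → n = 1 :=
  cent_trivial (a := lget ga22 0) (b := lget ga22 1) (m := 393415496472692487473065090867180269)
    (ga22_in _ (lget_mem (by decide))) (ga22_in _ (lget_mem (by decide))) inf_le_left (by decide +kernel)

theorem out22 : Nat.card (Cfsg.Out Spor.M22) = 2 :=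
  card_out norm22 good22 M22_le_Duad cent22 (by rw [card_Duad, card_M22])

def ga12 : List ℕ := [601318074912315951580919352664798211, 226661283549525814284372254476502432, 809159804169532380442896524620636192, 944159440525490006175915498069739724]

theorem ga12_in : AllI Spor.M12 ga12 := allI_of (t := t12) in12 (by decide +kernel)

theorem ga12_eq : Spor.M12 = grp ga12 :=
  ga12_in.eq_grp (B := [(0, 12), (1, 11), (2, 10), (3, 9), (4, 8)]) (J := [26, 27, 28, 29, 27, 19, 15, 12, 8, 6, 1, 0]) (prog := [(0, 0), (2, 0), (1, 1), (0, 2), (0, 5), (0, 9), (0, 7), (0, 0), (0, 10), (0, 11), (0, 4), (9, 5), (0, 6), (0, 15), (0, 0), (0, 5), (0, 3), (0, 7), (7, 8), (0, 6), (0, 0), (0, 1), (0, 5), (0, 4), (0, 5), (7, 6)])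
    (by decide +kernel) card_M12.le

theorem good12_4 : Good Spor.M12 DuD ga12 [601318074912315951580919352664798211, 226661283549525814284372254476502432, 809159804169532380442896524620636192, 944159440525490006175915498069739724] :=
  Good.done ga12_in ga12_eq

theorem good12_3 : Good Spor.M12 DuD ga12 [601318074912315951580919352664798211, 226661283549525814284372254476502432, 809159804169532380442896524620636192] :=
  Good.step (S := [2]) (T := [2]) (rels := [([6], 2), ([5, 1, 7], 6)])
    (m := 383805913261513346573818566541512434) (Cs := [984818244535754528103549039458486304])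
    (reps := [944159440525490006175915498069739724]) (tH := t12) (th := th12)
    ga12_in mem12 memh12 norm12 (by decide +kernel) (by decide +kernel) (by
    simp only [List.mem_cons, List.not_mem_nil, or_false, forall_eq_or_imp, forall_eq]
    exact good12_4)

theorem good12_2 : Good Spor.M12 DuD ga12 [601318074912315951580919352664798211, 226661283549525814284372254476502432] :=
  Good.step (S := [2]) (T := [2, 2]) (rels := [([4, 0], 5)])
    (m := 383805913261513346573818566541512434) (Cs := [984818244535754528103549039458486304])
    (reps := [809159804169532380442896524620636192]) (tH := t12) (th := th12)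
    ga12_in mem12 memh12 norm12 (by decide +kernel) (by decide +kernel) (by
    simp only [List.mem_cons, List.not_mem_nil, or_false, forall_eq_or_imp, forall_eq]
    exact good12_3)

theorem good12_1 : Good Spor.M12 DuD ga12 [601318074912315951580919352664798211] :=
  Good.step (S := [0]) (T := [0, 0, 0]) (rels := [])
    (m := 510699212073750952625486688621188375) (Cs := [984818244535754528103549039458486304, 425388958553456052550726295572529736, 601318074912315951580919352664798211, 479623769706258795846953541566899458, 938736686534162073228920827884476493, 879511636871309252598806336351015024, 222564632325576838603810641806368897, 724757012994236164025984060727296294, 321421303642328644136978329967461897, 637014998277138011092511606240758180, 816960446919211979025126144311823570])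
    (reps := [226661283549525814284372254476502432]) (tH := t12) (th := th12)
    ga12_in mem12 memh12 norm12 (by decide +kernel) (by decide +kernel) (by
    simp only [List.mem_cons, List.not_mem_nil, or_false, forall_eq_or_imp, forall_eq]
    exact good12_2)

theorem good12 : Good Spor.M12 DuD ga12 [] :=
  Good.start (p := 11) (Cs := [984818244535754528103549039458486304, 333701788990939013769867843058456049, 715832990187987895363275658326384704, 226661283549525814284372254476502432, 484491864225173778156846596243994112, 560905055603494892696454512390778545, 759429339752260589967454647201779057, 4275164351947502332912507485404881, 648657378302330999751454372381933824, 252490692382940914100767719273257585])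
    (reps := [601318074912315951580919352664798211]) (tH := t12) (th := th12)
    ga12_in mem12 memh12 norm12 (by norm_num) (by rw [card_M12]; norm_num) (by decide +kernel) (by
    simp only [List.mem_cons, List.not_mem_nil, or_false, forall_eq_or_imp, forall_eq]
    exact good12_1)


theorem cent12 : ∀ n ∈ DuD, (∀ h ∈ Spor.M12, n * h = h * n) → n = 1 :=
  cent_trivial (a := lget ga12 0) (b := lget ga12 1) (m := 510699212073750952625486688621188375)
    (ga12_in _ (lget_mem (by decide))) (ga12_in _ (lget_mem (by decide))) inf_le_left (by decide +kernel)

theorem out12 : Nat.card (Cfsg.Out Spor.M12) = 2 :=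
  card_out norm12 good12 memh12.1 cent12 (by rw [CL.M12.card_Du D0_mem, card_M12])

def ga11 : List ℕ := [733867580063203598871318677617161344, 444730062304146193971491297584951328, 809127892823755776035426641505355808]

theorem ga11_in : AllI Spor.M11 ga11 := allI_of (t := t11) in11 (by decide +kernel)

theorem ga11_eq : Spor.M11 = grp ga11 :=
  ga11_in.eq_grp (B := [(1, 11), (2, 10), (3, 9), (4, 8)]) (J := [20, 21, 22, 12, 22, 22, 9, 4, 0]) (prog := [(0, 0), (2, 0), (1, 1), (0, 3), (0, 7), (0, 6), (0, 7), (0, 8), (0, 1), (0, 12), (0, 3), (0, 0), (0, 1), (0, 16), (0, 4), (0, 18), (18, 0), (0, 7), (0, 21), (0, 22)])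
    (by decide +kernel) card_M11.le

theorem good11_3 : Good Spor.M11 Spor.M11 ga11 [733867580063203598871318677617161344, 444730062304146193971491297584951328, 809127892823755776035426641505355808] :=
  Good.done ga11_in ga11_eq

theorem good11_2 : Good Spor.M11 Spor.M11 ga11 [733867580063203598871318677617161344, 444730062304146193971491297584951328] :=
  Good.step (S := [2]) (T := [2, 2]) (rels := [([4, 0], 6)])
    (m := 521319073866486884583478044371770541) (Cs := [984818244535754528103549039458486304])
    (reps := [809127892823755776035426641505355808]) (tH := t11) (th := th11)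
    ga11_in mem11 memh11 norm11 (by decide +kernel) (by decide +kernel) (by
    simp only [List.mem_cons, List.not_mem_nil, or_false, forall_eq_or_imp, forall_eq]
    exact good11_3)

theorem good11_1 : Good Spor.M11 Spor.M11 ga11 [733867580063203598871318677617161344] :=
  Good.step (S := [0]) (T := [0, 0, 0]) (rels := [])
    (m := 358743316342368896575090456678286069) (Cs := [984818244535754528103549039458486304, 466969740828779786579428825410635168, 733867580063203598871318677617161344, 819801459857134355277378210612286016, 222771380818191907906815094789655040, 304659992098559930802746911213498464, 603822165200311982830102091187962048, 898564665605995300959084367337360448, 440636898156417468838042058325760288, 837688436636393245093555710782022912, 932835833934658778954208009817203072])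
    (reps := [444730062304146193971491297584951328]) (tH := t11) (th := th11)
    ga11_in mem11 memh11 norm11 (by decide +kernel) (by decide +kernel) (by
    simp only [List.mem_cons, List.not_mem_nil, or_false, forall_eq_or_imp, forall_eq]
    exact good11_2)

theorem good11_5 : Good Spor.M11 Spor.M11 ga11 [222771380818191907906815094789655040, 444730062304146193971491297584951328] :=
  Good.step (S := [2]) (T := [2, 2]) (rels := [([1, 4], 8), ([1, 5], 6)])
    (m := 521319073866486884583478044371770541) (Cs := [])
    (reps := []) (tH := t11) (th := th11)
    ga11_in mem11 memh11 norm11 (by decide +kernel) (by decide +kernel) (by simp)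

theorem good11_4 : Good Spor.M11 Spor.M11 ga11 [222771380818191907906815094789655040] :=
  Good.step (S := [0]) (T := [0, 0, 0]) (rels := [])
    (m := 235655274335518672088310622898703087) (Cs := [984818244535754528103549039458486304, 733867580063203598871318677617161344, 222771380818191907906815094789655040, 440636898156417468838042058325760288, 603822165200311982830102091187962048, 932835833934658778954208009817203072, 837688436636393245093555710782022912, 898564665605995300959084367337360448, 304659992098559930802746911213498464, 466969740828779786579428825410635168, 819801459857134355277378210612286016])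
    (reps := [444730062304146193971491297584951328]) (tH := t11) (th := th11)
    ga11_in mem11 memh11 norm11 (by decide +kernel) (by decide +kernel) (by
    simp only [List.mem_cons, List.not_mem_nil, or_false, forall_eq_or_imp, forall_eq]
    exact good11_5)

theorem good11 : Good Spor.M11 Spor.M11 ga11 [] :=
  Good.start (p := 11) (Cs := [984818244535754528103549039458486304, 319901350905422903803909283326271520, 444730062304146193971491297584951328, 734940250243734082777761102267158560, 486315713316704013443791597546677280])
    (reps := [733867580063203598871318677617161344, 222771380818191907906815094789655040]) (tH := t11) (th := th11)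
    ga11_in mem11 memh11 norm11 (by norm_num) (by rw [card_M11]; norm_num) (by decide +kernel) (by
    simp only [List.mem_cons, List.not_mem_nil, or_false, forall_eq_or_imp, forall_eq]
    exact ⟨good11_1, good11_4⟩)

theorem cent11 : ∀ n ∈ Spor.M11, (∀ h ∈ Spor.M11, n * h = h * n) → n = 1 :=
  cent_trivial (a := lget ga11 0) (b := lget ga11 1) (m := 358743316342368896575090456678286069)
    (ga11_in _ (lget_mem (by decide))) (ga11_in _ (lget_mem (by decide))) mem11.1 (by decide +kernel)

theorem out11 : Nat.card (Cfsg.Out Spor.M11) = 1 :=
  card_out norm11 good11 le_rfl cent11 (by rw [card_M11])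

/-- `Aut(M22)` is the stabiliser of the duad -/
noncomputable def duadEquiv : Duad ≃* MulAut Spor.M22 :=
  MulEquiv.ofBijective _ (conjHom_bijective norm22 good22 cent22)

theorem aut23 (φ : MulAut Spor.M23) : ∃ n : Spor.M23, φ = MulAut.conj n := by
  obtain ⟨n, rfl⟩ := (conjHom_bijective norm23 good23 cent23).2 φ
  exact ⟨n, rfl⟩

theorem aut24 (φ : MulAut M24) : ∃ n : M24, φ = MulAut.conj n := by
  obtain ⟨n, rfl⟩ := (conjHom_bijective norm24 good24 cent24).2 φ
  exact ⟨n, rfl⟩

end CL.MAut
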