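import Cfsg.Agent.SPOR.J4.Frame
import Cfsg.Agent.SPOR.J4.MathOut
import Cfsg.Agent.SPOR.LXSing
import Cfsg.Prelude.Def_JankoFourType

/-!
Coordinates for the centraliser of `z` in a group of Janko-four type.
-/

set_option autoImplicit false
set_option maxRecDepth 100000
set_option linter.unusedSectionVars false

namespace CL.J4

open Finset CL.K CL.CG CL.F2M CL.LX CL.MSS Cfsg CL.Golay CL.MAut MulAction
open CL.F24 hiding qf bf qf_add bf_add_left bf_comm bf_add_right bf_self qf_zero bf_zero_left bf_zero_right bf_eq qC bC qC_code bC_code Z0 code_Z0 code_Z0_inv Z0_sq Z0_cube Z0_sum add_Z0 eq_zero_of_Z0 qf_Z0 qf_Z0_inv bf_smul bf_Z0_self eq_zero_of_bf Frame cw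

attribute [local irreducible] gcode vcode

/-- permutation of order 11 -/
def pC : ℕ := 978240190274557698125254107792258560
/-- permutation of order 5 -/
def pD : ℕ := 962014341913832130684256062939800608
/-- permutation of order 4 -/
def pE : ℕ := 962688709542928764065900161959810464
/-- outer involution -/
def pF : ℕ := 5575743295503858165051577506021815

def S693 : ℕ := 0x802040100802040104028010402008010280041020084001600000900600000924181824814242814812124821848421001441001400004100500500500000054008048002102001028020080410400180200802401004010c00c00000300003110000444400001111004400004400114444222288881111000000000000ffff20040180042080018200410000820041004281004200008100a00500a00000058100004242000081018020040420800101200480800420010300c00000c000031080801001080801241818248142428148121248218484219000009009000009444422228888111108088080101001018080080810100101000000000000ffff4812124821848421012010020210200124181824814242810300300000300003102040800804020112008400004800211080020440200801900000600600000982000028140000410804408010200201004884001200002100a00a0050000005200201100220100144442222888811110220011020021001000000000000ffff120000211200002128412841284128411020020110200201000f000f000f000f400104100410400104014010401004012841284128412841000f000f000f000f284128412841284181008100008100810180018080018001000f000f000f000f8080808001010101022010010220100100114400440000116c5f3a6fa9cffffe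
def S1386 : ℕ := 0x164929866194926838c1432c831c34c25825a14a85521aa4900f0f6009f0f00642818142182424188421218412484812aa4114aa41aaaa1400affa00af0000fa2961921694864968c1431c34382c83c2258552581a4aa1a4030f30f0f0c00f0c8899662222669988223388cccc8833221111888822224444ffff0000000000004992681692491668413c823c3c413c82a518245a18a55a240f500af0500ff00a1866992424996618324c13c8c8134c32548a512a2a518a54fc003f00003f00fc86161686686161681824241842818142124848128421218460f0f060060f0f062222444411118888c4c44c4c232332322a2aa2a24545545400000000ffff00002184842148121248c21c2cc1c12c1cc281424281241818240cf0c00f0fc0f00c894626199162649821cc48333384cc12452aa851158aa2546f00009ff90000f61496694182966928343883432c1cc1c25a1221a5485aa584f050050fa0f00f0a46649889644689988888111144442222a88a54458aa845540000ffff00000000846996488469964814821482148214824a8558a44a8558a4f000f000f000f0002698628962892698c8328c238c23c832821482148214821400f000f000f000f0412841284128412842c342c3c342c342a425a42525a425a40f000f000f000f0019191919989898983113233231132332554411551155554493a0c59056300000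
def S2016 : ℕ := 0x6996966996696996c33c3cc33cc3c33ca55a5aa55aa5a55a0ff0f00ff00f0ff0996666996699996633cccc33cc3333cc55aaaa55aa5555aaff0000ff00ffff0096966969696996963c3cc3c3c3c33c3c5a5aa5a5a5a55a5af0f00f0f0f0ff0f06666999999996666cccc33333333ccccaaaa55555555aaaa0000ffffffff000096699669699669963cc33cc3c33cc33c5aa55aa5a55aa55af00ff00f0ff00ff06699669999669966cc33cc3333cc33ccaa55aa5555aa55aa00ff00ffff00ff006969696996969696c3c3c3c33c3c3c3ca5a5a5a55a5a5a5a0f0f0f0ff0f0f0f0999999996666666633333333cccccccc55555555aaaaaaaaffffffff0000000096696996966969963cc3c33c3cc3c33c5aa5a55a5aa5a55af00f0ff0f00f0ff06699996666999966cc3333cccc3333ccaa5555aaaa5555aa00ffff0000ffff006969969669699696c3c33c3cc3c33c3ca5a55a5aa5a55a5a0f0ff0f00f0ff0f099996666999966663333cccc3333cccc5555aaaa5555aaaaffff0000ffff00006996699669966996c33cc33cc33cc33ca55aa55aa55aa55a0ff00ff00ff00ff0996699669966996633cc33cc33cc33cc55aa55aa55aa55aaff00ff00ff00ff0096969696969696963c3c3c3c3c3c3c3c5a5a5a5a5a5a5a5af0f0f0f0f0f0f0f06666666666666666ccccccccccccccccaaaaaaaaaaaaaaaa0000000000000000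

/-- generators of the linear group -/
def LG : List ℕ := [cC, cD, cE, cF, cX]

theorem top_LG : ∀ c ∈ LG, Mem (gcode : GL12 → ℕ) ⊤ c := by
  have : lall (fun c => F2M.unitB 12 CM 4095 c (powC mm c1 c 659)) LG = true := by decide +kernel
  exact fun c hc => ok12.mem_of_unitB (lall_iff.1 this c hc)

theorem orb693 (v : W) : v ∈ orbit (gen gcode LG : Subgroup GL12) (vdec 12 1) ↔
    S693.testBit (vcode v) = true :=
  (A12.orbit_eq C12 top_LG (b := 1) (S := S693) (m := 693) (by norm_num) (by decide +kernel)).2 v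

theorem orb1386 (v : W) : v ∈ orbit (gen gcode LG : Subgroup GL12) (vdec 12 20) ↔
    S1386.testBit (vcode v) = true :=
  (A12.orbit_eq C12 top_LG (b := 20) (S := S1386) (m := 1386) (by norm_num) (by decide +kernel)).2 v

theorem orb2016 (v : W) : v ∈ orbit (gen gcode LG : Subgroup GL12) (vdec 12 65) ↔
    S2016.testBit (vcode v) = true :=
  (A12.orbit_eq C12 top_LG (b := 65) (S := S2016) (m := 2016) (by norm_num) (by decide +kernel)).2 v

theorem vec_cases {c : ℕ} (hc : c < 4096) : (qC c = 0 ∧ (c = 0 ∨ S693.testBit c = true ∨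
    S1386.testBit c = true)) ∨ (qC c = 1 ∧ S2016.testBit c = true) := by
  have : allN (fun c => Nat.beq (qC c) 0 && (Nat.beq c 0 || inMask S693 c || inMask S1386 c) ||
    Nat.beq (qC c) 1 && inMask S2016 c) 4096 = true := by decide +kernel
  have h := allN_spec this c hc
  simp only [Bool.or_eq_true, Bool.and_eq_true, Nat.beq_eq] at h
  rcases h with ⟨h1, (h2 | h2) | h2⟩ | ⟨h1, h2⟩
  exacts [Or.inl ⟨h1, Or.inl h2⟩, Or.inl ⟨h1, Or.inr (Or.inl (inMask_spec h2))⟩,
    Or.inl ⟨h1, Or.inr (Or.inr (inMask_spec h2))⟩, Or.inr ⟨h1, inMask_spec h2⟩]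

variable {G : Type*} [Group G]

theorem frame_of_pre {z : G} {Q : Subgroup G} {κ : G → W}
    {ρ : Subgroup.centralizer ({z} : Set G) →* GL12} {P : W → ZMod 2} (h : Pre z Q κ ρ P)
    (hl : LX Q z) (hc : Nat.card Q = 2 ^ 13) (hΓ : gen gcode LG ≤ ρ.range) : Frame z Q κ ρ := by
  have hinv : ∀ v w, v ∈ orbit (gen gcode LG : Subgroup GL12) w → P v = P w := by
    rintro _ w ⟨⟨g, hg⟩, rfl⟩
    obtain ⟨c, rfl⟩ := hΓ hg
    obtain ⟨x, hx, rfl⟩ := h.κ_surj w
    have hcz : (c : G) * z = z * c := Subgroup.mem_centralizer_singleton_iff.1 c.2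
    have h1 := h.sq _ (hl.norm c hcz x hx)
    have h2 : c * x * (c : G)⁻¹ * (c * x * (c : G)⁻¹) = c * (x * x) * (c : G)⁻¹ := by group
    rw [h2, h.sq x hx, zp_comm' hcz, mul_inv_cancel_right, h.κ_conj c x hx] at h1
    exact (zp_inj hl.z_ne h1).symm
  have ha : ∀ a < 4096, S693.testBit a = true → P (vdec 12 a) = P (vdec 12 1) := fun a ha e =>
    hinv _ _ (by rw [orb693, vcode_vdec ha, e])
  have hb : ∀ a < 4096, S1386.testBit a = true → P (vdec 12 a) = P (vdec 12 20) := fun a ha e =>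
    hinv _ _ (by rw [orb1386, vcode_vdec ha, e])
  have he : ∀ a < 4096, S2016.testBit a = true → P (vdec 12 a) = P (vdec 12 65) := fun a ha e =>
    hinv _ _ (by rw [orb2016, vcode_vdec ha, e])
  have c1 := h.cubic (vdec 12 64) (vdec 12 128) (vdec 12 256)
  have c2 := h.cubic (vdec 12 1) (vdec 12 4) (vdec 12 32)
  simp only [← vdec_xor] at c1 c2
  rw [ha (64 ^^^ 128 ^^^ 256) (by decide) (by decide +kernel),
    ha (64 ^^^ 128) (by decide) (by decide +kernel), ha (64 ^^^ 256) (by decide) (by decide +kernel),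
    ha (128 ^^^ 256) (by decide) (by decide +kernel), ha 64 (by decide) (by decide +kernel),
    ha 128 (by decide) (by decide +kernel), ha 256 (by decide) (by decide +kernel)] at c1
  rw [ha (1 ^^^ 4 ^^^ 32) (by decide) (by decide +kernel),
    ha (1 ^^^ 4) (by decide) (by decide +kernel), ha (1 ^^^ 32) (by decide) (by decide +kernel),
    hb (4 ^^^ 32) (by decide) (by decide +kernel), ha 4 (by decide) (by decide +kernel),
    ha 32 (by decide) (by decide +kernel)] at c2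
  have pa : P (vdec 12 1) = 0 := by
    revert c1; generalize P (vdec 12 1) = a; revert a; decide
  have pb : P (vdec 12 20) = 0 := by
    revert c2; generalize P (vdec 12 1) = a, P (vdec 12 20) = b; revert a b; decide
  have p0 : P 0 = 0 := by
    have := h.cubic 0 0 0
    revert this; simp only [add_zero]; generalize P 0 = a; revert a; decide
  have hP : ∀ v, P v = P (vdec 12 65) * qf v := fun v => by
    have hq := qC_code v
    have hv := vdec_vcode v
    rcases vec_cases (vcode_lt v) with ⟨e, h1⟩ | ⟨e, h1⟩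
    · rw [e, eq_comm, ZMod.val_eq_zero] at hq
      rw [hq, mul_zero, ← hv]
      rcases h1 with h1 | h1 | h1
      exacts [by rw [h1, vdec_zero, p0], (ha _ (vcode_lt v) h1).trans pa,
        (hb _ (vcode_lt v) h1).trans pb]
    · have : qf v = 1 := ZMod.val_injective 2 (hq.symm.trans e)
      rw [this, mul_one, ← hv, he _ (vcode_lt v) h1]
  refine ⟨hl, hc, h.κ_mul, h.κ_surj, h.κ_zero, h.κ_conj, fun x hx => ?_⟩
  rcases z2_cases (P (vdec 12 65)) with e | e
  · obtain ⟨a, ha, b, hb, hab⟩ := hl.nonab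
    have h1 : ∀ y ∈ Q, y * y = 1 := fun y hy => by rw [h.sq y hy, hP, e, zero_mul, zp_zero]
    have := hl.mul_sq_of_not_comm ha hb hab
    rw [h1 _ (mul_mem ha hb), h1 a ha, h1 b hb, one_mul, one_mul] at this
    exact absurd this.symm hl.z_ne
  · rw [h.sq x hx, hP, e, one_mul]

/-- the hypotheses on the centraliser, with a chosen element of order 3 -/
structure Raw (z : G) (Q : Subgroup G) (μ : Subgroup.centralizer ({z} : Set G) →* Pm)
    (ξ : Subgroup.centralizer ({z} : Set G)) : Prop where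
  lx : LX Q z
  card : Nat.card Q = 2 ^ 13
  range : μ.range = Duad
  x3 : ξ ^ 3 = 1
  ker : ∀ h, μ h = 1 ↔ ∃ i : ℕ, ((h * ξ ^ i : Subgroup.centralizer ({z} : Set G)) : G) ∈ Q
  fpf : ∀ q ∈ Q, q * ξ = ξ * q → q = 1 ∨ q = z
  inv : ∃ h, h * ξ * h⁻¹ = ξ⁻¹

theorem mem_zpowers_iff3 {X : Type*} [Group X] {ζ y : X} (h3 : ζ ^ 3 = 1) :
    y ∈ Subgroup.zpowers ζ ↔ ∃ i : ℕ, y * ζ ^ i = 1 := by
  constructor
  · intro h
    rcases mem_zpowers_three h3 h with rfl | rfl | rfl
    exacts [⟨0, by simp⟩, ⟨2, by rw [← pow_succ', h3]⟩, ⟨1, by rw [← pow_two, ← pow_add, h3]⟩]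
  · rintro ⟨i, h⟩
    rw [eq_inv_of_mul_eq_one_left h]
    exact inv_mem (pow_mem (Subgroup.mem_zpowers ζ) i)

theorem Raw.sq {z : G} {Q : Subgroup G} {μ : Subgroup.centralizer ({z} : Set G) →* Pm}
    {ξ : Subgroup.centralizer ({z} : Set G)} (h : Raw z Q μ ξ) : Raw z Q μ (ξ * ξ) := by
  have e : ξ * ξ = ξ⁻¹ := eq_inv_of_mul_eq_one_left (by rw [← pow_two, ← pow_succ, h.x3])
  have e2 : ξ = (ξ * ξ) ^ 2 := by rw [← pow_two, ← pow_mul, pow_succ, h.x3, one_mul]
  refine ⟨h.lx, h.card, h.range, by rw [e, inv_pow, h.x3, inv_one], fun k => (h.ker k).trans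
    ⟨fun ⟨i, hi⟩ => ⟨2 * i, by rwa [pow_mul, ← e2]⟩, fun ⟨i, hi⟩ => ⟨2 * i, by rwa [pow_mul, pow_two]⟩⟩,
    fun q hq hc => h.fpf q hq ?_, ?_⟩
  · rw [e] at hc
    exact (Commute.inv_right_iff.1 (show Commute q (ξ : G)⁻¹ from hc)).eq
  · obtain ⟨k, hk⟩ := h.inv
    exact ⟨k, by rw [e, ← conj_inv, hk]⟩

namespace Raw

variable [Finite G] {z : G} {Q : Subgroup G} {μ : Subgroup.centralizer ({z} : Set G) →* Pm}
  {ξ : Subgroup.centralizer ({z} : Set G)} (R : Raw z Q μ ξ) {κ : G → W}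
  {ρ : Subgroup.centralizer ({z} : Set G) →* GL12} {P : W → ZMod 2} (h : Pre z Q κ ρ P)
include R h

theorem X3 : ρ ξ ^ 3 = 1 := by rw [← map_pow, R.x3, map_one]

theorem ker' (k : Subgroup.centralizer ({z} : Set G)) : μ k = 1 ↔ ρ k ∈ Subgroup.zpowers (ρ ξ) := by
  rw [R.ker, mem_zpowers_iff3 (R.X3 h)]
  exact exists_congr fun i => by rw [← h.mem_iff R.lx, map_mul, map_pow]

theorem fix_X {v : W} (e : ρ ξ • v = v) : v = 0 := by
  obtain ⟨q, hq, rfl⟩ := h.κ_surj v
  have hz : (ξ : G) * z = z * ξ := Subgroup.mem_centralizer_singleton_iff.1 ξ.2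
  have h1 := R.lx.norm _ hz q hq
  have h2 := h.κ_mul _ (inv_mem hq) _ h1
  have h3 := h.κ_mul _ (inv_mem hq) _ hq
  rw [inv_mul_cancel, (h.κ_zero 1 (one_mem _)).2 (Or.inl rfl)] at h3
  rw [h.κ_conj ξ q hq, e, ← h3, h.κ_zero _ (mul_mem (inv_mem hq) h1), inv_mul_eq_one,
    inv_mul_eq_iff_eq_mul] at h2
  rw [h.κ_zero q hq]
  refine R.fpf q hq ?_
  rcases h2 with h2 | h2
  · exact (mul_inv_eq_iff_eq_mul.1 h2.symm).symm
  · exfalso
    have h4 : ∀ n : ℕ, (ξ : G) ^ n * q * ((ξ : G) ^ n)⁻¹ = q * z ^ n := fun n => by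
      induction n with
      | zero => simp
      | succ n ih =>
        have c : (ξ : G) * z ^ n = z ^ n * ξ := ((show Commute (ξ : G) z from hz).pow_right n).eq
        calc (ξ : G) ^ (n + 1) * q * ((ξ : G) ^ (n + 1))⁻¹
            = ξ * ((ξ : G) ^ n * q * ((ξ : G) ^ n)⁻¹) * (ξ : G)⁻¹ := by rw [pow_succ']; group
          _ = ξ * q * (ξ : G)⁻¹ * (ξ * z ^ n * (ξ : G)⁻¹) := by rw [ih]; group
          _ = _ := by rw [h2, c, pow_succ']; group
    have h5 := h4 3
    rw [← Subgroup.coe_pow, R.x3, pow_succ, pow_two, R.lx.z_sq] at h5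
    exact R.lx.z_ne (by simpa using h5)

theorem sum_X (v : W) : v + ρ ξ • v + ρ ξ • ρ ξ • v = 0 := R.fix_X h (by
  have : ρ ξ • ρ ξ • ρ ξ • v = v := by
    rw [← mul_smul, ← mul_smul, ← pow_two, ← pow_succ, R.X3 h, one_smul]
  rw [smul_add, smul_add, this]
  abel)

theorem X_ne : ρ ξ * ρ ξ ≠ ρ ξ := fun e => by
  have h1 := R.fix_X h (v := eb 0) (by rw [mul_eq_left.1 e, one_smul])
  exact absurd (congrFun h1 0) (by simp [eb])

theorem conj_X (k : Subgroup.centralizer ({z} : Set G)) :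
    ρ k * ρ ξ * (ρ k)⁻¹ = ρ ξ ∨ ρ k * ρ ξ * (ρ k)⁻¹ = ρ ξ * ρ ξ := by
  have h1 : μ (k * ξ * k⁻¹) = 1 := by
    rw [map_mul, map_mul, (R.ker' h ξ).2 (Subgroup.mem_zpowers _), map_inv, mul_one, mul_inv_cancel]
  rw [R.ker' h, map_mul, map_mul, map_inv] at h1
  rcases mem_zpowers_three (R.X3 h) h1 with e | e
  · rw [conj_eq_one_iff] at e
    exact absurd (by rw [e, one_mul]) (R.X_ne h)
  · exact e

theorem comm_of_eq {a b : Subgroup.centralizer ({z} : Set G)} (e : μ a = μ b)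
    (hb : ρ b * ρ ξ = ρ ξ * ρ b) : ρ a * ρ ξ = ρ ξ * ρ a := by
  obtain ⟨i, hi⟩ := (R.ker' h (b⁻¹ * a)).1 (by rw [map_mul, map_inv, e, inv_mul_cancel])
  rw [map_mul, map_inv, eq_inv_mul_iff_mul_eq] at hi
  rw [← hi]
  exact (Commute.mul_left hb ((Commute.refl _).zpow_left i)).eq

theorem inner {k : Subgroup.centralizer ({z} : Set G)} (hk : μ k ∈ Spor.M22) :
    ρ k * ρ ξ = ρ ξ * ρ k := by
  let K := (Subgroup.centralizer ({ρ ξ} : Set GL12)).comap ρ
  have hsq : ∀ A, I Duad A → I (K.map μ) (comp24 A A) := fun A hA => by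
    obtain ⟨a, ha⟩ : pm A ∈ μ.range := R.range ▸ hA.permOf_mem
    refine ⟨_, ⟨a * a, ?_, rfl⟩, by rw [map_mul, ha]; exact Golay.R.mul (rp hA) (rp hA)⟩
    change ρ (a * a) ∈ Subgroup.centralizer _
    rw [Subgroup.mem_centralizer_singleton_iff, ← mul_inv_eq_iff_eq_mul, map_mul]
    have e0 : ρ a * ρ a * ρ ξ * (ρ a * ρ a)⁻¹ = ρ a * (ρ a * ρ ξ * (ρ a)⁻¹) * (ρ a)⁻¹ := by group
    rcases R.conj_X h a with e | e
    · rw [e0, e, e]
    · have e1 : ρ a * (ρ ξ * ρ ξ) * (ρ a)⁻¹ = (ρ a * ρ ξ * (ρ a)⁻¹) * (ρ a * ρ ξ * (ρ a)⁻¹) := by group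
      rw [e0, e, e1, e, show ρ ξ * ρ ξ * (ρ ξ * ρ ξ) = ρ ξ ^ 3 * ρ ξ by
        simp only [pow_succ, pow_zero, one_mul, mul_assoc], R.X3 h, one_mul]
  have hD : ∀ A, (okM A && th22 A) = true → I Duad A := fun A hA =>
    inDuad (I.of_okM (Bool.and_eq_true_iff.1 hA).1) (Bool.and_eq_true_iff.1 hA).2
  have h1 := hsq 958107259180361783550630650541884992 (hD _ (by decide +kernel))
  have h2 := hsq 971741779563050630254604756882837536 (hD _ (by decide +kernel))
  have h3 := I.mul _ _ (hsq 5938494374395201392163656135030295 (hD _ (by decide +kernel)))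
    (hsq 961114247896545750810895626457361088 (hD _ (by decide +kernel)))
  have h4 : Spor.M22 ≤ K.map μ := ga22_eq ▸ Enc.gen_le fun A hA => by
    simp only [ga22, List.mem_cons, List.not_mem_nil, or_false] at hA
    rcases hA with rfl | rfl | rfl
    · convert h1 using 1; decide +kernel
    · convert h2 using 1; decide +kernel
    · convert h3 using 1; decide +kernel
  obtain ⟨b, hb, e⟩ := h4 hk
  exact R.comm_of_eq h e.symm (Subgroup.mem_centralizer_singleton_iff.1 hb)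

theorem outer {k : Subgroup.centralizer ({z} : Set G)} (hk : μ k ∉ Spor.M22) :
    ρ k * ρ ξ = ρ ξ * ρ ξ * ρ k := by
  obtain ⟨a, ha⟩ := R.inv
  have e : ρ ξ * ρ ξ = (ρ ξ)⁻¹ := eq_inv_of_mul_eq_one_left (by rw [← pow_two, ← pow_succ, R.X3 h])
  have h1 : ρ a * ρ ξ = ρ ξ * ρ ξ * ρ a := by
    rw [e, ← map_inv, ← ha, map_mul, map_mul, map_inv, inv_mul_cancel_right]
  have h2 : μ a ∉ Spor.M22 := fun hm => R.X_ne h (mul_right_cancel (h1.symm.trans (R.inner h hm)))
  have hD : ∀ b, μ b ∈ Duad := fun b => R.range ▸ ⟨b, rfl⟩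
  have h3 : μ (a⁻¹ * k) ∈ Spor.M22 := by
    obtain ⟨a1, a2⟩ := mem_Duad.1 (hD a)
    obtain ⟨k1, k2⟩ := mem_Duad.1 (hD k)
    have a3 := a2.resolve_left fun e => h2 (mem_M22.2 ⟨a1, e⟩)
    have k3 := k2.resolve_left fun e => hk (mem_M22.2 ⟨k1, e⟩)
    rw [map_mul, map_inv]
    refine mem_M22.2 ⟨mul_mem (inv_mem a1) k1, ?_, ?_⟩ <;>
      rw [Equiv.Perm.mul_apply, Equiv.Perm.inv_eq_iff_eq]
    exacts [k3.1.trans a3.1.symm, k3.2.trans a3.2.symm]
  have h4 := R.inner h h3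
  rw [map_mul, map_inv] at h4
  calc ρ k * ρ ξ = ρ a * ((ρ a)⁻¹ * ρ k * ρ ξ) := by group
    _ = ρ a * ρ ξ * ((ρ a)⁻¹ * ρ k) := by rw [h4]; group
    _ = _ := by rw [h1]; group

theorem exists_lift {g : Pm} (hg : g ∈ Duad) {n m : ℕ} (hn : g ^ n = 1) (hm : g ^ (3 * m) = g) :
    ∃ k, μ k = g ∧ ρ k ^ n = 1 := by
  obtain ⟨a, rfl⟩ : g ∈ μ.range := R.range ▸ hg
  refine ⟨a ^ (3 * m), by rw [map_pow, hm], ?_⟩
  obtain ⟨i, hi⟩ := (R.ker' h (a ^ n)).1 (by rw [map_pow, hn])
  rw [map_pow, ← pow_mul, mul_comm, pow_mul, ← map_pow, ← hi, pow_mul]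
  simp only
  rw [← zpow_natCast _ 3, ← zpow_mul, mul_comm, zpow_mul, zpow_natCast, R.X3 h, one_zpow, one_pow]

theorem eq_of {a b : Subgroup.centralizer ({z} : Set G)} (e : μ a = μ b) (hb : μ b ∈ Spor.M22)
    {n : ℕ} (hn : Nat.Coprime n 3) (h1 : ρ a ^ n = 1) (h2 : ρ b ^ n = 1) : ρ a = ρ b := by
  obtain ⟨i, hi⟩ := (R.ker' h (b⁻¹ * a)).1 (by rw [map_mul, map_inv, e, inv_mul_cancel])
  rw [map_mul, map_inv, eq_inv_mul_iff_mul_eq] at hi
  have c : Commute (ρ b) (ρ ξ ^ i) := (show Commute (ρ b) (ρ ξ) from R.inner h hb).zpow_right i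
  rw [← hi, c.mul_pow, h2, one_mul] at h1
  have h3 : (ρ ξ ^ i) ^ 3 = 1 := by
    rw [← zpow_natCast _ 3, ← zpow_mul, mul_comm, zpow_mul, zpow_natCast, R.X3 h, one_zpow]
  have h4 : ρ ξ ^ i = 1 := by
    have := (pow_gcd_eq_one (a := ρ ξ ^ i) (m := n) (n := 3)).2 ⟨h1, h3⟩
    rwa [hn, pow_one] at this
  rw [← hi]
  simp only [h4, mul_one]

omit R h in
theorem _root_.CL.J4.inD {A : ℕ} (hA : (okM A && th22 A) = true) : I Duad A :=
  inDuad (I.of_okM (Bool.and_eq_true_iff.1 hA).1) (Bool.and_eq_true_iff.1 hA).2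

omit R h in
theorem _root_.CL.J4.inM {A : ℕ} (hA : (okM A && t22 A) = true) : I Spor.M22 A :=
  in22 (I.of_okM (Bool.and_eq_true_iff.1 hA).1) (Bool.and_eq_true_iff.1 hA).2

theorem exists_hyp : ∃ c d e f, Hyp (ρ ξ) (ρ c) (ρ d) (ρ e) (ρ f) ∧ Golay.R (μ c) pC ∧
    Golay.R (μ d) pD ∧ Golay.R (μ e) pE ∧ Golay.R (μ f) pF := by
  have ic : I Spor.M22 pC := inM (by decide +kernel)
  have id : I Spor.M22 pD := inM (by decide +kernel)
  have ie : I Spor.M22 pE := inM (by decide +kernel)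
  have iF : I Duad pF := inD (by decide +kernel)
  have one : ∀ {g : Pm} {A : ℕ}, Golay.R g A → A = one24 → g = 1 := fun hg e => (e ▸ hg).eq_one
  obtain ⟨c, hc, c11⟩ := R.exists_lift h (M22_le_Duad ic.permOf_mem) (n := 11) (m := 4)
    (one ((rp ic).pow 11) (by decide +kernel)) (MAut.R.eq_of ((rp ic).pow 12) (rp ic) (by decide +kernel))
  obtain ⟨d, hd, d5⟩ := R.exists_lift h (M22_le_Duad id.permOf_mem) (n := 5) (m := 2)
    (one ((rp id).pow 5) (by decide +kernel)) (MAut.R.eq_of ((rp id).pow 6) (rp id) (by decide +kernel))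
  obtain ⟨e, he, e4⟩ := R.exists_lift h (M22_le_Duad ie.permOf_mem) (n := 4) (m := 3)
    (one ((rp ie).pow 4) (by decide +kernel)) (MAut.R.eq_of ((rp ie).pow 9) (rp ie) (by decide +kernel))
  obtain ⟨f, hf⟩ : pm pF ∈ μ.range := R.range ▸ iF.permOf_mem
  have mc : μ c ∈ Spor.M22 := hc ▸ ic.permOf_mem
  have md : μ d ∈ Spor.M22 := hd ▸ id.permOf_mem
  have me : μ e ∈ Spor.M22 := he ▸ ie.permOf_mem
  have rc : Golay.R (μ c) pC := hc ▸ rp ic
  have rd : Golay.R (μ d) pD := hd ▸ rp id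
  have re : Golay.R (μ e) pE := he ▸ rp ie
  have rf : Golay.R (μ f) pF := hf ▸ rp iF
  have mf : μ f ∉ Spor.M22 := fun hm => absurd (mem22.2 _ _ hm rf) (by decide +kernel)
  have cj : ∀ (a b : Subgroup.centralizer ({z} : Set G)) (A B k n : ℕ), Golay.R (μ a) A →
      Golay.R (μ b) B → μ b ∈ Spor.M22 → Nat.Coprime n 3 → ρ b ^ n = 1 →
      conj24 A B = pow24 B k → ρ a * ρ b = ρ b ^ k * ρ a := fun a b A B k n ha hb hm hn h1 e => by
    have := R.eq_of h (a := a * b * a⁻¹) (b := b ^ k)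
      (by rw [map_mul, map_mul, map_inv, map_pow]; exact MAut.R.eq_of (ha.conj hb) (hb.pow k) e)
      (by rw [map_pow]; exact pow_mem hm k) hn
      (by rw [map_mul, map_mul, map_inv, conj_pow, h1]; group)
      (by rw [map_pow, ← pow_mul, mul_comm, pow_mul, h1, one_pow])
    rw [map_mul, map_mul, map_inv, map_pow] at this
    rw [← this, inv_mul_cancel_right]
  refine ⟨c, d, e, f, ⟨R.sum_X h, (R.inner h mc).symm, (R.inner h md).symm, (R.inner h me).symm,
    R.outer h mf, c11, fun e1 => ?_, d5, cj d c pD pC 3 11 rd rc mc (by norm_num) c11 (by decide +kernel),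
    ?_, e4, cj f c pF pC 10 11 rf rc mc (by norm_num) c11 (by decide +kernel), ?_, ?_, ?_, ?_⟩,
    rc, rd, re, rf⟩
  · have := (R.ker' h c).2 (e1 ▸ one_mem _)
    exact absurd (Golay.R.comp24_eq_one_iff rc Golay.R.one |>.2 (by rw [this, mul_one]))
      (by decide +kernel)
  · rw [← pow_two]; exact cj e d pE pD 2 5 re rd md (by norm_num) d5 (by decide +kernel)
  · simpa using cj f d pF pD 1 5 rf rd md (by norm_num) d5 (by decide +kernel)
  · rw [← map_mul, ← map_pow, ← R.ker' h, map_pow, map_mul]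
    exact one ((re.mul rc).pow 7) (by decide +kernel)
  · rw [← map_pow, ← map_mul, ← map_mul, ← map_mul, ← map_pow, ← R.ker' h, map_pow, map_mul, map_mul,
      map_mul, map_pow]
    exact one (((rc.mul (rd.pow 4)).mul (re.mul re)).pow 3) (by decide +kernel)
  · rw [← map_pow, ← map_mul, ← map_mul, ← map_mul, ← map_pow, ← R.ker' h, map_pow, map_mul, map_mul,
      map_mul, map_pow]
    exact one (((re.mul rd).mul (rf.mul (rd.pow 4))).pow 4) (by decide +kernel)

end Raw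

/-- `h` acts as the matrix `A` and as the permutation `P` -/
def Jp {z : G} (ρ : Subgroup.centralizer ({z} : Set G) →* GL12)
    (μ : Subgroup.centralizer ({z} : Set G) →* Pm) (A P : ℕ) : Prop :=
  ∃ h, gcode (ρ h) = A ∧ R (μ h) P

/-- the centraliser of `z` in coordinates -/
structure HS (z : G) (Q : Subgroup G) (κ : G → W)
    (ρ : Subgroup.centralizer ({z} : Set G) →* GL12)
    (μ : Subgroup.centralizer ({z} : Set G) →* Pm) (x : G) : Prop extends Frame z Q κ ρ where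
  hx : Ov ρ x Z0
  x3 : x ^ 3 = 1
  range : μ.range = Duad
  ker : ∀ h, μ h = 1 ↔ ρ h ∈ Subgroup.zpowers Z0
  inner : ∀ h, μ h ∈ Spor.M22 → ρ h * Z0 = Z0 * ρ h
  outer : ∀ h, μ h ∉ Spor.M22 → ρ h * Z0 * (ρ h)⁻¹ = Z0⁻¹
  jc : Jp ρ μ cC pC
  jd : Jp ρ μ cD pD
  je : Jp ρ μ cE pE
  jf : Jp ρ μ cF pF

theorem Raw.hs_of [Finite G] {z : G} {Q : Subgroup G} {μ : Subgroup.centralizer ({z} : Set G) →* Pm}
    {ξ : Subgroup.centralizer ({z} : Set G)} (H : Raw z Q μ ξ) {κ : G → W}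
    {ρ : Subgroup.centralizer ({z} : Set G) →* GL12} {P : W → ZMod 2} (h : Pre z Q κ ρ P)
    {c d e f : Subgroup.centralizer ({z} : Set G)} (hc : R (μ c) pC) (hd : R (μ d) pD)
    (he : R (μ e) pE) (hf : R (μ f) pF) (k : Concl (ρ ξ) (ρ c) (ρ d) (ρ e) (ρ f)) :
    ∃ κ ρ, HS z Q κ ρ μ ξ := by
  obtain ⟨g, g1, g2, g3, g4, i, g5⟩ := k
  have h1 := h.transport (DistribMulAction.toAddEquiv W g) (θ := (MulAut.conj g).toMonoidHom)
    (fun a v => by simp [mul_smul])
  generalize hρ : (MulAut.conj g).toMonoidHom.comp ρ = ρ' at h1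
  have e0 : ∀ a, ρ' a = g * ρ a * g⁻¹ := fun a => by rw [← hρ]; rfl
  have eX : ρ' ξ = Z0 := C12.inj (by rw [e0, g1, code_Z0])
  have jf : Jp ρ' μ cF pF := ⟨f * ξ ^ i, by rw [e0, map_mul, map_pow, g5], by
    rwa [map_mul, map_pow, (H.ker' h ξ).2 (Subgroup.mem_zpowers _), one_pow, mul_one]⟩
  have jc : Jp ρ' μ cC pC := ⟨c, by rw [e0, g2], hc⟩
  have jd : Jp ρ' μ cD pD := ⟨d, by rw [e0, g3], hd⟩
  have je : Jp ρ' μ cE pE := ⟨e, by rw [e0, g4], he⟩
  have m : ∀ {A B}, Jp ρ' μ A B → Mem gcode ρ'.range A := fun ⟨a, ha, _⟩ => ⟨_, ⟨a, rfl⟩, ha⟩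
  refine ⟨_, ρ', frame_of_pre h1 H.lx H.card (C12.gen_le fun a ha => ?_), ⟨ξ.2, eX⟩,
    by rw [← Subgroup.coe_pow, H.x3]; rfl, H.range, fun a => eX ▸ H.ker' h1 a,
    fun a ha => eX ▸ H.inner h1 ha, fun a ha => ?_, jc, jd, je, jf⟩
  · simp only [LG, List.mem_cons, List.not_mem_nil, or_false] at ha
    rcases ha with rfl | rfl | rfl | rfl | rfl
    exacts [m jc, m jd, m je, m jf, ⟨_, ⟨ξ, eX⟩, code_Z0⟩]
  · rw [← Z0_sq, ← eX, H.outer h1 ha, mul_inv_cancel_right]

theorem Raw.exists_hs [Finite G] {z : G} {Q : Subgroup G}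
    {μ : Subgroup.centralizer ({z} : Set G) →* Pm} {ξ : Subgroup.centralizer ({z} : Set G)}
    (H : Raw z Q μ ξ) : ∃ κ ρ, HS z Q κ ρ μ ξ ∨ HS z Q κ ρ μ (ξ * ξ) := by
  obtain ⟨κ, ρ, P, h⟩ := exists_pre H.lx H.card
  obtain ⟨c, d, e, f, hy, hc, hd, he, hf⟩ := H.exists_hyp h
  rcases ident hy with k | k
  · obtain ⟨κ, ρ, h⟩ := H.hs_of h hc hd he hf k
    exact ⟨κ, ρ, Or.inl h⟩
  · obtain ⟨κ, ρ, h⟩ := H.sq.hs_of h hc hd he hf (by rwa [map_mul])
    exact ⟨κ, ρ, Or.inr h⟩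

theorem exists_raw [Finite G] {z : G} {P : Subgroup G} (hJ : IsOfJankoFourTypeWith z P) :
    ∃ μ ξ, Raw z (O2C z) μ ξ ∧ P = Subgroup.zpowers (ξ : G) := by
  obtain ⟨hz, hE, hc, hC, ⟨N, hEN, hNH, -, hcN, ⟨hN, ⟨ε⟩⟩, hPN⟩, hP, hf, hi, -⟩ := hJ
  change Nat.card (O2C z) = _ at hc
  change O2C z ≤ N at hEN
  have hzE := mem_O2C_self (sq_of_orderOf hz)
  have hl : LX (O2C z) z := lx_O2C hz hE fun y hy => hC ⟨Subgroup.mem_centralizer_singleton_iff.2
    (Subgroup.mem_centralizer_iff.1 hy z hzE).symm, hy⟩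
  have : Fact (Nat.Prime 3) := ⟨Nat.prime_three⟩
  obtain ⟨⟨x, hx⟩, ho⟩ := exists_prime_orderOf_dvd_card' (G := P) 3 (by rw [hP])
  rw [Subgroup.orderOf_mk] at ho
  have hPx : P = Subgroup.zpowers x := (Subgroup.eq_of_le_of_card_ge ((Subgroup.zpowers_le).2 hx)
    (by rw [Nat.card_zpowers, ho, hP])).symm
  have x3 : x ^ 3 = 1 := ho ▸ pow_orderOf_eq_one x
  let μ0 : Subgroup.centralizer ({z} : Set G) →* Duad :=
    (ε.trans duadEquiv.symm).toMonoidHom.comp (QuotientGroup.mk' _)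
  have hμ : ∀ k, Duad.subtype.comp μ0 k = 1 ↔ (k : G) ∈ N := fun k => by
    change ((ε.trans duadEquiv.symm) (k : _ ⧸ N.subgroupOf _) : Pm) = 1 ↔ _
    rw [OneMemClass.coe_eq_one, MulEquiv.map_eq_one_iff, QuotientGroup.eq_one_iff,
      Subgroup.mem_subgroupOf]
  have hcP : ∀ y, y ∈ Subgroup.centralizer (P : Set G) ↔ y * x = x * y := fun y => by
    rw [hPx, centralizer_zpowers, Subgroup.mem_centralizer_singleton_iff]
  refine ⟨Duad.subtype.comp μ0, ⟨x, hNH (hPN hx)⟩, ⟨hl, hc, ?_, Subtype.ext x3, fun k => ?_,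
    fun q hq e => ?_, ?_⟩, hPx⟩
  · have hs : Function.Surjective μ0 :=
      (ε.trans duadEquiv.symm).surjective.comp (QuotientGroup.mk'_surjective _)
    rw [MonoidHom.range_comp, MonoidHom.range_eq_top.2 hs, ← MonoidHom.range_eq_map,
      Subgroup.range_subtype]
  · rw [hμ]
    refine ⟨fun hk => ?_, fun ⟨i, hi⟩ => (N.mul_mem_cancel_right (pow_mem (hPN hx) i)).1 (hEN hi)⟩
    have hn : ((O2C z).subgroupOf N).Normal :=
      (Subgroup.normal_subgroupOf_iff_le_normalizer hEN).2 (hNH.trans hl.centralizer_le_normalizer)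
    have h3 : Nat.card (N ⧸ (O2C z).subgroupOf N) = 3 := by
      have := ((O2C z).subgroupOf N).card_mul_index
      rw [Nat.card_congr (Subgroup.subgroupOfEquivOfLe hEN).toEquiv, Subgroup.index_eq_card] at this
      change Nat.card N = 3 * Nat.card (O2C z) at hcN
      rw [hcN, hc] at this
      omega
    have h4 : ((⟨x, hPN hx⟩ : N) : N ⧸ (O2C z).subgroupOf N) ≠ 1 := fun e => by
      have : x ^ 4 = 1 := hl.pow_four (Subgroup.mem_subgroupOf.1 ((QuotientGroup.eq_one_iff _).1 e))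
      rw [pow_succ, x3, one_mul] at this
      rw [this, orderOf_one] at ho
      omega
    have h5 := mem_zpowers_of_prime_card h3 h4 (g' := ((⟨k, hk⟩ : N) : N ⧸ (O2C z).subgroupOf N))
    obtain ⟨i, hi⟩ := (mem_zpowers_iff3 (by
      rw [← QuotientGroup.mk_pow]; exact congrArg _ (Subtype.ext x3))).1 h5
    rw [← QuotientGroup.mk_pow, ← QuotientGroup.mk_mul, QuotientGroup.eq_one_iff] at hi
    exact ⟨i, hi⟩
  · rw [← hl.mem_zpowers_iff, ← hf]
    exact ⟨hq, (hcP q).2 e⟩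
  · obtain ⟨k, hk, hk'⟩ := SetLike.exists_of_lt (lt_of_le_of_ne (inf_le_inf_left _
      (Subgroup.centralizer_le_normalizer _)) hi.symm)
    have h1 : k * x * k⁻¹ ∈ Subgroup.zpowers x := hPx ▸ (Subgroup.mem_normalizer_iff.1 hk.2 x).1 hx
    refine ⟨⟨k, hk.1⟩, Subtype.ext ?_⟩
    rcases mem_zpowers_three x3 h1 with e | e | e
    · rw [conj_eq_one_iff.1 e, orderOf_one] at ho; omega
    · exact absurd ⟨hk.1, (hcP k).2 (mul_inv_eq_iff_eq_mul.1 e)⟩ hk'
    · exact e.trans (eq_inv_of_mul_eq_one_left (by rw [← pow_two, ← pow_succ, x3]))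

theorem exists_hs [Finite G] {z : G} {P : Subgroup G} (hJ : IsOfJankoFourTypeWith z P) :
    ∃ κ ρ μ x, HS z (O2C z) κ ρ μ x ∧ P = Subgroup.zpowers x := by
  obtain ⟨μ, ξ, H, hP⟩ := exists_raw hJ
  obtain ⟨κ, ρ, h | h⟩ := H.exists_hs
  · exact ⟨κ, ρ, μ, _, h, hP⟩
  · refine ⟨κ, ρ, μ, _, h, ?_⟩
    have e : ξ * ξ = ξ⁻¹ := eq_inv_of_mul_eq_one_left (by rw [← pow_two, ← pow_succ, H.x3])
    rw [← Subgroup.coe_mul, e, Subgroup.coe_inv, Subgroup.zpowers_inv, hP]

end CL.J4
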