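import Cfsg.Agent.SPOR.J4.Three
import Cfsg.Agent.S0379
import Cfsg.Agent.FUS.EssSmall

/-! The centraliser of an element of order 3. -/

set_option autoImplicit false
set_option maxRecDepth 100000
set_option maxHeartbeats 400000
set_option linter.unusedSectionVars false
set_option linter.unusedVariables false

namespace CL.J4

open Finset CL.K CL.CG CL.F2M CL.LX CL.MSS Cfsg CL.Golay CL.MAut MulAction
open CL.F24 hiding qf bf qf_add bf_add_left bf_comm bf_add_right bf_self qf_zero bf_zero_left bf_zero_right bf_eq qC bC qC_code bC_code Z0 code_Z0 code_Z0_inv Z0_sq Z0_cube Z0_sum add_Z0 eq_zero_of_Z0 qf_Z0 qf_Z0_inv bf_smul bf_Z0_self eq_zero_of_bf Frame cw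

attribute [local irreducible] gcode vcode

open scoped Pointwise

theorem simple_M22 : IsSimpleGroup Spor.M22 := by
  have h : Spor.M22 = (stabilizer M24 (none : GolayPt) ⊓ stabilizer M24 (some 0 : GolayPt)).map
      M24.subtype := by
    ext g
    exact ⟨fun hg => ⟨⟨g, hg.1.1⟩, ⟨hg.1.2, hg.2⟩, rfl⟩, fun ⟨a, ha, e⟩ => e ▸ ⟨⟨a.2, ha.1⟩, ha.2⟩⟩
  rw [h]
  have := Cfsg.Agent.S0379.result (none : GolayPt) (some 0) (by simp)
  exact (Subgroup.equivMapOfInjective _ _ (Subgroup.subtype_injective _)).symm.isSimpleGroup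

theorem center_M22 {g : Spor.M22} (h : g ∈ Subgroup.center Spor.M22) : g = 1 :=
  Subtype.ext (cent22 _ (M22_le_Duad g.2) fun k hk =>
    congrArg Subtype.val (Subgroup.mem_center_iff.1 h ⟨k, hk⟩).symm)

theorem commutator_M22 : commutator Spor.M22 = ⊤ := by
  have := simple_M22
  refine (IsSimpleGroup.eq_bot_or_eq_top_of_normal _ inferInstance).resolve_left fun e => ?_
  obtain ⟨g, hg⟩ := exists_ne (1 : Spor.M22)
  refine hg (center_M22 (Subgroup.mem_center_iff.2 fun k => commutatorElement_eq_one_iff_mul_comm.1 ?_))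
  rw [← Subgroup.mem_bot, ← e]
  exact Subgroup.commutator_mem_commutator (Subgroup.mem_top _) (Subgroup.mem_top _)

variable {G : Type*} [Group G] [Finite G] {z : G} {Q : Subgroup G} {κ : G → W}
  {ρ : Subgroup.centralizer ({z} : Set G) →* GL12}
  {μ : Subgroup.centralizer ({z} : Set G) →* Pm} {x : G}

namespace HS

variable {S : HS z Q κ ρ μ x} {σ : ℕ → G} {χ : M24 →* G}

theorem exists_φ (S : HS z Q κ ρ μ x) : ∃ φ : S.preN Spor.M22 →* Spor.M22, Function.Surjective φ ∧
    (∀ a, φ a = 1 ↔ (a : G) ∈ Subgroup.zpowers (x * z)) ∧ φ.ker = Subgroup.center _ := by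
  have hle : S.preN Spor.M22 ≤ Subgroup.centralizer ({z} : Set G) := fun c hc => (mem_pre.1 hc.1).1
  let φ : S.preN Spor.M22 →* Spor.M22 :=
    (μ.comp (Subgroup.inclusion hle)).codRestrict _ fun a => (mem_pre.1 a.2.1).2
  have h1 : Function.Surjective φ := fun g => by
    obtain ⟨d, B, U, hd, e⟩ := S.exists_jt_of_mem (M22_le_Duad g.2)
    exact ⟨⟨d, mem_preN.2 ⟨B, U, hd, e ▸ g.2⟩⟩, Subtype.ext e⟩
  have h2 : ∀ a, φ a = 1 ↔ (a : G) ∈ Subgroup.zpowers (x * z) := fun a => by
    rw [← S.preN_bot, Subtype.ext_iff]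
    exact ⟨fun h => ⟨mem_pre.2 ⟨hle a.2, h⟩, a.2.2⟩, fun h => (mem_pre.1 h.1).2⟩
  refine ⟨φ, h1, h2, Subgroup.ext fun a => ⟨fun h => ?_, fun h => center_M22 ?_⟩⟩
  · obtain ⟨k, hk⟩ := (h2 a).1 h
    refine Subgroup.mem_center_iff.2 fun b => Subtype.ext ?_
    have hb := b.2
    rw [Subgroup.coe_mul, Subgroup.coe_mul, ← hk]
    generalize (b : G) = c at hb
    rw [S.preN_M22] at hb
    exact (((show Commute c x from Subgroup.mem_centralizer_singleton_iff.1 hb.2).mul_right
      (Subgroup.mem_centralizer_singleton_iff.1 hb.1)).zpow_right k).eq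
  · refine Subgroup.mem_center_iff.2 fun g => ?_
    obtain ⟨b, rfl⟩ := h1 g
    rw [← map_mul, ← map_mul, Subgroup.mem_center_iff.1 h b]

theorem FS.comm_mem (F : S.FS σ χ) {A P v : ℕ} (h : (isPerm24 P && jchk A P) = true)
    (h1 : (okM P && th22 P && Nat.beq (img24 P O0) O0) = true) (h2 : (okM P && t22 P) = true)
    (h3 : vu v = 0) : S.ιc σ (actL A P v ^^^ v) ∈ ⁅S.preN Spor.M22, S.preN Spor.M22⁆ := by
  obtain ⟨c, hc⟩ := S.exists_jt' h
  have h4 := Subgroup.commutator_mem_commutator (hc.mem_preN (inM h2))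
    ((F.jt_ιc h3).mem_preN (ol_chk (va_lt v)).2.1)
  rwa [commutatorElement_def, F.act hc (hc.1.μ_eq ▸ (inS h1).permOf_mem),
    inv_eq_of_mul_eq_one_left (sq_VV (F.mem v)), ← F.ιc_xor] at h4

theorem FS.z_mem_comm (F : S.FS σ χ) : z ∈ ⁅S.preN Spor.M22, S.preN Spor.M22⁆ := by
  have h := mul_mem (F.comm_mem (A := 0x7c0e8030020028014003002000500f012031)
    (P := 972606645568131968584696805283956768) (v := 64) (by decide +kernel) (by decide +kernel)
    (by decide +kernel) rfl) (F.comm_mem (A := 0x1db3aded89ac475cda01103303b02601603d)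
    (P := 970478290803989530258238136118216128) (v := 128) (by decide +kernel) (by decide +kernel)
    (by decide +kernel) rfl)
  rewrite [← F.ιc_xor, show (_ ^^^ _ : ℕ) = 1024 by decide +kernel] at h
  exact (congrArg (· ∈ _) F.ιc_z).mp h

theorem FS.perfect (F : S.FS σ χ) (hx : x ∈ ⁅S.preN Spor.M22, S.preN Spor.M22⁆) :
    ⁅S.preN Spor.M22, S.preN Spor.M22⁆ = S.preN Spor.M22 := by
  obtain ⟨φ, h1, h2, -⟩ := S.exists_φ
  have h3 : φ.ker ≤ commutator _ := fun a ha => by
    have h4 := (Subgroup.zpowers_le).2 (mul_mem hx F.z_mem_comm) ((h2 a).1 ha)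
    rw [← Subgroup.map_subtype_commutator] at h4
    obtain ⟨b, hb, e⟩ := h4
    exact Subtype.ext e ▸ hb
  have h4 : (commutator (S.preN Spor.M22)).map φ = ⊤ := by
    rw [commutator_def, Subgroup.map_commutator, ← MonoidHom.range_eq_map,
      MonoidHom.range_eq_top_of_surjective φ h1, ← commutator_def, commutator_M22]
  have h5 := Subgroup.comap_map_eq_self h3
  rw [h4, Subgroup.comap_top] at h5
  rw [← Subgroup.map_subtype_commutator, ← h5, ← MonoidHom.range_eq_map, Subgroup.range_subtype]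

theorem center_K (S : HS z Q κ ρ μ x) : IsCyclic (Subgroup.center (S.preN Spor.M22)) ∧
    Nat.card (Subgroup.center (S.preN Spor.M22)) = 6 ∧
    Spor.IsoM22 (S.preN Spor.M22 ⧸ Subgroup.center (S.preN Spor.M22)) := by
  obtain ⟨φ, h1, h2, h3⟩ := S.exists_φ
  have o : I Spor.M22 one24 := ⟨1, one_mem _, Golay.R.one⟩
  have hm : x * z ∈ S.preN Spor.M22 := mul_mem (S.jt_x.mem_preN o) (S.jt_z.mem_preN o)
  have h4 : Subgroup.center (S.preN Spor.M22) = Subgroup.zpowers ⟨x * z, hm⟩ := by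
    rw [← h3]
    ext a
    rw [MonoidHom.mem_ker, h2]
    exact ⟨fun ⟨k, hk⟩ => ⟨k, Subtype.ext hk⟩, fun ⟨k, hk⟩ => ⟨k, congrArg Subtype.val hk⟩⟩
  refine ⟨h4 ▸ inferInstance, by rw [h4, Nat.card_zpowers, ← Subgroup.orderOf_coe, S.orderOf_xz],
    ⟨(QuotientGroup.quotientMulEquivOfEq h3.symm).trans
      (QuotientGroup.quotientKerEquivOfSurjective φ h1)⟩⟩

theorem cent_zpowers (x : G) :
    Subgroup.centralizer (Subgroup.zpowers x : Set G) = Subgroup.centralizer {x} := by
  rw [Subgroup.zpowers_eq_closure, Subgroup.centralizer_closure]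

variable [IsSimpleGroup G]

theorem FS.syl3 (F : S.FS σ χ) (R : Sylow 3 G) (hR : (R : Subgroup G) ≤ Subgroup.centralizer {z}) :
    IsExtraspecial 3 (R : Subgroup G) ∧ Nat.card (R : Subgroup G) = 27 ∧
    Monoid.exponent (R : Subgroup G) = 3 ∧
    Subgroup.normalizer ((R : Subgroup G) : Set G) ≤ Subgroup.centralizer ({z} : Set G) ∧
    Nat.card (Subgroup.normalizer ((R : Subgroup G) : Set G)) = 864 := by
  have : Fact (Nat.Prime 3) := ⟨Nat.prime_three⟩
  obtain ⟨T, hT⟩ := S.exists_syl3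
  obtain ⟨P, rfl⟩ := F.sylow hT
  have hP : (P : Subgroup G) ≤ Subgroup.centralizer {z} := fun c hc =>
    Subgroup.mem_centralizer_singleton_iff.2 (hT.comm hc).1
  obtain ⟨g, hg⟩ := MulAction.exists_smul_eq (Subgroup.centralizer ({z} : Set G))
    (P.subtype hP) (R.subtype hR)
  have h1 : (g : G) • P = R := by
    refine Sylow.subtype_injective (hP := ?_) (hQ := hR) ?_
    · rintro _ ⟨a, ha, rfl⟩
      exact mul_mem (mul_mem g.2 (hP ha)) (inv_mem g.2)
    · rw [← hg, Sylow.smul_subtype]; rfl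
  have h2 : (R : Subgroup G) = (P : Subgroup G).map (MulAut.conj (g : G)).toMonoidHom := by
    rw [← h1]; rfl
  have hN := hT.norm_le.trans F.cent_x
  have h3 : Subgroup.normalizer ((R : Subgroup G) : Set G) =
      (Subgroup.normalizer ((P : Subgroup G) : Set G)).map (MulAut.conj (g : G)).toMonoidHom := by
    rw [h2, Subgroup.map_equiv_normalizer_eq]
  have e : (P : Subgroup G) ≃* (R : Subgroup G) := h2 ▸ (MulAut.conj (g : G)).subgroupMap _
  refine ⟨CL.EssSm.isExtraspecial_congr e (CL.EssSm.isExtraspecial_of_card hT.1 hT.not_comm),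
    (Nat.card_congr e.toEquiv).symm.trans hT.1, ?_, ?_, ?_⟩
  · rw [← Monoid.exponent_eq_of_mulEquiv e]
    have : Nontrivial (P : Subgroup G) := Finite.one_lt_card_iff_nontrivial.1 (by rw [hT.1]; norm_num)
    exact (Monoid.exponent_eq_prime_iff Nat.prime_three).2 fun a ha =>
      orderOf_eq_prime (Subtype.ext ((hT.2 a).1 a.2).2) ha
  · rw [h3]
    rintro _ ⟨a, ha, rfl⟩
    exact mul_mem (mul_mem g.2 (hN ha)) (inv_mem g.2)
  · rw [h3, card_map_equiv, ← inf_eq_right.2 hN, ← hT.preN_norm, S.card_preN inf_le_left, card_norm_T3]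

end HS

end CL.J4
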