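import Cfsg.Agent.SPOR.J4.Main
import Cfsg.Agent.SPOR.J4.Cover
import Cfsg.Agent.SOLV.Gaschutz

/-!
Reduction of the hypotheses of the order theorem to the standard form.
-/

set_option autoImplicit false
set_option maxRecDepth 100000
set_option linter.unusedSectionVars false
set_option linter.unusedVariables false

namespace CL.J4

open Finset CL.K CL.CG CL.F2M CL.LX CL.MSS Cfsg CL.Golay CL.MAut MulAction CL.FiRec CL.Fus CL.Orb
open CL.F24 hiding qf bf qf_add bf_add_left bf_comm bf_add_right bf_self qf_zero bf_zero_left bf_zero_right bf_eq qC bC qC_code bC_code Z0 code_Z0 code_Z0_inv Z0_sq Z0_cube Z0_sum add_Z0 eq_zero_of_Z0 qf_Z0 qf_Z0_inv bf_smul bf_Z0_self eq_zero_of_bf Frame cw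

attribute [local irreducible] gcode vcode

open scoped Pointwise

theorem dvd_card_of_orbits {L X : Type*} [Group L] [MulAction L X] [Finite X] {n : ℕ}
    (h : ∀ p : X, n ∣ Nat.card (orbit L p)) : n ∣ Nat.card X := by
  classical
  rw [Nat.card_congr (selfEquivSigmaOrbits L X)]
  let _ := Fintype.ofFinite (orbitRel.Quotient L X)
  rw [Nat.card_sigma]
  exact Finset.dvd_sum fun ω _ => h _

/-- a central element of order 3 of a perfect group acting without fixed points -/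
theorem nine_dvd {L X : Type*} [Group L] [Finite L] [MulAction L X] [Finite X]
    (hL : commutator L = ⊤) {x : L} (hc : ∀ g, g * x = x * g) (h3 : x ^ 3 = 1)
    (hf : ∀ p : X, x • p ≠ p) : 9 ∣ Nat.card X := by
  refine dvd_card_of_orbits (L := L) fun p => ?_
  by_contra h9
  have hx : x ≠ 1 := fun e => hf p (by rw [e, one_smul])
  have : Fact (Nat.Prime 3) := ⟨Nat.prime_three⟩
  have ho : orderOf x = 3 := orderOf_eq_prime h3 hx
  have hK : ∀ k ∈ Subgroup.zpowers x, ∀ g, g * k = k * g := by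
    rintro _ ⟨i, rfl⟩ g
    exact ((show Commute g x from hc g).zpow_right i).eq
  have hn : (Subgroup.zpowers x).Normal :=
    ⟨fun k hk g => by rwa [hK k hk g, mul_inv_cancel_right]⟩
  have hi : stabilizer L p ⊓ Subgroup.zpowers x = ⊥ := by
    rw [eq_bot_iff]
    rintro k ⟨hs, hk⟩
    rcases mem_zpowers_three h3 hk with rfl | rfl | rfl
    · exact one_mem _
    · exact absurd hs (hf p)
    · refine absurd ?_ (hf p)
      have : x = x * x * (x * x) := by
        rw [← pow_two, ← pow_two, ← pow_mul, pow_succ, h3, one_mul]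
      rw [this]
      exact mul_mem hs hs
  have hK3 : Nat.card (Subgroup.zpowers x) = 3 := by rw [Nat.card_zpowers, ho]
  have h1 := Subgroup.relIndex_mul_relIndex ⊥ (Subgroup.zpowers x)
    (Subgroup.zpowers x ⊔ stabilizer L p) bot_le le_sup_left
  have h2 := Subgroup.relIndex_mul_relIndex ⊥ (stabilizer L p)
    (Subgroup.zpowers x ⊔ stabilizer L p) bot_le le_sup_right
  rw [Subgroup.relIndex_sup_left, ← Subgroup.inf_relIndex_left (stabilizer L p), hi, ← h2,
    Subgroup.relIndex_bot_left, Subgroup.relIndex_bot_left, hK3, mul_comm] at h1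
  have h4 := Subgroup.relIndex_mul_index (le_sup_right (a := Subgroup.zpowers x) (b := stabilizer L p))
  rw [← Nat.eq_of_mul_eq_mul_left Nat.card_pos h1, index_stabilizer, ← Nat.card_coe_set_eq] at h4
  have : IsMulCommutative (Subgroup.zpowers x) := ⟨⟨fun a b => Subtype.ext (hK _ b.2 a)⟩⟩
  obtain ⟨H, hH⟩ := CL.gaschutz_exists (Subgroup.zpowers x) _ le_sup_left (by
    rw [hK3, Nat.prime_three.coprime_iff_not_dvd]
    exact fun ⟨k, hk⟩ => h9 ⟨k, by omega⟩) (stabilizer L p) hi rfl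
  have hle : commutator L ≤ H := by
    rw [commutator_def, Subgroup.commutator_le]
    intro a _ b _
    obtain ⟨⟨⟨k, hk⟩, ⟨a, ha⟩⟩, rfl⟩ := hH.2 a
    obtain ⟨⟨⟨l, hl⟩, ⟨b, hb⟩⟩, rfl⟩ := hH.2 b
    have e : k * a * (l * b) * (k * a)⁻¹ * (l * b)⁻¹ = a * b * a⁻¹ * b⁻¹ := by
      have e1 : k * a * (l * b) = a * b * (k * l) := by
        rw [← hK k hk a, ← hK l hl b, mul_assoc, ← mul_assoc k, ← hK k hk b]; group
      have e2 : l * b * (k * a) = b * a * (k * l) := by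
        rw [← hK k hk a, ← hK l hl b, mul_assoc, ← mul_assoc l, ← hK l hl a, mul_assoc a,
          hK k hk l]; group
      calc _ = (k * a * (l * b)) * (l * b * (k * a))⁻¹ := by group
        _ = _ := by rw [e1, e2]; group
    change k * a * (l * b) * (k * a)⁻¹ * (l * b)⁻¹ ∈ H
    rw [e]
    exact mul_mem (mul_mem (mul_mem ha hb) (inv_mem ha)) (inv_mem hb)
  rw [hL] at hle
  exact hx (Subgroup.disjoint_def.1 hH.disjoint (Subgroup.mem_zpowers x) (hle trivial))

theorem card_pow_two (A : AddSubgroup W) : ∃ k ≤ 12, Nat.card A = 2 ^ k :=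
  (Nat.dvd_prime_pow Nat.prime_two).1 (card_W ▸ A.card_addSubgroup_dvd_card)

theorem eq_one_of_Fx {g : GL12} (h : Nat.card (Fx g) = 2 ^ 12) : g = 1 := gl_ext fun v => by
  have : Fx g = ⊤ := AddSubgroup.eq_top_of_card_eq _ (by rw [h, card_W])
  rw [one_smul]
  exact (this ▸ AddSubgroup.mem_top v : v ∈ Fx g)

theorem card_Fx11 {c : GL12} (h : c ^ 11 = 1) (hc : c ≠ 1) : Nat.card (Fx c) = 4 := by
  have : Fact (Nat.Prime 11) := ⟨by norm_num⟩
  have h1 := card_modEq (A := ⊤) h fun _ _ => trivial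
  rw [top_inf_eq, AddSubgroup.card_top, card_W] at h1
  obtain ⟨k, hk, e⟩ := card_pow_two (Fx c)
  have h2 : k ≠ 12 := fun e1 => hc (eq_one_of_Fx (e1 ▸ e))
  rw [e] at h1 ⊢
  interval_cases k <;> first | rfl | exact absurd h1 (by decide) | exact absurd rfl h2

/-- the central element of order 3 has no fixed vectors -/
theorem fpf_of {L : Subgroup GL12} (hL : L ≤ ⁅L, L⁆) {x c : GL12} (hx : x ∈ L) (hc : c ∈ L)
    (hz : ∀ g ∈ L, g * x = x * g) (h3 : x ^ 3 = 1) (hx1 : x ≠ 1) (h11 : c ^ 11 = 1) (hc1 : c ≠ 1)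
    {v : W} (hv : x • v = v) : v = 0 := by
  have hi : ∀ g ∈ L, ∀ w : W, x • g • w = g • w ↔ x • w = w := fun g hg w => by
    rw [← mul_smul, ← hz g hg, mul_smul, smul_left_cancel_iff]
  let X : SubMulAction L W := ⟨{w | x • w ≠ w}, fun g {w} hw e => hw ((hi g g.2 w).1 e)⟩
  have h9 := nine_dvd (L := L) (X := X) (x := ⟨x, hx⟩) (by
      rw [eq_top_iff, ← Subgroup.map_le_map_iff_of_injective L.subtype_injective, commutator_def,
        Subgroup.map_commutator, ← MonoidHom.range_eq_map, Subgroup.range_subtype]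
      exact hL)
    (fun g => Subtype.ext (hz g g.2)) (Subtype.ext h3) fun p e => p.2 (congrArg Subtype.val e)
  have h1 : Nat.card (Fx x) + Nat.card X = 2 ^ 12 := by
    rw [← card_W]
    exact Set.ncard_add_ncard_compl (Fx x : Set W)
  obtain ⟨k, hk, e⟩ := card_pow_two (Fx x)
  have h2 : k ≠ 12 := fun e1 => hx1 (eq_one_of_Fx (e1 ▸ e))
  have : Fact (Nat.Prime 11) := ⟨by norm_num⟩
  have h4 := card_modEq (A := Fx x) h11 fun w hw => (hi c hc w).2 hw
  have h5 : Nat.card (Fx x ⊓ Fx c : AddSubgroup W) ≤ 4 :=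
    card_Fx11 h11 hc1 ▸ AddSubgroup.card_le_of_le inf_le_right
  obtain ⟨j, -, ej⟩ := card_pow_two (Fx x ⊓ Fx c)
  have h6 : j ≤ 2 := (Nat.pow_le_pow_iff_right one_lt_two).1 (ej ▸ h5)
  have h7 : k = 0 := by
    rw [e] at h1 h4
    rw [ej] at h4
    interval_cases k <;> first | rfl | omega | skip
    interval_cases j <;> exact absurd h4 (by decide)
  rw [h7, pow_zero, AddSubgroup.card_eq_one] at e
  exact (AddSubgroup.mem_bot).1 (e ▸ (hv : v ∈ Fx x))

theorem card_le_sq {U : AddSubgroup W} {g : GL12} (h2 : g * g = 1) (hU : ∀ v ∈ U, g • v ∈ U) :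
    Nat.card U ≤ Nat.card (U ⊓ Fx g : AddSubgroup W) ^ 2 := by
  let φ : U →+ W := (AddMonoidHom.id W + DistribSMul.toAddMonoidHom W g).comp U.subtype
  have hφ : ∀ u : U, φ u = u + g • (u : W) := fun _ => rfl
  rw [← φ.ker.card_mul_index, AddSubgroup.index_ker, pow_two,
    ← AddSubgroup.card_map_of_injective U.subtype_injective]
  refine Nat.mul_le_mul (AddSubgroup.card_le_of_le ?_) (AddSubgroup.card_le_of_le ?_)
  · rintro _ ⟨u, hu, rfl⟩
    refine ⟨u.2, ?_⟩
    have : (u : W) + g • (u : W) = 0 := hu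
    exact (eq_neg_of_add_eq_zero_right this).trans (neg_eq_of_add_eq_zero_left (W_add_self _))
  · rintro _ ⟨u, rfl⟩
    refine ⟨add_mem u.2 (hU _ u.2), ?_⟩
    change g • φ u = φ u
    rw [hφ, smul_add, ← mul_smul, h2, one_smul, add_comm]

/-- no involution inverting `c` commutes with `x` -/
theorem no_central {x c f : GL12} (h3 : x ^ 3 = 1) (hx : ∀ v : W, x • v = v → v = 0)
    (h11 : c ^ 11 = 1) (hc1 : c ≠ 1) (xc : c * x = x * c) (xf : f * x = x * f) (ff : f * f = 1)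
    (fc : f * c * f⁻¹ = c⁻¹) : False := by
  let φ : W →+ W := AddMonoidHom.id W + DistribSMul.toAddMonoidHom W c
  have hφ : ∀ u, φ u = u + c • u := fun _ => rfl
  have hk : φ.ker = Fx c := AddSubgroup.ext fun u => by
    rw [AddMonoidHom.mem_ker, hφ, add_eq_zero_iff_eq_neg, neg_eq_of_add_eq_zero_left (W_add_self _)]
    exact eq_comm
  have hU : Nat.card φ.range = 1024 := by
    have := φ.ker.card_mul_index
    rw [AddSubgroup.index_ker, hk, card_Fx11 h11 hc1, card_W] at this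
    omega
  have h0 : ∀ u ∈ φ.range, c • u = u → u = 0 := by
    rintro _ ⟨u, rfl⟩ e
    rw [← Nm_fix e, hφ, map_add, Nm_smul h11, W_add_self]
  have i1 : ∀ g, c * g = g * c → ∀ v ∈ φ.range, g • v ∈ φ.range := by
    rintro g hg _ ⟨u, rfl⟩
    exact ⟨g • u, by rw [hφ, hφ, smul_add, ← mul_smul, hg, mul_smul]⟩
  have i2 : ∀ v ∈ φ.range, f • v ∈ φ.range := by
    rintro _ ⟨u, rfl⟩
    refine ⟨f • c • u, ?_⟩
    rw [hφ, hφ, smul_add, add_comm, ← mul_smul, ← mul_smul, mul_assoc,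
      mul_inv_eq_iff_eq_mul.1 fc, mul_inv_cancel_left]
  have a1 := card_le_sq ff i2
  have a2 := card_le_sq (U := φ.range) (g := f * c) (by
    rw [mul_inv_eq_iff_eq_mul.1 fc, mul_assoc, ← mul_inv_eq_iff_eq_mul.1 fc, ← mul_assoc f, ff,
      one_mul, inv_mul_cancel]) fun v hv => by rw [mul_smul]; exact i2 _ (i1 c rfl v hv)
  have a3 : Nat.card (φ.range ⊓ Fx f : AddSubgroup W) *
      Nat.card (φ.range ⊓ Fx (f * c) : AddSubgroup W) ≤ Nat.card φ.range := by
    rw [← Nat.card_prod]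
    refine Nat.card_le_card_of_injective (fun p => ⟨p.1 + p.2, add_mem p.1.2.1 p.2.2.1⟩) ?_
    rintro ⟨⟨a, ha, ha'⟩, ⟨b, hb, hb'⟩⟩ ⟨⟨a', ia, ia'⟩, ⟨b', ib, ib'⟩⟩ e
    have e1 : a - a' = b' - b := by
      have : a + b = a' + b' := congrArg Subtype.val e
      linear_combination this
    have e2 : f • (a - a') = a - a' := (Fx f).sub_mem ha' ia'
    have e3 : (f * c) • (a - a') = a - a' := e1 ▸ (Fx (f * c)).sub_mem ib' hb'
    rw [mul_smul] at e3
    have e4 := h0 _ (sub_mem ha ia) ((smul_left_cancel_iff f).1 (e3.trans e2.symm))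
    rw [e4, eq_comm, sub_eq_zero] at e1
    simp only [sub_eq_zero.1 e4, e1]
  have : Fact (Nat.Prime 3) := ⟨Nat.prime_three⟩
  have a4 := card_modEq (A := φ.range ⊓ Fx f) h3 fun v hv => ⟨i1 x xc v hv.1, by
    change f • x • v = x • v
    rw [← mul_smul, xf, mul_smul, show f • v = v from hv.2]⟩
  rw [show φ.range ⊓ Fx f ⊓ Fx x = ⊥ from eq_bot_iff.2 fun v hv => hx v hv.2,
    AddSubgroup.card_bot] at a4
  rw [hU] at a1 a2 a3
  generalize Nat.card (φ.range ⊓ Fx f : AddSubgroup W) = a at *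
  generalize Nat.card (φ.range ⊓ Fx (f * c) : AddSubgroup W) = b at *
  have b1 : 32 ≤ a := by by_contra h; nlinarith
  have b2 : 32 ≤ b := by by_contra h; nlinarith
  have b3 : a = 32 := by nlinarith
  exact absurd (b3 ▸ a4) (by decide)

theorem exists_mu {H : Type*} [Group H] [Finite H] {N M : Subgroup H} [N.Normal] [M.Normal]
    (hNM : N ≤ M) (hM : M.index = 2) (hout : ∀ c : H, (∀ m ∈ M, c * m * c⁻¹ * m⁻¹ ∈ N) → c ∈ M)
    (hM22 : Spor.IsoM22 (M ⧸ N.subgroupOf M)) :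
    ∃ μ : H →* Pm, μ.range = Duad ∧ (∀ h, μ h = 1 ↔ h ∈ N) ∧ N.index = 887040 := by
  obtain ⟨e⟩ := hM22
  have hi : N.index = 887040 := by
    rw [← Subgroup.relIndex_mul_index hNM, hM, Subgroup.relIndex, Subgroup.index_eq_card,
      Nat.card_congr e.toEquiv, card_M22]
  let ψ : M →* H ⧸ N := (QuotientGroup.mk' N).comp M.subtype
  have hk : ψ.ker = N.subgroupOf M := by
    rw [← MonoidHom.comap_ker, QuotientGroup.ker_mk']; rfl
  have hn : ψ.range.Normal := by
    rw [MonoidHom.range_comp, Subgroup.range_subtype]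
    exact Subgroup.Normal.map inferInstance _ (QuotientGroup.mk'_surjective N)
  let ε : ψ.range ≃* Spor.M22 := (QuotientGroup.quotientKerEquivRange ψ).symm.trans
    ((QuotientGroup.quotientMulEquivOfEq hk).trans e)
  let ν : H ⧸ N →* Duad :=
    ((MulAut.congr ε).trans duadEquiv.symm).toMonoidHom.comp (MulAut.conjNormal (H := ψ.range))
  have inj : Function.Injective ν := (injective_iff_map_eq_one ν).2 fun a ha => by
    have h1 : MulAut.conjNormal (H := ψ.range) a = 1 :=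
      (MulEquiv.map_eq_one_iff ((MulAut.congr ε).trans duadEquiv.symm)).1 ha
    have h2 : ∀ b ∈ ψ.range, a * b * a⁻¹ = b := fun b hb => by
      have := congrArg (fun θ : MulAut ψ.range => ((θ ⟨b, hb⟩ : ψ.range) : H ⧸ N)) h1
      exact this
    obtain ⟨a, rfl⟩ := QuotientGroup.mk_surjective a
    have h3 : a ∈ M := hout a fun m hm => (QuotientGroup.eq_one_iff _).1 (by
      rw [QuotientGroup.mk_mul, QuotientGroup.mk_inv, mul_inv_eq_one]
      exact h2 _ ⟨⟨m, hm⟩, rfl⟩)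
    have h4 : ε ⟨a, ⟨a, h3⟩, rfl⟩ = 1 := center_M22 (Subgroup.mem_center_iff.2 fun g => by
      obtain ⟨b, rfl⟩ := ε.surjective g
      rw [← map_mul, ← map_mul]
      exact congrArg ε (Subtype.ext (mul_inv_eq_iff_eq_mul.1 (h2 b b.2)).symm))
    exact congrArg Subtype.val (ε.map_eq_one_iff.1 h4)
  have sj : Function.Surjective ν :=
    (inj.bijective_of_nat_card_le (by rw [card_Duad, ← Subgroup.index_eq_card, hi])).2
  refine ⟨Duad.subtype.comp (ν.comp (QuotientGroup.mk' N)), ?_, fun h => ?_, hi⟩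
  · rw [MonoidHom.range_comp,
      (MonoidHom.range_eq_top (f := ν.comp (QuotientGroup.mk' N))).2
        (sj.comp (QuotientGroup.mk'_surjective N)),
      ← MonoidHom.range_eq_map, Subgroup.range_subtype]
  · change ((ν (h : H ⧸ N) : Duad) : Pm) = 1 ↔ _
    rw [OneMemClass.coe_eq_one, map_eq_one_iff ν inj, QuotientGroup.eq_one_iff]

theorem exists_raw_of {G : Type*} [Group G] [Finite G] (t : G) (ht : orderOf t = 2)
    (Q N M : Subgroup (Subgroup.centralizer ({t} : Set G))) [Q.Normal] [N.Normal] [M.Normal]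
    (hQN : Q ≤ N) (hNM : N ≤ M) (hM : M.index = 2) (hQ : IsExtraspecial 2 Q)
    (hcard : Nat.card Q = 2 ^ 13) (hN : Nat.card N = 3 * Nat.card Q) (hcent : ⁅M, N⁆ ≤ Q)
    (hperf : M ≤ ⁅M, M⁆ ⊔ Q)
    (h2c : Subgroup.centralizer (Q : Set (Subgroup.centralizer ({t} : Set G))) ≤ Q)
    (hout : ∀ c : Subgroup.centralizer ({t} : Set G), (∀ m ∈ M, c * m * c⁻¹ * m⁻¹ ∈ N) → c ∈ M)
    (hM22 : Spor.IsoM22 (M ⧸ N.subgroupOf M)) :
    ∃ μ ξ, Raw t (Q.map (Subgroup.centralizer ({t} : Set G)).subtype) μ ξ := by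
  have mz : ∀ {c : G}, c ∈ Subgroup.centralizer ({t} : Set G) ↔ c * t = t * c :=
    Subgroup.mem_centralizer_singleton_iff
  have mQ : ∀ {k : Subgroup.centralizer ({t} : Set G)},
      (k : G) ∈ Q.map (Subgroup.centralizer ({t} : Set G)).subtype ↔ k ∈ Q :=
    Subgroup.mem_map_iff_mem (Subgroup.subtype_injective _)
  have htQ : t ∈ Q.map (Subgroup.centralizer ({t} : Set G)).subtype :=
    (mQ (k := ⟨t, mz.2 rfl⟩)).2 (h2c fun y _ => Subtype.ext (mz.1 y.2))
  have hl : LX (Q.map (Subgroup.centralizer ({t} : Set G)).subtype) t := by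
    obtain ⟨w, hw⟩ := exists_es_of_isExtraspecial hQ
    refine lx_of (es_of_isExtraspecial (hw.map _ (fun x _ e => Subtype.ext e)).isExtraspecial htQ
      (ne_one_of_orderOf ht) ?_) (fun y hy => ?_) fun c hc => ?_
    · rintro _ ⟨y, -, rfl⟩
      exact mz.1 y.2
    · exact (mQ (k := ⟨y, mz.2 (hy t htQ).symm⟩)).2
        (h2c fun q hq => Subtype.ext (hy q (mQ.2 hq)))
    · refine Subgroup.mem_normalizer_fintype ?_
      rintro _ ⟨q, hq, rfl⟩
      exact (mQ (k := ⟨c, hc⟩ * q * ⟨c, hc⟩⁻¹)).2 (‹Q.Normal›.conj_mem q hq _)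
  have hc : Nat.card (Q.map (Subgroup.centralizer ({t} : Set G)).subtype) = 2 ^ 13 := by
    rw [Subgroup.card_map_of_injective (Subgroup.subtype_injective _), hcard]
  obtain ⟨κ, ρ, P, h⟩ := exists_pre hl hc
  have hρ : ∀ k, ρ k = 1 ↔ k ∈ Q := fun k => (h.mem_iff hl k).trans mQ
  obtain ⟨μ, hr, hμ, hi⟩ := exists_mu hNM hM hout hM22
  have : Fact (Nat.Prime 3) := ⟨Nat.prime_three⟩
  have : Fact (Nat.Prime 11) := ⟨by norm_num⟩
  have q4 : ∀ {k : Subgroup.centralizer ({t} : Set G)} {p : ℕ}, orderOf k = p → p.Coprime 4 →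
      p ≠ 1 → ρ k ≠ 1 := fun {k p} ho hp h1 e => by
    have h4 : k ^ 4 = 1 := Subtype.ext (hl.pow_four (mQ.2 ((hρ k).1 e)))
    exact h1 (hp.eq_one_of_dvd (ho ▸ orderOf_dvd_of_pow_eq_one h4))
  obtain ⟨⟨ξ, hξ⟩, ho'⟩ := exists_prime_orderOf_dvd_card' (G := N) 3 ⟨_, hN⟩
  have ho : orderOf ξ = 3 := by rwa [Subgroup.orderOf_mk] at ho'
  have x3 : ξ ^ 3 = 1 := ho ▸ pow_orderOf_eq_one ξ
  have X3 : ρ ξ ^ 3 = 1 := by rw [← map_pow, x3, map_one]
  have X1 : ρ ξ ≠ 1 := q4 ho (by norm_num) (by norm_num)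
  have hker : ∀ k, μ k = 1 ↔ ∃ i : ℕ, k * ξ ^ i ∈ Q := fun k => by
    rw [hμ]
    refine ⟨fun hk => ?_, fun ⟨i, hi⟩ => (N.mul_mem_cancel_right (pow_mem hξ i)).1 (hQN hi)⟩
    have h3 : Nat.card (N ⧸ Q.subgroupOf N) = 3 := by
      have := (Q.subgroupOf N).card_mul_index
      rw [Nat.card_congr (Subgroup.subgroupOfEquivOfLe hQN).toEquiv, Subgroup.index_eq_card, hN,
        hcard] at this
      omega
    have h4 : ((⟨ξ, hξ⟩ : N) : N ⧸ Q.subgroupOf N) ≠ 1 := fun e =>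
      X1 ((hρ ξ).2 (Subgroup.mem_subgroupOf.1 ((QuotientGroup.eq_one_iff _).1 e)))
    have h5 := mem_zpowers_of_prime_card h3 h4 (g' := ((⟨k, hk⟩ : N) : N ⧸ Q.subgroupOf N))
    obtain ⟨i, hi⟩ := (mem_zpowers_iff3 (by
      rw [← QuotientGroup.mk_pow]; exact congrArg _ (Subtype.ext x3))).1 h5
    rw [← QuotientGroup.mk_pow, ← QuotientGroup.mk_mul, QuotientGroup.eq_one_iff] at hi
    exact ⟨i, hi⟩
  have hk' : ∀ k, μ k = 1 → ∃ i : ℕ, ρ k * ρ ξ ^ i = 1 := fun k hk => by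
    obtain ⟨i, hi⟩ := (hker k).1 hk
    exact ⟨i, by rw [← map_pow, ← map_mul, hρ]; exact hi⟩
  have hz : ∀ m ∈ M, ρ m * ρ ξ = ρ ξ * ρ m := fun m hm => by
    have := (hρ _).2 (hcent (Subgroup.commutator_mem_commutator hm hξ))
    rwa [map_commutatorElement, commutatorElement_eq_one_iff_mul_comm] at this
  have fx : ∀ v : W, ρ ξ • v = v → v = 0 := by
    obtain ⟨a, ha⟩ := exists_prime_orderOf_dvd_card' (G := Subgroup.centralizer ({t} : Set G)) 11
      (Dvd.dvd.trans (by rw [hi]; norm_num) N.index_dvd_card)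
    have a11 : a ^ 11 = 1 := ha ▸ pow_orderOf_eq_one a
    have aM : a ∈ M := by
      have := M.pow_mem (M.sq_mem_of_index_two hM a) 6
      rwa [← pow_mul, pow_succ, a11, one_mul] at this
    refine fun v => fpf_of (L := M.map ρ) ?_ ⟨ξ, hNM hξ, rfl⟩ ⟨a, aM, rfl⟩ ?_ X3 X1
      (by rw [← map_pow, a11, map_one]) (q4 ha (by norm_num) (by norm_num))
    · have := Subgroup.map_mono (f := ρ) hperf
      rwa [Subgroup.map_sup, Subgroup.map_commutator,
        (Subgroup.map_eq_bot_iff Q).2 fun k hk => (hρ k).2 hk, sup_bot_eq] at this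
    · rintro _ ⟨m, hm, rfl⟩
      exact hz m hm
  have nc : ¬ ∀ k, ρ k * ρ ξ = ρ ξ * ρ k := fun hc => by
    have ic : I Duad pC := inD (by decide +kernel)
    have iF : I Duad pF := inD (by decide +kernel)
    have one : ∀ {g : Pm} {A : ℕ}, Golay.R g A → A = one24 → g = 1 := fun hg e => (e ▸ hg).eq_one
    obtain ⟨a, ha⟩ : pm pC ∈ μ.range := hr ▸ ic.permOf_mem
    obtain ⟨f, hf⟩ : pm pF ∈ μ.range := hr ▸ iF.permOf_mem
    have ra : Golay.R (μ a) pC := ha ▸ rp ic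
    have rf : Golay.R (μ f) pF := hf ▸ rp iF
    have cu : ∀ k, μ k = 1 → ∀ g, (ρ g * ρ k) ^ 3 = ρ g ^ 3 := fun k hk g => by
      obtain ⟨i, hi⟩ := hk' k hk
      rw [eq_inv_of_mul_eq_one_left hi,
        (((show Commute (ρ g) (ρ ξ) from hc g).pow_right i).inv_right).mul_pow, inv_pow,
        ← pow_mul, mul_comm i, pow_mul, X3, one_pow, inv_one, mul_one]
    have c1 := cu (a ^ 11) (by rw [map_pow]; exact one (ra.pow 11) (by decide +kernel)) 1
    have c2 := cu (f ^ 2) (by rw [map_pow]; exact one (rf.pow 2) (by decide +kernel)) 1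
    have c3 := cu (a * (f ^ 3 * a * (f ^ 3)⁻¹)) (by
      rw [map_mul, map_mul, map_mul, map_inv, map_pow]
      exact one (ra.mul ((rf.pow 3).conj ra)) (by decide +kernel)) a⁻¹
    rw [map_one, one_mul, one_pow, map_pow, ← pow_mul] at c1 c2
    rw [map_mul, map_inv, inv_mul_cancel_left, map_mul, map_mul, map_inv, conj_pow, inv_pow] at c3
    refine no_central (c := ρ (a ^ 3)) (f := ρ (f ^ 3)) X3 fx
      (by rw [map_pow, ← pow_mul]; exact c1) (fun e => ?_) (hc _) (hc _)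
      (by rw [map_pow, ← pow_add]; exact c2) (by rw [map_pow ρ a]; exact c3)
    have := (hμ _).2 (hQN ((hρ _).1 e))
    rw [map_pow] at this
    exact absurd (Golay.R.comp24_eq_one_iff (ra.pow 3) Golay.R.one |>.2 (by rw [this, mul_one]))
      (by decide +kernel)
  refine ⟨μ, ξ, hl, hc, hr, x3, fun k => (hker k).trans (exists_congr fun i => mQ.symm),
    fun q hq e => ?_, ?_⟩
  · refine (h.κ_zero q hq).1 (fx _ ?_)
    rw [← h.κ_conj ξ q hq, ← e, mul_inv_cancel_right]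
  · have hP : IsPGroup 3 (Subgroup.zpowers (⟨ξ, hξ⟩ : N)) :=
      IsPGroup.of_card (n := 1) (by rw [Nat.card_zpowers, ho', pow_one])
    have hI : ¬ 3 ∣ (Subgroup.zpowers (⟨ξ, hξ⟩ : N)).index := by
      have := (Subgroup.zpowers (⟨ξ, hξ⟩ : N)).card_mul_index
      rw [Nat.card_zpowers, ho', hN, hcard] at this
      omega
    have hF := Sylow.normalizer_sup_eq_top (hP.toSylow hI)
    rw [IsPGroup.toSylow_coe, MonoidHom.map_zpowers] at hF
    by_contra hn
    refine nc fun k => ?_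
    have hle : (⊤ : Subgroup _) ≤ (Subgroup.centralizer ({ρ ξ} : Set GL12)).comap ρ := by
      rw [← hF]
      refine sup_le (fun g hg => ?_) fun g hg =>
        Subgroup.mem_centralizer_singleton_iff.2 (hz g (hNM hg))
      have h1 : g * ξ * g⁻¹ ∈ Subgroup.zpowers ξ :=
        (Subgroup.mem_normalizer_iff.1 hg ξ).1 (Subgroup.mem_zpowers ξ)
      rcases mem_zpowers_three x3 h1 with e | e | e
      · rw [conj_eq_one_iff.1 e, orderOf_one] at ho; omega
      · exact Subgroup.mem_centralizer_singleton_iff.2 (by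
          rw [← map_mul, mul_inv_eq_iff_eq_mul.1 e, map_mul])
      · exact absurd ⟨g, e.trans (eq_inv_of_mul_eq_one_left (by rw [← pow_two, ← pow_succ, x3]))⟩ hn
    exact Subgroup.mem_centralizer_singleton_iff.1 (hle (Subgroup.mem_top k))

theorem exists_hs_of {G : Type*} [Group G] [Finite G] (t : G) (ht : orderOf t = 2)
    (Q N M : Subgroup (Subgroup.centralizer ({t} : Set G))) [Q.Normal] [N.Normal] [M.Normal]
    (hQN : Q ≤ N) (hNM : N ≤ M) (hM : M.index = 2) (hQ : IsExtraspecial 2 Q)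
    (hcard : Nat.card Q = 2 ^ 13) (hN : Nat.card N = 3 * Nat.card Q) (hcent : ⁅M, N⁆ ≤ Q)
    (hperf : M ≤ ⁅M, M⁆ ⊔ Q)
    (h2c : Subgroup.centralizer (Q : Set (Subgroup.centralizer ({t} : Set G))) ≤ Q)
    (hout : ∀ c : Subgroup.centralizer ({t} : Set G), (∀ m ∈ M, c * m * c⁻¹ * m⁻¹ ∈ N) → c ∈ M)
    (hM22 : Spor.IsoM22 (M ⧸ N.subgroupOf M)) :
    ∃ κ ρ μ x, HS t (Q.map (Subgroup.centralizer ({t} : Set G)).subtype) κ ρ μ x := by
  obtain ⟨μ, ξ, H⟩ := exists_raw_of t ht Q N M hQN hNM hM hQ hcard hN hcent hperf h2c hout hM22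
  obtain ⟨κ, ρ, h | h⟩ := H.exists_hs
  exacts [⟨κ, ρ, μ, _, h⟩, ⟨κ, ρ, μ, _, h⟩]

theorem exists_js_of_1646 {G : Type*} [Group G] [Finite G] [IsSimpleGroup G] (t : G)
    (ht : orderOf t = 2)
    (Q N M : Subgroup (Subgroup.centralizer ({t} : Set G))) [Q.Normal] [N.Normal] [M.Normal]
    (hQN : Q ≤ N) (hNM : N ≤ M) (hM : M.index = 2) (hQ : IsExtraspecial 2 Q)
    (hcard : Nat.card Q = 2 ^ 13) (hN : Nat.card N = 3 * Nat.card Q) (hcent : ⁅M, N⁆ ≤ Q)
    (hperf : M ≤ ⁅M, M⁆ ⊔ Q)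
    (h2c : Subgroup.centralizer (Q : Set (Subgroup.centralizer ({t} : Set G))) ≤ Q)
    (hout : ∀ c : Subgroup.centralizer ({t} : Set G), (∀ m ∈ M, c * m * c⁻¹ * m⁻¹ ∈ N) → c ∈ M)
    (hM22 : Spor.IsoM22 (M ⧸ N.subgroupOf M)) : ∃ V θ χ, JS t V θ χ := by
  obtain ⟨κ, ρ, μ, x, S⟩ := exists_hs_of t ht Q N M hQN hNM hM hQ hcard hN hcent hperf h2c hout hM22
  exact S.exists_js

end CL.J4
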