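import Cfsg.Agent.SPOR.J4.OddA
import Cfsg.Agent.SIG.WielOrder
import Cfsg.Agent.SOLV.Primitive
import Cfsg.Agent.PLOC.Fusion
import Cfsg.Agent.FUS.Rk2Calc

/-!
Groups of characteristic 2 type with an element of order 3 whose centraliser is `6.M22`.
-/

set_option autoImplicit false
set_option maxRecDepth 100000
set_option linter.unusedSectionVars false
set_option linter.unusedVariables false

namespace CL.J4

open Finset CL.K CL.CG CL.F2M CL.LX CL.MSS Cfsg CL.Golay CL.MAut MulAction CL.FiRec CL.Fus CL.Orb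
open CL.F24 hiding qf bf qf_add bf_add_left bf_comm bf_add_right bf_self qf_zero bf_zero_left bf_zero_right bf_eq qC bC qC_code bC_code Z0 code_Z0 code_Z0_inv Z0_sq Z0_cube Z0_sum add_Z0 eq_zero_of_Z0 qf_Z0 qf_Z0_inv bf_smul bf_Z0_self eq_zero_of_bf Frame cw

attribute [local irreducible] gcode vcode

open scoped Pointwise

variable {G : Type*} [Group G]

theorem nine_dvd_conj [Finite G] {K A : Subgroup G} (hK : commutator K = ⊤) {x : G} (hx : x ∈ K)
    (hc : ∀ k ∈ K, k * x = x * k) (h3 : x ^ 3 = 1) (hA : ∀ k ∈ K, ∀ a ∈ A, k * a * k⁻¹ ∈ A) :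
    ∃ m, Nat.card A = Nat.card (A ⊓ Subgroup.centralizer {x} : Subgroup G) + 9 * m := by
  let _ : MulAction K G := MulAction.compHom G (MulAut.conj.comp K.subtype)
  have hs : ∀ (k : K) (a : G), k • a = k * a * (k : G)⁻¹ := fun _ _ => rfl
  let X : SubMulAction K G := ⟨{a | a ∈ A ∧ a * x ≠ x * a}, fun k {a} ha => ⟨hA k k.2 a ha.1, fun e =>
    ha.2 (by
      rw [hs] at e
      calc a * x = (k : G)⁻¹ * (k * a * (k : G)⁻¹ * (k * x)) := by group
        _ = (k : G)⁻¹ * (x * k * a) := by rw [hc k k.2, ← mul_assoc _ x, e]; group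
        _ = _ := by rw [← hc k k.2]; group)⟩⟩
  obtain ⟨m, hm⟩ := nine_dvd (L := K) (X := X) (x := ⟨x, hx⟩) hK (fun g => Subtype.ext (hc g g.2))
    (Subtype.ext h3) fun p e => p.2.2 (mul_inv_eq_iff_eq_mul.1 (congrArg Subtype.val e)).symm
  refine ⟨m, ?_⟩
  rw [← hm]
  change (A : Set G).ncard = ((A ⊓ Subgroup.centralizer {x} : Subgroup G) : Set G).ncard +
    (X : Set G).ncard
  rw [← Set.ncard_union_eq (Set.disjoint_left.2 fun a h1 h2 =>
    h2.2 (Subgroup.mem_centralizer_singleton_iff.1 h1.2))]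
  refine congrArg _ (Set.ext fun a => ⟨fun h => ?_, fun h => h.elim (·.1) (·.1)⟩)
  by_cases e : a * x = x * a
  exacts [Or.inl ⟨h, Subgroup.mem_centralizer_singleton_iff.2 e⟩, Or.inr ⟨h, e⟩]

theorem card_syl {K : Type*} [Group K] [Finite K] {p : ℕ} [hp : Fact p.Prime] (P : Sylow p K)
    {k m : ℕ} (h : Nat.card K = p ^ k * m) (hm : ¬ p ∣ m) : Nat.card P = p ^ k := by
  rw [Sylow.card_eq_multiplicity, h, Nat.factorization_mul (pow_ne_zero _ hp.out.ne_zero)
    (fun e : m = 0 => hm (e ▸ dvd_zero p)), hp.out.factorization_pow, Finsupp.add_apply,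
    Finsupp.single_eq_same, Nat.factorization_eq_zero_of_not_dvd hm, add_zero]

theorem iconj_pow {g a : G} {n : ℕ} (h : a ^ n = 1) : (g⁻¹ * a * g) ^ n = 1 := by
  have := conj_pow (a := g⁻¹) (b := a) (i := n)
  rw [inv_inv] at this
  rw [this, h, mul_one, inv_mul_cancel]

theorem comm_central {s t a b : G} (h1 : Commute a s) (h2 : Commute b s) (h3 : Commute a t)
    (h4 : Commute b t) (h5 : Commute t s) :
    s * a * (t * b) * (s * a)⁻¹ * (t * b)⁻¹ = a * b * a⁻¹ * b⁻¹ := by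
  calc _ = s * (a * t * b * a⁻¹) * s⁻¹ * b⁻¹ * t⁻¹ := by group
    _ = t * (a * b * a⁻¹ * b⁻¹) * t⁻¹ := by
      rw [← (((h1.mul_left h5).mul_left h2).mul_left h1.inv_left).eq, h3.eq]; group
    _ = _ := by rw [← (((h3.mul_left h4).mul_left h3.inv_left).mul_left h4.inv_left).eq]; group

/-- the centraliser of `x` is a perfect group `6.M22` with central involution `z` -/
structure Six (x z : G) (φ : Subgroup.centralizer ({x} : Set G) →* Spor.M22) : Prop where
  ox : orderOf x = 3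
  oz : orderOf z = 2
  zc : ∀ k, k * x = x * k → k * z = z * k
  surj : Function.Surjective φ
  ker : ∀ k, φ k = 1 ↔ (k : G) ∈ Subgroup.zpowers (x * z)
  perf : commutator (Subgroup.centralizer ({x} : Set G)) = ⊤

theorem exists_six [Finite G] {x : G} (hx : orderOf x = 3)
    (hperf : ⁅(⊤ : Subgroup (Subgroup.centralizer ({x} : Set G))),
      (⊤ : Subgroup (Subgroup.centralizer ({x} : Set G)))⁆ = ⊤)
    (hZc : Nat.card (Subgroup.center (Subgroup.centralizer ({x} : Set G))) = 6)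
    (e : (Subgroup.centralizer ({x} : Set G)) ⧸ Subgroup.center (Subgroup.centralizer ({x} : Set G)) ≃*
      Spor.M22) : ∃ z φ, Six x z φ := by
  have : Fact (Nat.Prime 2) := ⟨Nat.prime_two⟩
  have mz : ∀ {c : G}, c ∈ Subgroup.centralizer ({x} : Set G) ↔ c * x = x * c :=
    Subgroup.mem_centralizer_singleton_iff
  obtain ⟨⟨z, hz⟩, ho⟩ := exists_prime_orderOf_dvd_card'
    (G := Subgroup.center (Subgroup.centralizer ({x} : Set G))) 2 (by rw [hZc]; norm_num)
  rw [Subgroup.orderOf_mk, ← Subgroup.orderOf_coe] at ho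
  have zc : ∀ k, k * x = x * k → k * z = z * k := fun k hk =>
    congrArg Subtype.val (Subgroup.mem_center_iff.1 hz ⟨k, mz.2 hk⟩)
  have h1 : Subgroup.zpowers (⟨x, mz.2 rfl⟩ * z) = Subgroup.center _ :=
    Subgroup.eq_of_le_of_card_ge (Subgroup.zpowers_le.2 (mul_mem
      (Subgroup.mem_center_iff.2 fun k => Subtype.ext (mz.1 k.2)) hz)) (by
        rw [hZc, Nat.card_zpowers, ← Subgroup.orderOf_coe, Subgroup.coe_mul,
          Commute.orderOf_mul_eq_mul_orderOf_of_coprime (zc x rfl) (by rw [hx, ho]; norm_num), hx, ho])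
  refine ⟨z, e.toMonoidHom.comp (QuotientGroup.mk' _), hx, ho, zc,
    e.surjective.comp (QuotientGroup.mk'_surjective _), fun k => ?_, hperf⟩
  change e (k : _ ⧸ _) = 1 ↔ _
  rw [MulEquiv.map_eq_one_iff, QuotientGroup.eq_one_iff, ← h1,
    ← Subgroup.mem_map_iff_mem (Subgroup.subtype_injective _), MonoidHom.map_zpowers]
  rfl

namespace Six

variable {x z : G} {φ : Subgroup.centralizer ({x} : Set G) →* Spor.M22} (h : Six x z φ)
include h

theorem x3 : x ^ 3 = 1 := h.ox ▸ pow_orderOf_eq_one x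

theorem zz : z * z = 1 := sq_of_orderOf h.oz

theorem z_ne : z ≠ 1 := ne_one_of_orderOf h.oz

theorem x_ne : x ≠ 1 := fun e => by have := h.ox; rw [e, orderOf_one] at this; omega

theorem xx : x * x = x⁻¹ := eq_inv_of_mul_eq_one_left (by rw [← pow_two, ← pow_succ, h.x3])

theorem dec {k : G} (hk : k ∈ Subgroup.zpowers (x * z)) :
    ∃ a ∈ Subgroup.zpowers x, ∃ b, (b = 1 ∨ b = z) ∧ a ^ 3 = 1 ∧ Commute a b ∧ k = a * b := by
  obtain ⟨i, rfl⟩ := hk
  have c : Commute x z := h.zc x rfl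
  refine ⟨x ^ i, ⟨i, rfl⟩, z ^ i, (mem_zpowers_of_sq h.zz).1 ⟨i, rfl⟩, ?_, c.zpow_zpow i i, c.mul_zpow i⟩
  rw [← zpow_natCast, ← zpow_mul, mul_comm, zpow_mul, zpow_natCast, h.x3, one_zpow]

theorem two {k : G} (hk : k ∈ Subgroup.zpowers (x * z)) {n : ℕ} (hn : k ^ 2 ^ n = 1) :
    k = 1 ∨ k = z := by
  obtain ⟨a, -, b, hb, h3, c, rfl⟩ := h.dec hk
  have b2 : b ^ 2 = 1 := by rcases hb with rfl | rfl; exacts [one_pow _, by rw [pow_two, h.zz]]
  have h1 : a ^ 2 ^ (n + 1) = 1 := by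
    have := congrArg (· ^ 2) hn
    simp only [c.mul_pow, (c.pow_pow _ _).mul_pow, one_pow] at this
    rwa [← pow_mul b, mul_comm, pow_mul b, b2, one_pow, mul_one, ← pow_mul, ← pow_succ] at this
  have h2 := (pow_gcd_eq_one (a := a) (m := 2 ^ (n + 1)) (n := 3)).2 ⟨h1, h3⟩
  rw [Nat.Coprime.gcd_eq_one (Nat.Coprime.pow_left _ (by norm_num)), pow_one] at h2
  rwa [h2, one_mul]

theorem three {k : G} (hk : k ∈ Subgroup.zpowers (x * z)) (hn : k ^ 3 = 1) :
    k ∈ Subgroup.zpowers x := by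
  obtain ⟨a, ha, b, hb, h3, c, rfl⟩ := h.dec hk
  rcases hb with rfl | rfl
  · rwa [mul_one]
  · rw [c.mul_pow, h3, one_mul, pow_succ, pow_two, h.zz, one_mul] at hn
    exact absurd hn h.z_ne

theorem card_K [Finite G] : Nat.card (Subgroup.centralizer ({x} : Set G)) = 6 * 443520 := by
  have h1 : φ.ker.map (Subgroup.subtype _) = Subgroup.zpowers (x * z) := by
    refine le_antisymm (by rintro _ ⟨k, hk, rfl⟩; exact (h.ker k).1 hk) (Subgroup.zpowers_le.2 ?_)
    have : x * z ∈ Subgroup.centralizer ({x} : Set G) :=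
      Subgroup.mem_centralizer_singleton_iff.2 (by rw [mul_assoc, ← h.zc x rfl])
    exact ⟨⟨_, this⟩, (h.ker _).2 (Subgroup.mem_zpowers _), rfl⟩
  rw [← φ.ker.card_mul_index, Subgroup.index_ker, MonoidHom.range_eq_top.2 h.surj, Subgroup.card_top,
    card_M22, ← Subgroup.card_map_of_injective (Subgroup.subtype_injective _), h1, Nat.card_zpowers,
    Commute.orderOf_mul_eq_mul_orderOf_of_coprime (h.zc x rfl) (by rw [h.ox, h.oz]; norm_num),
    h.ox, h.oz]

theorem cases {g : G} (hg : g ∈ Subgroup.normalizer (Subgroup.zpowers x : Set G)) :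
    g * x = x * g ∨ g * x * g⁻¹ = x⁻¹ := by
  rcases mem_zpowers_three h.x3
    ((Subgroup.mem_normalizer_iff.1 hg x).1 (Subgroup.mem_zpowers x)) with e | e | e
  exacts [absurd (conj_eq_one_iff.1 e) h.x_ne, Or.inl (mul_inv_eq_iff_eq_mul.1 e),
    Or.inr (e.trans h.xx)]

theorem conj_K {g : G} (hg : g ∈ Subgroup.normalizer (Subgroup.zpowers x : Set G)) {k : G}
    (hk : k * x = x * k) : g * k * g⁻¹ * x = x * (g * k * g⁻¹) := by
  obtain ⟨i, hi⟩ := (Subgroup.mem_normalizer_iff.1 (inv_mem hg) x).1 (Subgroup.mem_zpowers x)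
  have h1 := ((show Commute k x from hk).zpow_right i).eq
  simp only [inv_inv] at hi
  rw [hi] at h1
  calc _ = g * (k * (g⁻¹ * x * g)) * g⁻¹ := by group
    _ = _ := by rw [h1]; group

theorem mem_of_cent {k : G} (hk : k * x = x * k)
    (hc : ∀ l, l * x = x * l → l * k * l⁻¹ * k⁻¹ ∈ Subgroup.zpowers (x * z)) :
    k ∈ Subgroup.zpowers (x * z) := by
  refine (h.ker ⟨k, Subgroup.mem_centralizer_singleton_iff.2 hk⟩).1
    (center_M22 (Subgroup.mem_center_iff.2 fun g => ?_))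
  obtain ⟨l, rfl⟩ := h.surj g
  rw [← mul_inv_eq_iff_eq_mul, ← mul_inv_eq_one, ← map_inv, ← map_inv, ← map_mul, ← map_mul,
    ← map_mul, h.ker]
  exact hc l (Subgroup.mem_centralizer_singleton_iff.1 l.2)

theorem norm_z {g : G} (hg : g ∈ Subgroup.normalizer (Subgroup.zpowers x : Set G)) :
    g * z = z * g := by
  have h1 := h.mem_of_cent (h.conj_K hg (h.zc x rfl).symm) fun l hl => by
    have := h.zc _ (h.conj_K (inv_mem hg) hl)
    rw [show l * (g * z * g⁻¹) * l⁻¹ * (g * z * g⁻¹)⁻¹ =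
      g * (g⁻¹ * l * g⁻¹⁻¹ * z) * g⁻¹ * l⁻¹ * (g * z * g⁻¹)⁻¹ by group, this,
      show g * (z * (g⁻¹ * l * g⁻¹⁻¹)) * g⁻¹ * l⁻¹ * (g * z * g⁻¹)⁻¹ = 1 by group]
    exact one_mem _
  rcases h.two h1 (n := 1) (by rw [pow_one, conj_pow, pow_two, h.zz]; simp) with e | e
  exacts [absurd (conj_eq_one_iff.1 e) h.z_ne, mul_inv_eq_iff_eq_mul.1 e]

variable [Finite G]

theorem syl : ∃ T : Sylow 3 G, Nat.card T = 27 ∧ (∀ a ∈ (T : Subgroup G), a * x = x * a) ∧
    (Subgroup.center (T : Subgroup G)).map (T : Subgroup G).subtype = Subgroup.zpowers x ∧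
    ∀ a ∈ (T : Subgroup G), ∀ b ∈ (T : Subgroup G), a * b * a⁻¹ * b⁻¹ ∈ Subgroup.zpowers x := by
  have : Fact (Nat.Prime 3) := ⟨Nat.prime_three⟩
  have mz : ∀ {c : G}, c ∈ Subgroup.centralizer ({x} : Set G) ↔ c * x = x * c :=
    Subgroup.mem_centralizer_singleton_iff
  obtain ⟨P⟩ : Nonempty (Sylow 3 (Subgroup.centralizer ({x} : Set G))) := inferInstance
  have hP : Nat.card P = 3 ^ 3 := card_syl P (m := 98560) h.card_K (by norm_num)
  have xc : (⟨x, mz.2 rfl⟩ : Subgroup.centralizer ({x} : Set G)) ∈ Subgroup.center _ :=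
    Subgroup.mem_center_iff.2 fun k => Subtype.ext (mz.1 k.2)
  have hna : ¬ IsMulCommutative (P : Subgroup (Subgroup.centralizer ({x} : Set G))) := fun hc => by
    have h1 := congrArg Subtype.val
      (CL.Tr.pow_index_eq_one_of_mem_center_commutator hc xc (h.perf ▸ Subgroup.mem_top _))
    exact P.not_dvd_index (h.ox.symm.dvd.trans (orderOf_dvd_of_pow_eq_one (x := x) h1))
  have hB : IsPGroup 3 ((P : Subgroup _).map (Subgroup.centralizer ({x} : Set G)).subtype) :=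
    P.isPGroup'.map _
  have e := (P : Subgroup (Subgroup.centralizer ({x} : Set G))).equivMapOfInjective _
    (Subgroup.subtype_injective _)
  have cB : Nat.card ((P : Subgroup _).map (Subgroup.centralizer ({x} : Set G)).subtype) = 3 ^ 3 :=
    (Nat.card_congr e.toEquiv).symm.trans hP
  have mx : ∀ D : Subgroup G, IsPGroup 3 D → (∀ a ∈ D, a * x = x * a) →
      (P : Subgroup _).map (Subgroup.centralizer ({x} : Set G)).subtype ≤ D →
      D = (P : Subgroup _).map (Subgroup.centralizer ({x} : Set G)).subtype := fun D hD hx hle => by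
    rw [← P.is_maximal' (hD.comap_subtype (K := Subgroup.centralizer {x}))
      (Subgroup.map_le_iff_le_comap.1 hle), Subgroup.comap_subtype,
      Subgroup.map_subgroupOf_eq_of_le fun a ha => mz.2 (hx a ha)]
  have bx : ∀ a ∈ (P : Subgroup _).map (Subgroup.centralizer ({x} : Set G)).subtype,
    a * x = x * a := by rintro _ ⟨a, -, rfl⟩; exact mz.1 a.2
  generalize (P : Subgroup _).map (Subgroup.centralizer ({x} : Set G)).subtype = B at *
  obtain ⟨c1, c2⟩ := CL.PG.card_center_of_cube cB fun hc => hna ⟨⟨fun a b => e.injective (by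
    rw [map_mul, map_mul, hc.1.1])⟩⟩
  have sup : ∀ a : G, IsPGroup 3 (Subgroup.zpowers a) → a * x = x * a → (∀ b ∈ B, b * a = a * b) →
      a ∈ B := fun a ha hx hb => by
    rw [← mx (B ⊔ Subgroup.zpowers a) (hB.to_sup_of_normal_right' ha (fun b hb' =>
      Subgroup.centralizer_le_normalizer _ (by
        rw [centralizer_zpowers]; exact Subgroup.mem_centralizer_singleton_iff.2 (hb b hb'))))
      (fun c hc => mz.1 ((sup_le (fun b hb' => mz.2 (bx b hb'))
        (Subgroup.zpowers_le.2 (mz.2 hx))) hc)) le_sup_left]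
    exact Subgroup.mem_sup_right (Subgroup.mem_zpowers a)
  have xB : x ∈ B := sup x (isPGroup_zpowers (k := 1) (by rw [pow_one, h.x3])) rfl bx
  have zB : (Subgroup.center B).map B.subtype = Subgroup.zpowers x :=
    (Subgroup.eq_of_le_of_card_ge ((Subgroup.zpowers_le (g := x)).2 (Subgroup.mem_map.2 ⟨⟨x, xB⟩,
      Subgroup.mem_center_iff.2 fun b => Subtype.ext (bx b b.2), rfl⟩)) (by
        rw [Subgroup.card_map_of_injective (Subgroup.subtype_injective _), c1, Nat.card_zpowers,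
          h.ox])).symm
  obtain ⟨T, hT⟩ := hB.exists_le_sylow
  have : Nontrivial (T : Subgroup G) := ⟨⟨⟨x, hT xB⟩, 1, fun e => h.x_ne (congrArg Subtype.val e)⟩⟩
  have := T.isPGroup'.center_nontrivial
  obtain ⟨⟨⟨a, ha⟩, hc⟩, a1⟩ := exists_ne (1 : Subgroup.center (T : Subgroup G))
  have ac : ∀ b ∈ (T : Subgroup G), b * a = a * b := fun b hb =>
    congrArg Subtype.val (Subgroup.mem_center_iff.1 hc ⟨b, hb⟩)
  have aB : a ∈ B := sup a (T.isPGroup'.to_le (Subgroup.zpowers_le.2 ha)) (ac x (hT xB)).symm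
    fun b hb => ac b (hT hb)
  have ax : a ∈ Subgroup.zpowers x :=
    zB ▸ ⟨⟨a, aB⟩, Subgroup.mem_center_iff.2 fun b => Subtype.ext (ac b (hT b.2)), rfl⟩
  have tx : ∀ b ∈ (T : Subgroup G), b * x = x * b := fun b hb => by
    rcases mem_zpowers_three h.x3 ax with e | e | e
    · exact absurd (Subtype.ext (Subtype.ext e)) a1
    · exact e ▸ ac b hb
    · exact (Commute.inv_right_iff.1 (show Commute b x⁻¹ from h.xx ▸ e ▸ ac b hb)).eq
  have eT := mx _ T.isPGroup' tx hT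
  refine ⟨T, by rw [eT, cB]; rfl, tx, by rw [eT, zB], fun a ha b hb => ?_⟩
  rw [eT] at ha hb
  exact zB ▸ ⟨_, c2 (Subgroup.commutator_mem_commutator (Subgroup.mem_top (⟨a, ha⟩ : B))
    (Subgroup.mem_top (⟨b, hb⟩ : B))), rfl⟩

theorem not81 : ¬ 81 ∣ Nat.card G := fun h81 => by
  have : Fact (Nat.Prime 3) := ⟨Nat.prime_three⟩
  obtain ⟨T, hT, -⟩ := h.syl
  have h1 := (T : Subgroup G).card_mul_index
  have h2 := T.not_dvd_index
  rw [hT] at h1
  omega

theorem exists_y (S : Sylow 3 G) (g : G)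
    (hng : ((Subgroup.center (S : Subgroup G)).map (S : Subgroup G).subtype).map
      (MulAut.conj g).toMonoidHom ≤ (S : Subgroup G))
    (hne : ((Subgroup.center (S : Subgroup G)).map (S : Subgroup G).subtype).map
      (MulAut.conj g).toMonoidHom ≠
        ((Subgroup.center (S : Subgroup G)).map (S : Subgroup G).subtype)) :
    ∃ y, IsConj x y ∧ y * x = x * y ∧ y ∉ Subgroup.zpowers x := by
  have : Fact (Nat.Prime 3) := ⟨Nat.prime_three⟩
  obtain ⟨T, -, h1, h2, -⟩ := h.syl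
  obtain ⟨k, rfl⟩ := exists_smul_eq G T S
  have mS : ∀ a, a ∈ ((k • T : Sylow 3 G) : Subgroup G) ↔ k⁻¹ * a * k ∈ (T : Subgroup G) := fun a => by
    rw [Sylow.coe_subgroup_smul, Subgroup.mem_pointwise_smul_iff_inv_smul_mem]; rfl
  have mZ : ∀ (D : Subgroup G) a, a ∈ (Subgroup.center D).map D.subtype ↔
      a ∈ D ∧ ∀ b ∈ D, b * a = a * b := fun D a =>
    ⟨by rintro ⟨a, ha, rfl⟩; exact ⟨a.2, fun b hb =>
      congrArg Subtype.val (Subgroup.mem_center_iff.1 ha ⟨b, hb⟩)⟩,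
      fun ⟨h1, h2⟩ => ⟨⟨a, h1⟩, Subgroup.mem_center_iff.2 fun b => Subtype.ext (h2 b b.2), rfl⟩⟩
  have mP : ∀ a, a ∈ Subgroup.zpowers (k * x * k⁻¹) ↔ k⁻¹ * a * k ∈ Subgroup.zpowers x := fun a =>
    ⟨by rintro ⟨i, rfl⟩; exact ⟨i, by simp only [conj_zpow]; group⟩,
      fun ⟨i, hi⟩ => ⟨i, by simp only [conj_zpow] at hi ⊢; rw [hi]; group⟩⟩
  have h3 : (Subgroup.center ((k • T : Sylow 3 G) : Subgroup G)).map (Subgroup.subtype _) =
      Subgroup.zpowers (k * x * k⁻¹) := Subgroup.ext fun a => by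
    rw [mP, ← h2, mZ, mZ, mS]
    refine and_congr_right fun _ => ⟨fun e b hb => ?_, fun e b hb => ?_⟩
    · have := e (k * b * k⁻¹) ((mS _).2 (by simpa [mul_assoc] using hb))
      calc _ = k⁻¹ * (k * b * k⁻¹ * a) * k := by group
        _ = _ := by rw [this]; group
    · have := e _ ((mS b).1 hb)
      calc _ = k * (k⁻¹ * b * k * (k⁻¹ * a * k)) * k⁻¹ := by group
        _ = _ := by rw [this]; group
  rw [h3, MonoidHom.map_zpowers] at hng hne
  refine ⟨k⁻¹ * (g * (k * x * k⁻¹) * g⁻¹) * k, isConj_iff.2 ⟨k⁻¹ * g * k, by group⟩,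
    h1 _ ((mS _).1 (hng (Subgroup.mem_zpowers _))), fun e => hne ?_⟩
  refine Subgroup.eq_of_le_of_card_ge (Subgroup.zpowers_le.2 ((mP _).2 e)) ?_
  rw [Nat.card_zpowers, Nat.card_zpowers, orderOf_injective _ (MulAut.conj g).injective]

theorem conj_all {y : G} (hy : IsConj x y) (hc : y * x = x * y) (hn : y ∉ Subgroup.zpowers x) :
    (∀ a ∈ Subgroup.zpowers x, IsConj y (y * a)) ∧ IsConj y y⁻¹ := by
  have : Fact (Nat.Prime 3) := ⟨Nat.prime_three⟩
  have mz : ∀ {c : G}, c ∈ Subgroup.centralizer ({x} : Set G) ↔ c * x = x * c :=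
    Subgroup.mem_centralizer_singleton_iff
  have y3 : y ^ 3 = 1 := by
    obtain ⟨c, rfl⟩ := isConj_iff.1 hy
    rw [conj_pow, h.x3]; simp
  obtain ⟨T, t1, t2, t3, t4⟩ := h.syl
  have hT : IsPGroup 3 ((T : Subgroup G).subgroupOf (Subgroup.centralizer {x})) :=
    T.isPGroup'.comap_subtype
  obtain ⟨k, hk⟩ := exists_conj_le (isPGroup_zpowers (x := (⟨y, mz.2 hc⟩ : Subgroup.centralizer {x}))
    (k := 1) (Subtype.ext (by simpa using y3))) hT (by
      have := ((T : Subgroup G).subgroupOf (Subgroup.centralizer {x})).card_mul_index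
      rw [Nat.card_congr (Subgroup.subgroupOfEquivOfLe fun a ha => mz.2 (t2 a ha)).toEquiv, t1,
        h.card_K] at this
      omega)
  have h1 : (k : G) * y * (k : G)⁻¹ ∈ (T : Subgroup G) := hk _ (Subgroup.mem_zpowers _)
  have kc : ∀ l : G, l * x = x * l → ∀ a ∈ Subgroup.zpowers x, l * a = a * l := by
    rintro l hl _ ⟨i, rfl⟩
    exact ((show Commute l x from hl).zpow_right i).eq
  obtain ⟨t, ht, hty⟩ : ∃ t ∈ (T : Subgroup G), t * (k * y * (k : G)⁻¹) ≠ k * y * (k : G)⁻¹ * t := by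
    by_contra! hh
    have h2 : (k : G) * y * (k : G)⁻¹ ∈ Subgroup.zpowers x :=
      t3 ▸ ⟨⟨_, h1⟩, Subgroup.mem_center_iff.2 fun b => Subtype.ext (hh b b.2), rfl⟩
    have h3 := kc _ (mz.1 k.2) _ h2
    rw [inv_mul_cancel_right, mul_right_inj] at h3
    exact hn (h3 ▸ h2)
  obtain ⟨s, b, hb, hs, b1, e⟩ : ∃ s b : G, b ∈ Subgroup.zpowers x ∧ s * x = x * s ∧ b ≠ 1 ∧
      s * y * s⁻¹ = b * y := by
    refine ⟨(k : G)⁻¹ * t * k, _, t4 t ht _ h1, mz.1 (mul_mem (mul_mem (inv_mem k.2)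
      (mz.2 (t2 t ht))) k.2), fun e => hty (by rwa [mul_inv_eq_one, mul_inv_eq_iff_eq_mul] at e), ?_⟩
    have h2 := kc _ (mz.1 k.2) _ (t4 t ht _ h1)
    generalize (k : G) = k at *
    calc _ = k⁻¹ * (t * (k * y * k⁻¹) * t⁻¹ * (k * y * k⁻¹)⁻¹ * k) * y := by group
      _ = _ := by rw [← h2]; group
  have c1 : IsConj y (y * b) := isConj_iff.2 ⟨s, by rw [e, kc y hc b hb]⟩
  have c2 : IsConj y (y * (b * b)) := isConj_iff.2 ⟨s * s, by
    calc _ = s * (s * y * s⁻¹) * s⁻¹ := by group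
      _ = s * (b * y) * s⁻¹ := by rw [e]
      _ = (s * b * s⁻¹) * (s * y * s⁻¹) := by group
      _ = _ := by rw [e, kc s hs b hb, mul_inv_cancel_right, ← mul_assoc,
        kc y hc _ (mul_mem hb hb)]⟩
  have key : ∀ a ∈ Subgroup.zpowers x, IsConj y (y * a) := fun a ha => by
    have e4 : x * x * (x * x) = x := by rw [h.xx, ← mul_inv_rev, h.xx, inv_inv]
    rcases mem_zpowers_three h.x3 ha with rfl | ea | ea
    · rw [mul_one]
    all_goals
      rcases mem_zpowers_three h.x3 hb with eb | eb | eb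
      · exact absurd eb b1
      all_goals
        rw [eb] at c1 c2
        first | exact ea ▸ c1 | exact ea ▸ c2 | exact ea ▸ e4 ▸ c2
  refine ⟨key, ?_⟩
  obtain ⟨l, hl⟩ := real3_M22 (y := φ ⟨y, mz.2 hc⟩) (by
    rw [← map_pow, show (⟨y, mz.2 hc⟩ : Subgroup.centralizer {x}) ^ 3 = 1 from Subtype.ext y3, map_one])
  obtain ⟨l, rfl⟩ := h.surj l
  rw [← mul_eq_one_iff_eq_inv, ← map_inv, ← map_mul, ← map_mul, ← map_mul, h.ker] at hl
  obtain ⟨a, ha, b, hb, -, -, e⟩ := h.dec hl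
  replace e : (l : G) * y * (l : G)⁻¹ * y = a * b := e
  have yb : Commute y b := by rcases hb with rfl | rfl; exacts [Commute.one_right _, h.zc y hc]
  have ya : Commute y a := kc y hc a ha
  have e2 : (l : G) * y * (l : G)⁻¹ = a * b * y⁻¹ := by rw [← e, mul_inv_cancel_right]
  have h4 := h.three (k := a * b) (e ▸ (hl : (l : G) * y * (l : G)⁻¹ * y ∈ _)) (by
    have := congrArg (· ^ 3) e2
    simp only [conj_pow, y3] at this
    rw [((ya.mul_right yb).symm.inv_right).mul_pow, inv_pow, y3] at this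
    simpa using this.symm)
  have h5 := isConj_iff.1 (key _ (inv_mem h4))
  obtain ⟨u, hu⟩ := h5
  refine (_root_.isConj_iff.2 ⟨(l : G), e2⟩).trans (_root_.isConj_iff.2 ⟨u⁻¹, ?_⟩)
  rw [show a * b * y⁻¹ = (y * (a * b)⁻¹)⁻¹ by group, ← hu]
  group

theorem norm_Q {k : G} (hk : k * z = z * k) {q : G} (hq : q ∈ O2C z) : k * q * k⁻¹ ∈ O2C z :=
  (Subgroup.mem_normalizer_iff.1 (centralizer_le_normalizer_O2C z
    (Subgroup.mem_centralizer_singleton_iff.2 hk)) q).1 hq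

omit h in
theorem pg_Q : IsPGroup 2 (O2C z) := (isPGroup_pCore 2 _).map _

theorem QK {q : G} (hq : q ∈ O2C z) (hx : q * x = x * q) : q = 1 ∨ q = z := by
  have := simple_M22
  have : Fact (Nat.Prime 2) := ⟨Nat.prime_two⟩
  have hn : ((O2C z).subgroupOf (Subgroup.centralizer {x})).Normal := ⟨fun a ha k =>
    h.norm_Q (h.zc k (Subgroup.mem_centralizer_singleton_iff.1 k.2)) ha⟩
  have hp : IsPGroup 2 (((O2C z).subgroupOf (Subgroup.centralizer {x})).map φ) :=
    (pg_Q.comap_subtype).map _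
  obtain ⟨n, hn'⟩ := pg_Q ⟨q, hq⟩
  rcases (hn.map φ h.surj).eq_bot_or_eq_top with e | e
  · refine h.two ((h.ker ⟨q, Subgroup.mem_centralizer_singleton_iff.2 hx⟩).1 ?_)
      (congrArg Subtype.val hn')
    rw [← Subgroup.mem_bot, ← e]
    exact ⟨_, hq, rfl⟩
  · obtain ⟨k, hk⟩ := hp.exists_card_eq
    rw [e, Subgroup.card_top, card_M22] at hk
    exact absurd (Nat.Prime.dvd_of_dvd_pow Nat.prime_three (hk ▸ by norm_num : 3 ∣ 2 ^ k))
      (by norm_num)

theorem inf_cent {A : Subgroup G} (hA : A ≤ O2C z) (hz : z ∈ A) :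
    Nat.card (A ⊓ Subgroup.centralizer {x} : Subgroup G) = 2 := by
  rw [← h.oz, ← Nat.card_zpowers]
  refine congrArg (fun B : Subgroup G => Nat.card B) (le_antisymm (fun a ha =>
    (mem_zpowers_of_sq h.zz).2 (h.QK (hA ha.1) (Subgroup.mem_centralizer_singleton_iff.1 ha.2)))
    (Subgroup.zpowers_le.2 ⟨hz, Subgroup.mem_centralizer_singleton_iff.2 (h.zc x rfl).symm⟩))

theorem bound {y : G} (hy : IsConj x y) (hc : y * x = x * y) (hn : y ∉ Subgroup.zpowers x) :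
    ∃ k, Nat.card (O2C z ⊓ Subgroup.centralizer {y} : Subgroup G) = 2 ^ k ∧ k ≤ 5 ∧
      ((∀ q ∈ O2C z, q * q = 1) → k ≤ 3) := by
  have : Fact (Nat.Prime 3) := ⟨Nat.prime_three⟩
  have : Fact (Nat.Prime 2) := ⟨Nat.prime_two⟩
  have mz : ∀ {c d : G}, c ∈ Subgroup.centralizer ({d} : Set G) ↔ c * d = d * c :=
    Subgroup.mem_centralizer_singleton_iff
  obtain ⟨g, rfl⟩ := _root_.isConj_iff.1 hy
  obtain ⟨k, hk⟩ := (pg_Q.to_inf_left (K := Subgroup.centralizer {g * x * g⁻¹})).exists_card_eq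
  have xn : ∀ r ∈ O2C z ⊓ Subgroup.centralizer {g * x * g⁻¹},
      x * r * x⁻¹ ∈ O2C z ⊓ Subgroup.centralizer {g * x * g⁻¹} := fun r hr =>
    ⟨h.norm_Q (h.zc x rfl) hr.1, Subgroup.mul_mem _ (Subgroup.mul_mem _ (mz.2 hc.symm) hr.2)
      (Subgroup.inv_mem _ (mz.2 hc.symm))⟩
  have h1 := CL.Prim.card_modEq_card_inf_centralizer (isPGroup_zpowers (x := x) (k := 1)
    (by rw [pow_one, h.x3])) (Subgroup.zpowers_le.2 (Subgroup.mem_normalizer_fintype xn))
  rw [centralizer_zpowers, h.inf_cent inf_le_left ⟨mem_O2C_self h.zz, mz.2 (h.zc _ hc).symm⟩, hk] at h1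
  have mem : ∀ r : (O2C z ⊓ Subgroup.centralizer {g * x * g⁻¹} : Subgroup G),
      g⁻¹ * r * g ∈ Subgroup.centralizer ({x} : Set G) := fun r => mz.2 (by
    calc _ = g⁻¹ * (r * (g * x * g⁻¹)) * g := by group
      _ = _ := by rw [mz.1 r.2.2]; group)
  let ψ : (O2C z ⊓ Subgroup.centralizer {g * x * g⁻¹} : Subgroup G) →* Spor.M22 :=
    φ.comp ⟨⟨fun r => ⟨_, mem r⟩, Subtype.ext (by simp)⟩, fun a b => Subtype.ext (by
      simp only [Subgroup.coe_mul]; group)⟩
  have hψ : ∀ r, ψ r = φ ⟨_, mem r⟩ := fun _ => rfl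
  have wK : g⁻¹ * x * g ∈ Subgroup.centralizer ({x} : Set G) := mz.2 (by
    calc _ = g⁻¹ * (x * (g * x * g⁻¹)) * g := by group
      _ = _ := by rw [← hc]; group)
  refine ⟨k, hk, ?_⟩
  by_cases gz : g * z = z * g
  · have : k ≤ 1 := by
      rw [← Nat.pow_le_pow_iff_right one_lt_two, ← hk, pow_one, ← h.oz, ← Nat.card_zpowers]
      refine Subgroup.card_le_of_le fun r hr => (mem_zpowers_of_sq h.zz).2 ?_
      have gz' : g⁻¹ * z = z * g⁻¹ := (Commute.inv_left gz).eq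
      rcases h.QK (h.norm_Q gz' hr.1) (by rw [inv_inv]; exact mz.1 (mem ⟨r, hr⟩)) with e | e
      · exact Or.inl (conj_eq_one_iff.1 e)
      · rw [mul_inv_eq_iff_eq_mul, ← gz', mul_right_inj] at e
        exact Or.inr e
    omega
  have inj : Function.Injective ψ := (injective_iff_map_eq_one ψ).2 fun r hr => by
    obtain ⟨n, hn⟩ := pg_Q (z := z) ⟨(r : G), r.2.1⟩
    have h2 : (r : G) ^ 2 ^ n = 1 := congrArg Subtype.val hn
    rcases h.two ((h.ker _).1 hr) (n := n) (iconj_pow h2) with e | e <;> replace e : g⁻¹ * r * g = _ := e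
    · exact Subtype.ext (by simpa [mul_assoc, inv_mul_eq_iff_eq_mul] using e)
    · have e1 : (r : G) = g * z * g⁻¹ :=
        (show (r : G) = g * (g⁻¹ * r * g) * g⁻¹ by group).trans (by rw [e])
      have e2 := h.zc _ (mz.1 wK)
      rcases h.QK r.2.1 (by
        rw [e1]
        calc _ = g * (z * (g⁻¹ * x * g)) * g⁻¹ := by group
          _ = _ := by rw [← e2]; group) with e3 | e3
      exacts [Subtype.ext e3, absurd (mul_inv_eq_iff_eq_mul.1 (e1.symm.trans e3)) gz]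
  have hc' : Nat.card ψ.range = 2 ^ k := by
    rw [← hk]; exact (Nat.card_congr (MonoidHom.ofInjective inj).toEquiv).symm
  have h2 : 2 ^ k ∣ 443520 := card_M22 ▸ hc' ▸ ψ.range.card_subgroup_dvd_card
  have h3 : k ≤ 7 := by
    by_contra hh
    exact absurd ((pow_dvd_pow 2 (by omega : 8 ≤ k)).trans h2) (by norm_num)
  have h4 : k ≠ 7 := fun e => by
    have h5 := (h.ker _).1 (syl2_M22 (e ▸ hc') (w := φ ⟨_, wK⟩) (by
      rw [← map_pow, show (⟨_, wK⟩ : Subgroup.centralizer {x}) ^ 3 = 1 from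
        Subtype.ext (iconj_pow h.x3), map_one]) (by
      rintro _ ⟨r, rfl⟩
      refine ⟨⟨_, xn r r.2⟩, ?_⟩
      rw [hψ, hψ, ← map_inv, ← map_mul, ← map_mul]
      exact congrArg φ (Subtype.ext (by simp only [Subgroup.coe_mul, Subgroup.coe_inv]; group))))
    have h6 : g⁻¹ ∈ Subgroup.normalizer (Subgroup.zpowers x : Set G) :=
      Subgroup.mem_normalizer_fintype (by
        rintro _ ⟨i, rfl⟩
        simp only [← conj_zpow]
        rw [inv_inv]
        exact zpow_mem (h.three h5 (iconj_pow h.x3)) i)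
    exact gz (h.norm_z (inv_mem_iff.1 h6))
  refine ⟨by interval_cases k <;> first | omega | exact absurd h1 (by decide), fun h2 => ?_⟩
  have h5 := ea_M22 (R := ψ.range) (by
    rintro _ ⟨r, rfl⟩
    rw [← map_mul, show r * r = 1 from Subtype.ext (h2 r r.2.1), map_one])
  rw [hc'] at h5
  interval_cases k <;> first | omega | exact absurd h1 (by decide)

theorem card_le {y : G} (hy : IsConj x y) (hc : y * x = x * y) (hn : y ∉ Subgroup.zpowers x) :
    Nat.card (O2C z) ≤ 2 ^ 13 ∧ ((∀ q ∈ O2C z, q * q = 1) → Nat.card (O2C z) ≤ 2 ^ 7) := by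
  classical
  have : Fact (Nat.Prime 2) := ⟨Nat.prime_two⟩
  have mz : ∀ {c d : G}, c ∈ Subgroup.centralizer ({d} : Set G) ↔ c * d = d * c :=
    Subgroup.mem_centralizer_singleton_iff
  have y3 : y ^ 3 = 1 := by
    obtain ⟨c, rfl⟩ := _root_.isConj_iff.1 hy
    rw [conj_pow, h.x3]; simp
  have c : Commute y x := hc
  let f := (Subgroup.zpowers y).subtype.noncommCoprod (Subgroup.zpowers x).subtype
    (by rintro ⟨_, i, rfl⟩ ⟨_, j, rfl⟩; exact c.zpow_zpow i j)
  have hf : ∀ p, f p = p.1 * p.2 := fun _ => rfl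
  have yx : ∀ b ∈ Subgroup.zpowers y, b ∈ Subgroup.zpowers x → b = 1 := fun b h1 h2 => by
    rcases mem_zpowers_three y3 h1 with rfl | rfl | rfl
    exacts [rfl, absurd h2 hn, absurd (by
      have := mul_mem h2 h2
      rwa [← pow_two, ← pow_two, ← pow_mul, pow_succ, y3, one_mul] at this) hn]
  have inj : Function.Injective f := (injective_iff_map_eq_one f).2 fun p e => by
    rw [hf] at e
    have h1 := yx _ p.1.2 (eq_inv_of_mul_eq_one_left e ▸ inv_mem p.2.2)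
    rw [h1, one_mul] at e
    exact Prod.ext (Subtype.ext h1) (Subtype.ext e)
  have oy : orderOf y = 3 := by
    obtain ⟨u, hu⟩ := _root_.isConj_iff.1 hy
    rw [← hu, ← h.ox]
    exact (MulAut.conj u).orderOf_eq x
  have cE : Nat.card f.range = 9 := by
    rw [← Nat.card_congr (MonoidHom.ofInjective inj).toEquiv, Nat.card_prod, Nat.card_zpowers,
      Nat.card_zpowers, oy, h.ox]
  have := Fintype.ofFinite f.range
  have ex : ∀ a ∈ f.range, a * x = x * a := by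
    rintro _ ⟨⟨⟨_, i, rfl⟩, ⟨_, j, rfl⟩⟩, rfl⟩
    exact ((c.zpow_left i).mul_left ((Commute.refl x).zpow_left j)).eq
  obtain ⟨n, hQ⟩ := (pg_Q (z := z)).exists_card_eq
  have h1 := CL.WOrd.order_formula' Nat.prime_three f.range (O2C z) (by
      rintro _ ⟨p, rfl⟩
      rw [← map_pow, show p ^ 3 = 1 from Prod.ext (oy ▸ Nat.card_zpowers y ▸ pow_card_eq_one')
        (h.ox ▸ Nat.card_zpowers x ▸ pow_card_eq_one'), map_one]) (by omega)
    (fun a ha => centralizer_le_normalizer_O2C z (mz.2 (h.zc a (ex a ha))))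
    (by rw [hQ]; exact fun e => absurd (Nat.prime_three.dvd_of_dvd_pow e) (by norm_num))
  have h2 : 2 ≤ Nat.card (O2C z ⊓ Subgroup.centralizer (f.range : Set G) : Subgroup G) := by
    rw [← h.oz, ← Nat.card_zpowers]
    exact Subgroup.card_le_of_le (Subgroup.zpowers_le.2
      ⟨mem_O2C_self h.zz, fun a ha => h.zc a (ex a ha)⟩)
  have xE : x ∈ f.range := ⟨(1, ⟨x, Subgroup.mem_zpowers x⟩), one_mul x⟩
  have n1 : (⟨x, xE⟩ : f.range) ≠ 1 := fun e => h.x_ne (congrArg Subtype.val e)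
  have n2 : (⟨x, xE⟩ : f.range)⁻¹ ≠ ⟨x, xE⟩ := fun e => h.x_ne (by
    have e1 : x⁻¹ = x := congrArg Subtype.val e
    rw [← h.xx] at e1
    exact mul_eq_left.1 e1)
  have r1 := h.inf_cent le_rfl (mem_O2C_self h.zz)
  have r2 : Nat.card (O2C z ⊓ Subgroup.centralizer {x⁻¹} : Subgroup G) = 2 := by
    rwa [← centralizer_zpowers, Subgroup.zpowers_inv, centralizer_zpowers]
  rw [← mul_prod_erase _ _ (mem_erase.2 ⟨n1, mem_univ _⟩), ← mul_prod_erase _ _
    (mem_erase.2 ⟨n2, mem_erase.2 ⟨inv_ne_one.2 n1, mem_univ _⟩⟩), Subgroup.coe_inv, r1, r2, cE,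
    hQ] at h1
  have cc : (((univ.erase (1 : f.range)).erase ⟨x, xE⟩).erase (⟨x, xE⟩ : f.range)⁻¹).card = 6 := by
    rw [card_erase_of_mem (mem_erase.2 ⟨n2, mem_erase.2 ⟨inv_ne_one.2 n1, mem_univ _⟩⟩),
      card_erase_of_mem (mem_erase.2 ⟨n1, mem_univ _⟩), card_erase_of_mem (mem_univ _), card_univ,
      ← Nat.card_eq_fintype_card, cE]
  obtain ⟨k1, k2⟩ := h.conj_all hy hc hn
  have key : ∀ m, (∀ a, IsConj x a → a * x = x * a → a ∉ Subgroup.zpowers x →
      Nat.card (O2C z ⊓ Subgroup.centralizer {a} : Subgroup G) ≤ 2 ^ m) → n ≤ 3 * m - 2 := by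
    intro m hm
    have h3 := prod_le_pow_card (((univ.erase (1 : f.range)).erase ⟨x, xE⟩).erase
      (⟨x, xE⟩ : f.range)⁻¹) (fun a => Nat.card (O2C z ⊓ Subgroup.centralizer {(a : G)} : Subgroup G))
      (2 ^ m) fun a ha => by
        simp only [mem_erase, mem_univ, and_true] at ha
        have a1 : (a : G) ∉ Subgroup.zpowers x := fun e => by
          rcases mem_zpowers_three h.x3 e with e | e | e
          exacts [ha.2.2 (Subtype.ext e), ha.2.1 (Subtype.ext e), ha.1 (Subtype.ext (e.trans h.xx))]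
        refine hm a ?_ (ex a a.2) a1
        obtain ⟨_, ⟨⟨b, hb⟩, ⟨d, hd⟩⟩, rfl⟩ := a
        change IsConj x (b * d)
        rcases mem_zpowers_three y3 hb with rfl | rfl | rfl
        · exact absurd (show 1 * d ∈ _ by rwa [one_mul]) a1
        · exact hy.trans (k1 d hd)
        · obtain ⟨u, hu⟩ := _root_.isConj_iff.1 (k1 _ (inv_mem hd))
          refine hy.trans (k2.trans (_root_.isConj_iff.2 ⟨u, ?_⟩))
          have cd : Commute y d := by obtain ⟨j, rfl⟩ := hd; exact c.zpow_right j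
          rw [← conj_inv, hu, mul_inv_rev, inv_inv, ← cd.inv_left.eq,
            eq_inv_of_mul_eq_one_left (show y * y * y = 1 by rw [← pow_three', y3])]
    rw [cc] at h3
    have h4 : (2 ^ n) ^ (9 - 3) * 2 ^ ((3 - 1) * 9) ≤ (2 * (2 * (2 ^ m) ^ 6)) ^ 3 :=
      (Nat.mul_le_mul_left _ (Nat.pow_le_pow_left h2 _)).trans (h1.ge.trans
        (Nat.pow_le_pow_left (Nat.mul_le_mul_left _ (Nat.mul_le_mul_left _ h3)) _))
    rw [← pow_mul, ← pow_mul, ← pow_add, ← pow_succ', ← pow_succ', ← pow_mul,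
      Nat.pow_le_pow_iff_right one_lt_two] at h4
    omega
  rw [hQ, Nat.pow_le_pow_iff_right one_lt_two, Nat.pow_le_pow_iff_right one_lt_two]
  refine ⟨key 5 fun a a1 a2 a3 => ?_, fun e => key 3 fun a a1 a2 a3 => ?_⟩
  · obtain ⟨k, e1, e2, -⟩ := h.bound a1 a2 a3
    exact e1 ▸ Nat.pow_le_pow_right two_pos e2
  · obtain ⟨k, e1, -, e2⟩ := h.bound a1 a2 a3
    exact e1 ▸ Nat.pow_le_pow_right two_pos (e2 e)

variable (hC : ∀ c : G, c * z = z * c → (∀ q ∈ O2C z, q * c = c * q) → c ∈ O2C z)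
  (h13 : Nat.card (O2C z) ≤ 2 ^ 13)
include hC h13

theorem dich {A : Subgroup G} (hA : A ≤ O2C z) (hz : z ∈ A)
    (hK : ∀ k, k * x = x * k → ∀ a ∈ A, k * a * k⁻¹ ∈ A) :
    Nat.card (O2C z) = 2 ^ 13 ∧ (A = Subgroup.zpowers z ∨ A = O2C z) := by
  have : Fact (Nat.Prime 2) := ⟨Nat.prime_two⟩
  have : Fact (Nat.Prime 11) := ⟨by norm_num⟩
  have mz : ∀ {c d : G}, c ∈ Subgroup.centralizer ({d} : Set G) ↔ c * d = d * c :=
    Subgroup.mem_centralizer_singleton_iff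
  obtain ⟨⟨c, hc⟩, ho⟩ := exists_prime_orderOf_dvd_card' (G := Subgroup.centralizer ({x} : Set G)) 11
    (by rw [h.card_K]; norm_num)
  rw [Subgroup.orderOf_mk] at ho
  have key : ∀ B ≤ O2C z, z ∈ B → (∀ k, k * x = x * k → ∀ a ∈ B, k * a * k⁻¹ ∈ B) →
      ∃ k j, Nat.card B = 2 ^ k ∧ (k = 1 ∨ k = 7 ∨ k = 13) ∧ j ≤ k ∧ 2 ^ k ≡ 2 ^ j [MOD 11] ∧
        Nat.card (B ⊓ Subgroup.centralizer {c} : Subgroup G) = 2 ^ j := fun B hB hz hK => by
    obtain ⟨k, hk⟩ := (pg_Q.to_le hB).exists_card_eq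
    obtain ⟨j, hj⟩ := ((pg_Q.to_le hB).to_inf_left (K := Subgroup.centralizer {c})).exists_card_eq
    obtain ⟨m, hm⟩ := nine_dvd_conj h.perf (mz.2 rfl) (fun _ => mz.1) h.x3 fun k hk => hK k (mz.1 hk)
    have h1 := CL.Prim.card_modEq_card_inf_centralizer (isPGroup_zpowers (p := 11) (x := c) (k := 1)
      (by rw [pow_one, ← ho, pow_orderOf_eq_one]))
      (Subgroup.zpowers_le.2 (Subgroup.mem_normalizer_fintype (hK c (mz.1 hc))))
    rw [centralizer_zpowers, hk, hj] at h1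
    rw [h.inf_cent hB hz, hk] at hm
    have h2 : k ≤ 13 := (Nat.pow_le_pow_iff_right one_lt_two).1
      (hk ▸ (Subgroup.card_le_of_le hB).trans h13)
    refine ⟨k, j, hk, by interval_cases k <;> omega, (Nat.pow_le_pow_iff_right one_lt_two).1
      (hk ▸ hj ▸ Subgroup.card_le_of_le inf_le_left), h1, hj⟩
  obtain ⟨n, l, q1, q2, q3, q4, q5⟩ := key _ le_rfl (mem_O2C_self h.zz) fun k hk _ =>
    h.norm_Q (h.zc k hk)
  have nl : l ≠ n := fun e => by
    have h1 := Subgroup.eq_of_le_of_card_ge (inf_le_left (a := O2C z) (b := Subgroup.centralizer {c}))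
      (by rw [q1, q5, e])
    obtain ⟨i, hi⟩ := pg_Q ⟨c, hC c (h.zc c (mz.1 hc)) fun q hq => mz.1 (h1.ge hq).2⟩
    have h2 : 11 ∣ 2 ^ i := ho ▸ orderOf_dvd_of_pow_eq_one (congrArg Subtype.val hi)
    exact absurd (Nat.Prime.dvd_of_dvd_pow (by norm_num) h2) (by norm_num)
  have l1 : 1 ≤ l := (Nat.pow_le_pow_iff_right one_lt_two).1 (by
    rw [← q5, pow_one, ← h.oz, ← Nat.card_zpowers]
    exact Subgroup.card_le_of_le (Subgroup.zpowers_le.2
      ⟨mem_O2C_self h.zz, mz.2 (h.zc c (mz.1 hc)).symm⟩))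
  have nl3 : n = 13 ∧ l = 3 := by
    rcases q2 with rfl | rfl | rfl
    · omega
    all_goals interval_cases l <;> first | omega | exact absurd q4 (by decide)
  obtain ⟨rfl, rfl⟩ := nl3
  obtain ⟨k, j, a1, a2, a3, a4, a5⟩ := key A hA hz hK
  have a6 : j ≤ 3 := (Nat.pow_le_pow_iff_right one_lt_two).1
    (a5 ▸ q5 ▸ Subgroup.card_le_of_le (inf_le_inf_right _ hA))
  refine ⟨q1, ?_⟩
  rcases a2 with rfl | rfl | rfl
  · exact Or.inl (Subgroup.eq_of_le_of_card_ge (Subgroup.zpowers_le.2 hz)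
      (by rw [a1, Nat.card_zpowers, h.oz, pow_one])).symm
  · interval_cases j <;> exact absurd a4 (by decide)
  · exact Or.inr (Subgroup.eq_of_le_of_card_ge hA (by rw [a1, q1]))

theorem es (hne : ¬ ∀ q ∈ O2C z, q * q = 1) : ES (O2C z) z := by
  have : Fact (Nat.Prime 2) := ⟨Nat.prime_two⟩
  have zQ := mem_O2C_self h.zz
  have qz : ∀ q ∈ O2C z, q * z = z * q := fun q hq =>
    Subgroup.mem_centralizer_singleton_iff.1 (O2C_le z hq)
  have cz : ∀ k, k * z = z * k → ∀ a ∈ Subgroup.zpowers z, k * a * k⁻¹ = a := by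
    rintro k hk _ ⟨i, rfl⟩
    exact mul_inv_eq_iff_eq_mul.2 ((show Commute k z from hk).zpow_right i).eq
  have cQ := (h.dich hC h13 le_rfl zQ fun k hk _ => h.norm_Q (h.zc k hk)).1
  have hn : ((Subgroup.zpowers z).subgroupOf (O2C z)).Normal := ⟨fun a ha k => by
    change (k : G) * a * (k : G)⁻¹ ∈ Subgroup.zpowers z
    rwa [cz k (qz k k.2) a ha]⟩
  obtain ⟨u, hu, u1, u2, u3⟩ : ∃ u ∈ O2C z, u ∉ Subgroup.zpowers z ∧ u * u ∈ Subgroup.zpowers z ∧
      ∀ r ∈ O2C z, u * r * u⁻¹ * r⁻¹ ∈ Subgroup.zpowers z := by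
    have hp := pg_Q.to_quotient ((Subgroup.zpowers z).subgroupOf (O2C z))
    have : Nontrivial (O2C z ⧸ (Subgroup.zpowers z).subgroupOf (O2C z)) := by
      rw [← Finite.one_lt_card_iff_nontrivial, ← Subgroup.index_eq_card]
      have := ((Subgroup.zpowers z).subgroupOf (O2C z)).card_mul_index
      rw [Nat.card_congr (Subgroup.subgroupOfEquivOfLe (Subgroup.zpowers_le.2 zQ)).toEquiv,
        Nat.card_zpowers, h.oz, cQ] at this
      omega
    have := hp.center_nontrivial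
    obtain ⟨n, hn, e⟩ := (hp.to_subgroup (Subgroup.center _)).nontrivial_iff_card.1 inferInstance
    obtain ⟨⟨u, hu⟩, ho⟩ := exists_prime_orderOf_dvd_card'
      (G := Subgroup.center (O2C z ⧸ (Subgroup.zpowers z).subgroupOf (O2C z))) 2
      (e ▸ dvd_pow_self 2 hn.ne')
    rw [Subgroup.orderOf_mk] at ho
    obtain ⟨u, rfl⟩ := QuotientGroup.mk_surjective u
    refine ⟨u, u.2, fun e => ne_one_of_orderOf ho ((QuotientGroup.eq_one_iff _).2 e),
      (QuotientGroup.eq_one_iff (u * u)).1 (sq_of_orderOf ho), fun r hr =>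
        (QuotientGroup.eq_one_iff (N := (Subgroup.zpowers z).subgroupOf (O2C z))
          (u * ⟨r, hr⟩ * u⁻¹ * ⟨r, hr⟩⁻¹)).1 ?_⟩
    rw [QuotientGroup.mk_mul, QuotientGroup.mk_mul, QuotientGroup.mk_mul, QuotientGroup.mk_inv,
      QuotientGroup.mk_inv, ← Subgroup.mem_center_iff.1 hu]
    group
  let A1 : Subgroup G :=
    { carrier := {q | q ∈ O2C z ∧ ∀ r ∈ O2C z, q * r * q⁻¹ * r⁻¹ ∈ Subgroup.zpowers z}
      one_mem' := ⟨one_mem _, fun r _ => by simp⟩
      mul_mem' := fun {a b} ha hb => ⟨mul_mem ha.1 hb.1, fun r hr => by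
        rw [show a * b * r * (a * b)⁻¹ * r⁻¹ = a * (b * r * b⁻¹ * r⁻¹) * a⁻¹ * (a * r * a⁻¹ * r⁻¹) by
          group, cz a (qz a ha.1) _ (hb.2 r hr)]
        exact mul_mem (hb.2 r hr) (ha.2 r hr)⟩
      inv_mem' := fun {a} ha => ⟨inv_mem ha.1, fun r hr => by
        rw [show a⁻¹ * r * a⁻¹⁻¹ * r⁻¹ = a⁻¹ * (a * r * a⁻¹ * r⁻¹)⁻¹ * a⁻¹⁻¹ by group,
          cz _ (qz _ (inv_mem ha.1)) _ (inv_mem (ha.2 r hr))]
        exact inv_mem (ha.2 r hr)⟩ }
  have e1 : A1 = O2C z := (h.dich hC h13 (A := A1) (fun _ a => a.1) ⟨zQ, fun r hr => by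
      rw [← qz r hr]; simp⟩ fun k hk a ha => ⟨h.norm_Q (h.zc k hk) ha.1, fun r hr => by
        have k1 := h.zc k hk
        rw [show k * a * k⁻¹ * r * (k * a * k⁻¹)⁻¹ * r⁻¹ =
          k * (a * (k⁻¹ * r * k⁻¹⁻¹) * a⁻¹ * (k⁻¹ * r * k⁻¹⁻¹)⁻¹) * k⁻¹ by group,
          cz k k1 _ (ha.2 _ (h.norm_Q (Commute.inv_left k1).eq hr))]
        exact ha.2 _ (h.norm_Q (Commute.inv_left k1).eq hr)⟩).2.resolve_left
          fun e => u1 (e ▸ (⟨hu, u3⟩ : u ∈ A1))
  have cm : ∀ a ∈ O2C z, ∀ b ∈ O2C z, a * b = b * a ∨ a * b = b * a * z := fun a ha b hb => by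
    rcases (mem_zpowers_of_sq h.zz).1 ((e1.ge ha).2 b hb) with e | e <;>
      rw [mul_inv_eq_iff_eq_mul, mul_inv_eq_iff_eq_mul] at e
    exacts [Or.inl (by rw [e, one_mul]), Or.inr (by rw [e, mul_assoc, qz _ (mul_mem hb ha)])]
  have e2 := (h.dich hC h13 (A := O2C z ⊓ Subgroup.centralizer (O2C z : Set G)) inf_le_left ⟨zQ, qz⟩
    fun k hk a ha => ⟨h.norm_Q (h.zc k hk) ha.1, fun r hr => by
      have := ha.2 _ (h.norm_Q (Commute.inv_left (h.zc k hk)).eq hr)
      calc _ = k * (k⁻¹ * r * k⁻¹⁻¹ * a) * k⁻¹ := by group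
        _ = _ := by rw [this]; group⟩).2
  rcases e2 with e2 | e2
  · have ce : ∀ a ∈ O2C z, (∀ b ∈ O2C z, a * b = b * a) → a = 1 ∨ a = z := fun a ha hb =>
      (mem_zpowers_of_sq h.zz).1 (e2.le ⟨ha, fun b hb' => (hb b hb').symm⟩)
    refine ⟨zQ, h.z_ne, h.zz, qz, ce, cm, fun a ha => ce _ (mul_mem ha ha) fun b hb => ?_, ?_⟩
    · rcases cm a ha b hb with e | e
      · rw [mul_assoc, e, ← mul_assoc, e, mul_assoc]
      · calc a * a * b = a * (b * a * z) := by rw [mul_assoc, e]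
          _ = b * a * z * a * z := by rw [← mul_assoc, ← mul_assoc, e]
          _ = b * a * a * (z * z) := by rw [mul_assoc _ z a, ← qz a ha]; group
          _ = _ := by rw [h.zz]; group
    · by_contra! hh
      exact u1 (e2.le ⟨hu, fun b hb => hh b hb u hu⟩)
  · exfalso
    have ab : ∀ a ∈ O2C z, ∀ b ∈ O2C z, Commute a b := fun a ha b hb => (e2.ge hb).2 a ha
    let A3 : Subgroup G :=
      { carrier := {q | q ∈ O2C z ∧ q ^ 2 = 1}
        one_mem' := ⟨one_mem _, one_pow _⟩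
        mul_mem' := fun {a b} ha hb => ⟨mul_mem ha.1 hb.1, by
          rw [(ab a ha.1 b hb.1).mul_pow, ha.2, hb.2, one_mul]⟩
        inv_mem' := fun {a} ha => ⟨inv_mem ha.1, by rw [inv_pow, ha.2, inv_one]⟩ }
    have xz := h.zc x rfl
    have m1 := h.norm_Q xz hu
    have m2 := h.norm_Q xz m1
    have h1 : (u * (x * u * x⁻¹) * (x * (x * u * x⁻¹) * x⁻¹)) ^ 2 = 1 := by
      rcases h.QK (mul_mem (mul_mem hu m1) m2) (by
        have e : x * (x * (x * u * x⁻¹) * x⁻¹) * x⁻¹ = u := by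
          calc _ = x ^ 3 * u * (x ^ 3)⁻¹ := by rw [pow_three]; group
            _ = u := by rw [h.x3]; group
        rw [eq_comm, ← mul_inv_eq_iff_eq_mul]
        calc _ = (x * u * x⁻¹) * (x * (x * u * x⁻¹) * x⁻¹) *
              (x * (x * (x * u * x⁻¹) * x⁻¹) * x⁻¹) := by group
          _ = _ := by rw [e, ← (ab _ hu _ (mul_mem m1 m2)).eq, ← mul_assoc]) with e | e <;> rw [e]
      exacts [one_pow _, by rw [pow_two, h.zz]]
    rw [(ab _ (mul_mem hu m1) _ m2).mul_pow, (ab _ hu _ m1).mul_pow, conj_pow, conj_pow, conj_pow,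
      pow_two, cz x xz _ u2, cz x xz _ u2] at h1
    have h2 : u ^ 2 = 1 := by
      rw [pow_two]
      rcases (mem_zpowers_of_sq h.zz).1 u2 with e | e
      · exact e
      · rw [e, h.zz, one_mul] at h1
        exact absurd h1 h.z_ne
    rcases (h.dich hC h13 (A := A3) (fun _ a => a.1) ⟨zQ, by rw [pow_two, h.zz]⟩ fun k hk a ha =>
      ⟨h.norm_Q (h.zc k hk) ha.1, by rw [conj_pow, ha.2]; simp⟩).2 with e | e
    · exact u1 (e.le ⟨hu, h2⟩)
    · exact hne fun q hq => by rw [← pow_two]; exact (e.ge hq).2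

omit hC h13 in
theorem xz_mem : x ∈ Subgroup.zpowers (x * z) ∧ z ∈ Subgroup.zpowers (x * z) := by
  have c : Commute x z := h.zc x rfl
  have h1 : (x * z) ^ 3 = z := by rw [c.mul_pow, h.x3, one_mul, pow_succ, pow_two, h.zz, one_mul]
  have h2 : z ∈ Subgroup.zpowers (x * z) := ⟨(3 : ℕ), (zpow_natCast _ 3).trans h1⟩
  exact ⟨(Subgroup.mul_mem_cancel_right _ h2).1 (Subgroup.mem_zpowers _), h2⟩

omit hC h13 in
theorem exists_mu_A {u : G} (hu : u * x * u⁻¹ = x⁻¹) :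
    ∃ μ : Subgroup.normalizer (Subgroup.zpowers x : Set G) →* Pm, μ.range = Duad ∧
      ∀ a, μ a = 1 ↔ (a : G) ∈ Subgroup.zpowers (x * z) := by
  have mz : ∀ {c d : G}, c ∈ Subgroup.centralizer ({d} : Set G) ↔ c * d = d * c :=
    Subgroup.mem_centralizer_singleton_iff
  have KA : Subgroup.centralizer {x} ≤ Subgroup.normalizer (Subgroup.zpowers x : Set G) :=
    centralizer_zpowers x ▸ Subgroup.centralizer_le_normalizer _
  have zK : ∀ a ∈ Subgroup.zpowers (x * z), ∀ k, k * x = x * k → Commute k a := by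
    rintro _ ⟨i, rfl⟩ k hk
    exact (Commute.mul_right hk (h.zc k hk)).zpow_right i
  have ne : x⁻¹ ≠ x := fun e => h.x_ne (mul_eq_left.1 (h.xx.trans e))
  have hM : ((Subgroup.centralizer {x}).subgroupOf
      (Subgroup.normalizer (Subgroup.zpowers x : Set G))).Normal :=
    ⟨fun k hk g => mz.2 (h.conj_K g.2 (mz.1 hk))⟩
  have hN : ((Subgroup.zpowers (x * z)).subgroupOf
      (Subgroup.normalizer (Subgroup.zpowers x : Set G))).Normal := ⟨by
    rintro ⟨_, hk⟩ ⟨i, rfl⟩ g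
    change (g : G) * (x * z) ^ i * (g : G)⁻¹ ∈ Subgroup.zpowers (x * z)
    rw [← conj_zpow, show (g : G) * (x * z) * (g : G)⁻¹ = g * x * (g : G)⁻¹ * (g * z * (g : G)⁻¹) by
      group, h.norm_z g.2, mul_inv_cancel_right]
    exact zpow_mem (mul_mem (Subgroup.zpowers_le.2 h.xz_mem.1
      ((Subgroup.mem_normalizer_iff.1 g.2 x).1 (Subgroup.mem_zpowers x))) h.xz_mem.2) i⟩
  have uA : u ∈ Subgroup.normalizer (Subgroup.zpowers x : Set G) :=
    Subgroup.mem_normalizer_fintype (by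
      rintro _ ⟨i, rfl⟩
      simp only [← conj_zpow, hu]
      exact zpow_mem (inv_mem (Subgroup.mem_zpowers x)) i)
  let ψ := φ.comp (Subgroup.subgroupOfEquivOfLe KA).toMonoidHom
  obtain ⟨μ, m1, m2, -⟩ := exists_mu (N := (Subgroup.zpowers (x * z)).subgroupOf _)
    (M := (Subgroup.centralizer {x}).subgroupOf (Subgroup.normalizer (Subgroup.zpowers x : Set G)))
    (fun a ha => mz.2 (zK a ha x rfl).symm.eq) (Subgroup.index_eq_two_iff.2 ⟨⟨u, uA⟩, fun b => by
      have e : ∀ c : G, c * u * x = x * (c * u) ↔ c * x * c⁻¹ = x⁻¹ := fun c => by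
        rw [← mul_inv_eq_iff_eq_mul, show c * u * x * (c * u)⁻¹ = c * (u * x * u⁻¹) * c⁻¹ by group,
          hu, ← conj_inv, inv_eq_iff_eq_inv]
      simp only [Subgroup.mem_subgroupOf, mz, Subgroup.coe_mul, e]
      rcases h.cases b.2 with e1 | e1
      · exact Or.inr ⟨e1, fun e2 => ne (by rw [← e2, e1, mul_inv_cancel_right])⟩
      · exact Or.inl ⟨e1, fun e2 => ne (by rw [← e1, e2, mul_inv_cancel_right])⟩⟩)
    (fun c hc => by
      have h1 : commutator (Subgroup.centralizer ({x} : Set G)) ≤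
          (Subgroup.centralizer {(c : G)}).subgroupOf _ := Subgroup.commutator_le.2 fun a _ b _ => by
        have ha : (c : G) * a * (c : G)⁻¹ * (a : G)⁻¹ ∈ Subgroup.zpowers (x * z) := hc ⟨a, KA a.2⟩ a.2
        have hb : (c : G) * b * (c : G)⁻¹ * (b : G)⁻¹ ∈ Subgroup.zpowers (x * z) := hc ⟨b, KA b.2⟩ b.2
        have := comm_central (zK _ ha a (mz.1 a.2)) (zK _ ha b (mz.1 b.2)) (zK _ hb a (mz.1 a.2))
          (zK _ hb b (mz.1 b.2)) (zK _ ha _ (zK _ hb x rfl).symm.eq)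
        rw [Subgroup.mem_subgroupOf, mz, eq_comm, ← mul_inv_eq_iff_eq_mul]
        refine Eq.trans ?_ this
        simp only [Subgroup.coe_mul, Subgroup.coe_inv, commutatorElement_def]
        group
      exact mz.2 (mz.1 (h1 (h.perf ▸ Subgroup.mem_top (⟨x, mz.2 rfl⟩ : Subgroup.centralizer {x})))).symm)
    ⟨(QuotientGroup.quotientMulEquivOfEq (Subgroup.ext fun k =>
      (h.ker (Subgroup.subgroupOfEquivOfLe KA k)).symm)).trans
      (QuotientGroup.quotientKerEquivOfSurjective ψ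
        (h.surj.comp (Subgroup.subgroupOfEquivOfLe KA).surjective))⟩
  exact ⟨μ, m1, m2⟩

omit hC h13 in
theorem lin {κ : G → W} {ρ : Subgroup.centralizer ({z} : Set G) →* GL12} {P : W → ZMod 2}
    (hl : LX (O2C z) z) (hp : Pre z (O2C z) κ ρ P)
    {μ : Subgroup.normalizer (Subgroup.zpowers x : Set G) →* Pm} (m1 : μ.range = Duad)
    (m2 : ∀ a, μ a = 1 ↔ (a : G) ∈ Subgroup.zpowers (x * z))
    (hA : Subgroup.normalizer (Subgroup.zpowers x : Set G) ≤ Subgroup.centralizer {z})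
    (hx : x ∈ Subgroup.normalizer (Subgroup.zpowers x : Set G))
    {u : Subgroup.normalizer (Subgroup.zpowers x : Set G)} (hu : u * ⟨x, hx⟩ * u⁻¹ = ⟨x, hx⟩⁻¹) :
    Lin (ρ.comp (Subgroup.inclusion hA)) μ ⟨x, hx⟩ := by
  have x3 : (ρ.comp (Subgroup.inclusion hA)) ⟨x, hx⟩ ^ 3 = 1 := by
    rw [← map_pow, show (⟨x, hx⟩ : Subgroup.normalizer _) ^ 3 = 1 from Subtype.ext h.x3, map_one]
  have kq : ∀ a, (ρ.comp (Subgroup.inclusion hA)) a = 1 ↔ (a : G) ∈ O2C z := fun a =>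
    hp.mem_iff hl _
  refine ⟨m1, x3, fun k => ?_, fun v e => ?_, u, by rw [← map_inv, ← map_mul, ← map_mul, hu, map_inv]⟩
  · rw [m2, mem_zpowers_iff3 x3]
    refine ⟨fun hk => ?_, fun ⟨i, hi⟩ => ?_⟩
    · obtain ⟨a, ha, b, hb, -, c, e⟩ := h.dec hk
      obtain ⟨i, hi⟩ := (mem_zpowers_iff3 h.x3).1 ha
      refine ⟨i, ?_⟩
      rw [← map_pow, ← map_mul, kq]
      change (k : G) * x ^ i ∈ _
      rw [e, c.eq, mul_assoc, hi, mul_one]
      rcases hb with rfl | rfl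
      exacts [one_mem _, hl.z_mem]
    · rw [← map_pow, ← map_mul, kq] at hi
      refine (Subgroup.mul_mem_cancel_right _ (pow_mem h.xz_mem.1 i)).1 ?_
      change ((k * ⟨x, hx⟩ ^ i : Subgroup.normalizer _) : G) ∈ _
      generalize k * ⟨x, hx⟩ ^ i = q at hi
      rcases h.cases q.2 with e | e
      · rcases h.QK hi e with e | e <;> rw [e]
        exacts [one_mem _, h.xz_mem.2]
      · have h1 := mul_mem hi (h.norm_Q (h.zc x rfl) (inv_mem hi))
        rw [← mul_assoc, ← mul_assoc, e, ← mul_inv_rev, h.xx, inv_inv] at h1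
        rcases h.QK h1 rfl with e | e
        · exact absurd e h.x_ne
        · have := h.ox
          rw [e, h.oz] at this
          omega
  · obtain ⟨q, hq, rfl⟩ := hp.κ_surj v
    have hz := h.zc x rfl
    have h1 := hl.norm _ hz q hq
    have h2 := hp.κ_mul _ (inv_mem hq) _ h1
    have h3 := hp.κ_mul _ (inv_mem hq) _ hq
    rw [inv_mul_cancel, (hp.κ_zero 1 (one_mem _)).2 (Or.inl rfl)] at h3
    rw [(hp.κ_conj ⟨x, hA hx⟩ q hq).trans e, ← h3, hp.κ_zero _ (mul_mem (inv_mem hq) h1),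
      inv_mul_eq_one, inv_mul_eq_iff_eq_mul] at h2
    rw [hp.κ_zero q hq]
    refine h.QK hq ?_
    rcases h2 with h2 | h2
    · exact (mul_inv_eq_iff_eq_mul.1 h2.symm).symm
    · have e1 : x * (q * z) * x⁻¹ = q := by
        calc _ = x * q * x⁻¹ * (x * z * x⁻¹) := by group
          _ = _ := by rw [h2, hz, mul_inv_cancel_right, mul_assoc, h.zz, mul_one]
      have e2 : x * (x * (x * q * x⁻¹) * x⁻¹) * x⁻¹ = q := by
        calc _ = x ^ 3 * q * (x ^ 3)⁻¹ := by rw [pow_three]; group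
          _ = q := by rw [h.x3]; group
      rw [h2, e1, h2] at e2
      exact absurd (mul_eq_left.1 e2) h.z_ne

theorem main (hne : ¬ ∀ q ∈ O2C z, q * q = 1) {u : G} (hu : u * x * u⁻¹ = x⁻¹) :
    IsOfJankoFourTypeWith z (Subgroup.zpowers x) := by
  have mz : ∀ {c d : G}, c ∈ Subgroup.centralizer ({d} : Set G) ↔ c * d = d * c :=
    Subgroup.mem_centralizer_singleton_iff
  have hE := h.es hC h13 hne
  have cQ := (h.dich hC h13 le_rfl hE.z_mem fun k hk _ => h.norm_Q (h.zc k hk)).1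
  have hl : LX (O2C z) z := lx_of hE (fun c hc => hC c (hc z hE.z_mem).symm hc)
    (centralizer_le_normalizer_O2C z)
  have hA : Subgroup.normalizer (Subgroup.zpowers x : Set G) ≤ Subgroup.centralizer {z} :=
    fun g hg => mz.2 (h.norm_z hg)
  have nA : ∀ c a : G, Subgroup.zpowers a = Subgroup.zpowers x → c * a * c⁻¹ = a ∨ c * a * c⁻¹ = a⁻¹ →
      c ∈ Subgroup.normalizer (Subgroup.zpowers x : Set G) := fun c a e hc =>
    e ▸ Subgroup.mem_normalizer_fintype (by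
      rintro _ ⟨i, rfl⟩
      simp only [← conj_zpow]
      refine zpow_mem ?_ i
      rcases hc with e | e <;> rw [e]
      exacts [Subgroup.mem_zpowers a, inv_mem (Subgroup.mem_zpowers a)])
  have hx := nA x x rfl (Or.inl (mul_inv_cancel_right x x))
  have uA := nA u x rfl (Or.inr hu)
  obtain ⟨μ, m1, m2⟩ := h.exists_mu_A hu
  obtain ⟨κ0, ρ0, P, hp⟩ := exists_pre hl cQ
  obtain ⟨g, g1, g2⟩ := (h.lin hl hp m1 m2 hA hx (u := ⟨u, uA⟩) (Subtype.ext hu)).exists_g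
  have h1 := hp.transport (DistribMulAction.toAddEquiv W g) (θ := (MulAut.conj g).toMonoidHom)
    (fun a v => by simp [mul_smul])
  rw [← MonoidHom.comp_assoc] at g2
  replace g1 : ((MulAut.conj g).toMonoidHom.comp ρ0) ⟨x, hA hx⟩ = Z0 ∨
    ((MulAut.conj g).toMonoidHom.comp ρ0) ⟨x, hA hx⟩ = Z0⁻¹ := g1
  generalize (MulAut.conj g).toMonoidHom.comp ρ0 = ρ at h1 g1 g2
  have g3 : gen gcode LG ≤ ρ.range := g2.trans (by rintro _ ⟨a, rfl⟩; exact ⟨_, rfl⟩)
  have F := frame_of_pre h1 hl cQ g3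
  have L := h.lin hl h1 m1 m2 hA hx (u := ⟨u, uA⟩) (Subtype.ext hu)
  have hn : ∀ γ ∈ ρ.range, γ * Z0 * γ⁻¹ ∈ Subgroup.zpowers Z0 := fun γ hγ =>
    norm_Z0 g3 (fun _ => F.qf_range) (fun e => h.not81 ((e.trans (F.card_H ▸ dvd_mul_right _ _)).trans
      (Subgroup.card_subgroup_dvd_card (Subgroup.centralizer {z})))) hγ
  obtain ⟨y, hy, y3, ey, eZ⟩ : ∃ y, Ov ρ y Z0 ∧ y ^ 3 = 1 ∧ Subgroup.zpowers y = Subgroup.zpowers x ∧
      Subgroup.zpowers (ρ ⟨x, hA hx⟩) = Subgroup.zpowers Z0 := by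
    rcases g1 with e | e
    · exact ⟨x, ⟨_, e⟩, h.x3, rfl, by rw [e]⟩
    · exact ⟨x⁻¹, inv_inv Z0 ▸ Ov.inv ⟨_, e⟩, by rw [inv_pow, h.x3, inv_one], Subgroup.zpowers_inv,
        by rw [e, Subgroup.zpowers_inv]⟩
  have Z1 : Z0 ≠ 1 := fun e => absurd (congrFun (eq_zero_of_Z0 (v := eb 0) (by rw [e, one_smul])) 0)
    (by simp [eb])
  have sj : ∀ c, ∃ a, ρ (Subgroup.inclusion hA a) = ρ c := fun c => by
    rcases mem_zpowers_three Z0_cube (hn _ ⟨c, rfl⟩) with e | e | e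
    · exact absurd (conj_eq_one_iff.1 e) Z1
    · obtain ⟨a, ⟨a1, a2⟩, a3⟩ := F.exists_cent hy y3 ⟨c, rfl⟩ (mul_inv_eq_iff_eq_mul.1 e)
      exact ⟨⟨a, nA a y ey (Or.inl (mul_inv_eq_iff_eq_mul.2 a3))⟩, a2⟩
    · obtain ⟨a, ⟨a1, a2⟩, a3⟩ := F.exists_inverting hy y3 ⟨c, rfl⟩ (e.trans Z0_sq)
      exact ⟨⟨a, nA a y ey (Or.inr a3)⟩, a2⟩
  have hN : ((Subgroup.zpowers Z0).comap ρ).Normal := ⟨fun n ⟨i, hi⟩ c => by
    rw [Subgroup.mem_comap, map_mul, map_mul, map_inv, ← hi, ← conj_zpow]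
    exact zpow_mem (hn _ ⟨c, rfl⟩) i⟩
  have eN : (((Subgroup.zpowers Z0).comap ρ).map (Subgroup.subtype _)).subgroupOf _ =
      (Subgroup.zpowers Z0).comap ρ :=
    Subgroup.comap_map_eq_self_of_injective (Subgroup.subtype_injective _) _
  have hN' : ((((Subgroup.zpowers Z0).comap ρ).map (Subgroup.subtype _)).subgroupOf
    (Subgroup.centralizer {z})).Normal := eN.symm ▸ hN
  have cP : ∀ c, c ∈ Subgroup.centralizer (Subgroup.zpowers x : Set G) ↔ c * x = x * c := fun c => by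
    rw [centralizer_zpowers, mz]
  refine ⟨h.oz, hE.isExtraspecial, cQ, fun c hc => hC c (mz.1 hc.1) hc.2,
    ⟨((Subgroup.zpowers Z0).comap ρ).map (Subgroup.subtype _), fun q hq => ⟨⟨q, O2C_le z hq⟩, ?_, rfl⟩,
      Subgroup.map_subtype_le _, (Subgroup.normal_subgroupOf_iff_le_normalizer
        (Subgroup.map_subtype_le _)).1 hN', ?_, ⟨hN', ⟨?_⟩⟩,
      Subgroup.zpowers_le.2 ⟨⟨x, hA hx⟩, eZ.le (Subgroup.mem_zpowers _), rfl⟩⟩,
    by rw [Nat.card_zpowers, h.ox], le_antisymm (fun q hq => (mem_zpowers_of_sq h.zz).2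
      (h.QK hq.1 ((cP q).1 hq.2))) (Subgroup.zpowers_le.2 ⟨hE.z_mem, (cP z).2 (h.zc x rfl).symm⟩),
    fun e => h.x_ne ?_, Subgroup.zpowers_le.2 ?_⟩
  · change ρ _ ∈ Subgroup.zpowers Z0
    rw [(h1.mem_iff hl ⟨q, O2C_le z hq⟩).2 hq]
    exact one_mem _
  · have : Fact (Nat.Prime 3) := ⟨Nat.prime_three⟩
    have e1 := ((Subgroup.zpowers Z0).comap ρ).card_mul_index
    have e2 := ((Subgroup.zpowers Z0).subgroupOf ρ.range).card_mul_index
    rw [Nat.card_congr (Subgroup.subgroupOfEquivOfLe ((Subgroup.zpowers_le (H := ρ.range)).2 ⟨⟨y, hy.1⟩, hy.2⟩)).toEquiv,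
      Nat.card_zpowers, orderOf_eq_prime Z0_cube Z1] at e2
    rw [Subgroup.index_comap, F.card_H, ← e2, mul_right_comm] at e1
    rw [Subgroup.card_map_of_injective (Subgroup.subtype_injective _),
      Nat.eq_of_mul_eq_mul_right (Nat.pos_of_ne_zero Subgroup.index_ne_zero_of_finite) e1]
    exact congrArg _ cQ.symm
  · let π := (QuotientGroup.mk' ((Subgroup.zpowers Z0).comap ρ)).comp (Subgroup.inclusion hA)
    have p1 : Function.Surjective π := fun c => by
      obtain ⟨c, rfl⟩ := QuotientGroup.mk_surjective c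
      obtain ⟨a, ha⟩ := sj c
      refine ⟨a, QuotientGroup.eq.2 ?_⟩
      rw [Subgroup.mem_comap, map_mul, map_inv, ha, inv_mul_cancel]
      exact one_mem _
    have p2 : π.ker = μ.ker := Subgroup.ext fun a => by
      rw [MonoidHom.mem_ker, MonoidHom.mem_ker, L.ker']
      exact (QuotientGroup.eq_one_iff _).trans (by rw [Subgroup.mem_comap, ← eZ]; rfl)
    exact (QuotientGroup.quotientMulEquivOfEq eN).trans
      ((QuotientGroup.quotientKerEquivOfSurjective π p1).symm.trans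
        ((QuotientGroup.quotientMulEquivOfEq p2).trans ((QuotientGroup.quotientKerEquivRange μ).trans
          ((MulEquiv.subgroupCongr m1).trans duadEquiv))))
  · have := (cP u).1 (e.le ⟨hA uA, uA⟩).2
    rw [this, mul_inv_cancel_right, ← h.xx] at hu
    exact mul_eq_left.1 hu.symm
  · have e : Subgroup.centralizer {z} ⊓ Subgroup.centralizer (Subgroup.zpowers x : Set G) =
        Subgroup.centralizer {x} := by
      rw [centralizer_zpowers]
      exact inf_eq_right.2 fun k hk => mz.2 (h.zc k (mz.1 hk))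
    rw [e, ← Subgroup.map_subtype_commutator, h.perf]
    exact ⟨⟨x, mz.2 rfl⟩, trivial, rfl⟩

end Six

theorem type_of_six [Finite G] (h2 : IsCharacteristicTwoType G) {x z : G}
    {φ : Subgroup.centralizer ({x} : Set G) →* Spor.M22} (h : Six x z φ) {y : G} (hy : IsConj x y)
    (hc : y * x = x * y) (hn : y ∉ Subgroup.zpowers x) : IsOfJankoFourType G := by
  have e : Subgroup.normalizer (Subgroup.zpowers z : Set G) = Subgroup.centralizer {z} := by
    refine le_antisymm (fun g hg => Subgroup.mem_centralizer_singleton_iff.2 ?_)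
      (centralizer_zpowers z ▸ Subgroup.centralizer_le_normalizer _)
    rcases (mem_zpowers_of_sq h.zz).1 ((Subgroup.mem_normalizer_iff.1 hg z).1
      (Subgroup.mem_zpowers z)) with e | e
    exacts [absurd (conj_eq_one_iff.1 e) h.z_ne, mul_inv_eq_iff_eq_mul.1 e]
  have h3 := h2.2 (Subgroup.zpowers z) (isPGroup_zpowers (k := 1) (by rw [pow_one, pow_two, h.zz]))
    (by rw [Ne, Subgroup.zpowers_eq_bot]; exact h.z_ne)
  rw [e] at h3
  have hC : ∀ c : G, c * z = z * c → (∀ q ∈ O2C z, q * c = c * q) → c ∈ O2C z := fun c c1 c2 =>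
    ⟨⟨c, Subgroup.mem_centralizer_singleton_iff.2 c1⟩, h3 fun q hq =>
      Subtype.ext (c2 q ⟨q, hq, rfl⟩), rfl⟩
  obtain ⟨h13, h7⟩ := h.card_le hy hc hn
  have cQ := (h.dich hC h13 le_rfl (mem_O2C_self h.zz) fun k hk _ => h.norm_Q (h.zc k hk)).1
  obtain ⟨u, hu⟩ := _root_.isConj_iff.1 hy
  obtain ⟨w, hw⟩ := _root_.isConj_iff.1 (h.conj_all hy hc hn).2
  refine ⟨z, _, h.main hC h13 (fun e => absurd (cQ ▸ h7 e) (by norm_num)) (u := u⁻¹ * w * u) ?_⟩
  calc _ = u⁻¹ * (w * (u * x * u⁻¹) * w⁻¹) * u := by group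
    _ = _ := by rw [hu, hw, ← hu]; group

end CL.J4
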