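import Cfsg.Agent.SPOR.J4.Elev2
import Cfsg.Agent.ODD.BG4.Aut

/-!
The second class of elements of order 11 and the Sylow 11-subgroups.
-/

set_option autoImplicit false

namespace CL.J4

open Cfsg CL.K CL.Golay CL.MAut CL.Orb Subgroup
open scoped Pointwise

variable {G : Type*} [Group G] [Finite G] {z : G} {V : Subgroup G} {θ : Finset GolayPt → G}
  {χ : M24 →* G}

theorem JS.cent_five (h : JS z V θ χ) {y : G} (hy : orderOf y = 5) :
    Nat.card (centralizer {y}) = 6720 := by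
  obtain ⟨ι, Z, μ, φ, σ, ν, f, P, e⟩ := h.exists_pen5 ((Nat.card_zpowers y).trans hy)
  rw [← cent_zpowers, e, cent_zpowers, P.card_cent5
    ((orderOf_coe _).symm.trans ((P.f_ord _).trans orderOf_rot)) (P.μf _) h]

theorem JS.cent_seven (h : JS z V θ χ) {y : G} (hy : orderOf y = 7) :
    Nat.card (centralizer {y}) = 840 := by
  obtain ⟨ι, Z, μ, φ, σ, ν, f, P, e⟩ := h.exists_pen7 ((Nat.card_zpowers y).trans hy)
  rw [← cent_zpowers, e, cent_zpowers, P.card_cent7 h]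

omit [Finite G] in
theorem MS.cent_two (h : MS z V θ χ) {y : G} (hy : orderOf y = 2) :
    Nat.card (centralizer {y}) ∣ 2 ^ 21 * 3 ^ 3 * 5 * 7 * 11 := by
  rcases h.two y hy with e | e <;> rw [← Inv.card_centralizer_eq_of_isConj e]
  · rw [h.card_H]
  · rw [h.card_cent_t]; decide

theorem MS.eq_t (h : MS z V θ χ) {y : G} (hy : y ∈ normalizer (V : Set G))
    (e : y * χ (toM P11) = χ (toM P11) * y) (o : orderOf y = 2) : y = θ (E.setOf D2) := by
  obtain ⟨τ, hτ, b, hb, rfl⟩ := h.memK hy e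
  have h1 : (τ * b) ^ 11 = τ ^ 11 := by
    rw [(h.τ_comm hτ hb).mul_pow, orderOf_dvd_iff_pow_eq_one.1
      ((orderOf_dvd_of_mem_zpowers hb).trans h.u_ord.dvd), mul_one]
  rw [← pow_mod_orderOf, o, pow_one] at h1
  exact (eq_of_mem_zpowers h.orderOf_t (h1 ▸ pow_mem hτ 11)).resolve_left fun e' =>
    absurd (o.symm.trans (e' ▸ orderOf_one)) (by decide)

/-- the odd core of the centraliser of the element of order 11 in `M` -/
structure Ou (V : Subgroup G) (θ : Finset GolayPt → G) (χ : M24 →* G) (O : Subgroup G) : Prop where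
  le : O ≤ centralizer {χ (toM P11)}
  odd : Odd (Nat.card O)
  mem : χ (toM P11) ∈ O
  norm : normalizer (zpowers (χ (toM P11)) : Set G) ≤ normalizer (O : Set G)
  sup : centralizer {θ (E.setOf D2), χ (toM P11)} ⊔ O = centralizer {χ (toM P11)}

theorem MS.exists_Ou (h : MS z V θ χ) : ∃ O, Ou V θ χ O := by
  obtain ⟨O, o1, o2, o3, o4, o5⟩ := exists_core h.orderOf_t h.u_t.symm (by rw [h.u_ord]; decide)
    fun y hy o => h.eq_t (h.cent_t (mem_centralizer_singleton_iff.2 (mem_C2.1 hy).1)) (mem_C2.1 hy).2 o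
  exact ⟨O, o1, o2, o3, o4, o5⟩

theorem Ou.mem_u {O : Subgroup G} (o : Ou V θ χ O) (h : MS z V θ χ) {x : G} (hx : x ∈ O)
    (hx' : x ∈ normalizer (V : Set G)) : x ∈ zpowers (χ (toM P11)) :=
  h.mem_u_of_odd hx' (mem_centralizer_singleton_iff.1 (o.le hx))
    (o.odd.of_dvd_nat (O.orderOf_dvd_natCard hx))

theorem Ou.core {O : Subgroup G} (o : Ou V θ χ O) (h : MS z V θ χ) {a d : G} {r : ℕ} (ha : a ∈ O)
    (h1 : d ∈ normalizer (V : Set G) ⊓ normalizer (V.map (MulAut.conj a).toMonoidHom : Set G))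
    (h2 : d ∈ normalizer (zpowers (χ (toM P11)) : Set G)) (hr : r.Prime) (hd : orderOf d = r)
    (h11 : ¬ r ∣ 11) : ∃ b ∈ zpowers (χ (toM P11)), a * b * d = d * (a * b) := by
  refine exists_comm_mul hr hd (h.u_ord ▸ h11) (centralizer_le_normalizer _
    (mem_centralizer_zpowers_iff.2 (mem_centralizer_singleton_iff.1 (o.le ha))))
    h2 (o.mem_u h (mul_mem ?_ ha) ?_)
  · simpa using (o.norm (inv_mem h2) _).1 (inv_mem ha)
  · rw [mul_assoc, mul_assoc, ← mul_assoc a⁻¹]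
    exact mul_mem (inv_mem h1.1) ((mem_normalizer_map (MulAut.conj a)).1 (by simpa [mul_assoc] using h1.2))

namespace Ele

variable {c : G} {φ : GL (Fin 2) (ZMod 3) →* G} (e : Ele z c φ) (h : JS z V θ χ)
include e h

theorem no_u {m : G} {j : ℕ} : m * c * m⁻¹ ≠ χ (toM P11) ^ j := fun e' =>
  e.no_t h (w := m⁻¹ * θ (E.setOf D2) * m⁻¹⁻¹) ((isConj_conj_iff _).2 (IsConj.refl _)) (by
    rw [← comm_conj_iff (g := m), e', show m * (m⁻¹ * θ (E.setOf D2) * m⁻¹⁻¹) * m⁻¹ = θ (E.setOf D2) by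
      group]
    exact Commute.pow_right h.u_t.symm j)

theorem dvd_u {x : G} {a b n : ℕ} (hx : x ∈ centralizer {χ (toM P11)}) (ho : Odd (orderOf x))
    (hd : orderOf x ∣ 2 ^ a * 3 ^ b * 5 * 7 * n) : orderOf x ∣ n := by
  have k : ∀ p, p.Prime → p ∣ orderOf x → ∃ y, orderOf y = p ∧ χ (toM P11) * y = y * χ (toM P11) :=
    fun p hp e' => ⟨_, orderOf_pow_orderOf_div (orderOf_pos x).ne' e',
      (mem_centralizer_singleton_iff.1 (pow_mem hx _)).symm⟩
  refine dvd_of_not_dvd [(2, a), (3, b), (5, 1), (7, 1)] ?_ (by simpa [mul_assoc] using hd)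
  simp only [List.forall_mem_cons, List.not_mem_nil, false_imp_iff, implies_true, and_true]
  refine ⟨⟨by decide, ho.not_two_dvd_nat⟩, ⟨by decide, fun e' => ?_⟩, ⟨by decide, fun e' => ?_⟩,
    by decide, fun e' => ?_⟩ <;> obtain ⟨y, oy, hy⟩ := k _ (by decide) e'
  · obtain ⟨m, -, j, -, -, h5⟩ := e.three_c h oy h.u_ord hy
    exact e.no_u h h5
  · exact absurd (h.cent_five oy ▸ h.u_ord ▸ dvd_card_cent hy) (by decide)
  · exact absurd (h.cent_seven oy ▸ h.u_ord ▸ dvd_card_cent hy) (by decide)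

variable {O : Subgroup G} (o : Ou V θ χ O)
include o

theorem no_five {a d : G} (ha : a ∈ O) (ha' : a ∉ zpowers (χ (toM P11)))
    (h1 : d ∈ normalizer (V : Set G) ⊓ normalizer (V.map (MulAut.conj a).toMonoidHom : Set G))
    (h2 : d ∈ normalizer (zpowers (χ (toM P11)) : Set G)) : orderOf d ≠ 5 := fun hd => by
  obtain ⟨b, hb, e'⟩ := o.core h.toMS ha h1 h2 (by decide) hd (by decide)
  have m := mul_mem ha (zpowers_le.2 o.mem hb)
  have := e.dvd_u h (a := 6) (b := 1) (n := 1) (o.le m) (o.odd.of_dvd_nat (O.orderOf_dvd_natCard m))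
    ((dvd_card_cent e').trans (h.cent_five hd).dvd)
  exact ha' (eq_inv_of_mul_eq_one_left (orderOf_eq_one_iff.1 (Nat.dvd_one.1 this)) ▸ inv_mem hb)

theorem exists_inv {a : G} (ha : a ∈ O) (ha' : a ∉ zpowers (χ (toM P11))) :
    ∃ d ∈ normalizer (V : Set G), orderOf d = 2 ∧ d * χ (toM P11) * d⁻¹ = (χ (toM P11))⁻¹ ∧
      ∃ b ∈ zpowers (χ (toM P11)), a * b * d = d * (a * b) := by
  obtain ⟨d, h1, h2, h3⟩ := h.exists_d (fun e' => ha' (o.mem_u h.toMS ha e')) (by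
    have := (mem_normalizer_map (MulAut.conj a)).2 (h.χ_mem_N (toM P11))
    rwa [MulAut.conj_apply, mem_centralizer_singleton_iff.1 (o.le ha), mul_inv_cancel_right] at this)
  have h4 := h3.resolve_right (e.no_five h o ha ha' h1 h2)
  obtain ⟨b, hb, e'⟩ := o.core h.toMS ha h1 h2 (by decide) h4 (by decide)
  refine ⟨d, h1.1, h4, ?_, b, hb, e'⟩
  obtain ⟨k, hk, e1⟩ := exists_pow_of_norm h2
  have e2 := conj_pow_pow e1 2
  rw [← h4, pow_orderOf_eq_one, h4, one_mul, inv_one, mul_one, eq_comm, ← pow_one (χ _), ← pow_mul,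
    pow_eq_pow_iff_modEq, h.u_ord, one_mul] at e2
  rw [h.u_ord] at hk
  obtain rfl | rfl : k = 1 ∨ k = 10 := by clear e1; revert e2; revert k; decide
  · rw [h.eq_t h1.1 (mul_inv_eq_iff_eq_mul.1 (e1.trans (pow_one _))) h4] at e'
    exact (ha' ((mul_mem_cancel_right hb).1 (o.mem_u h.toMS (mul_mem ha (zpowers_le.2 o.mem hb))
      (h.cent_t (mem_centralizer_singleton_iff.2 e'))))).elim
  · rw [e1, eq_inv_iff_mul_eq_one, ← pow_succ, ← orderOf_dvd_iff_pow_eq_one, h.u_ord]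

theorem card_O : Nat.card O ∣ 121 := by
  have : Fact (Nat.Prime 11) := ⟨by decide⟩
  have ub : ∀ b ∈ zpowers (χ (toM P11)), b ^ 11 = 1 := fun b hb =>
    orderOf_dvd_iff_pow_eq_one.1 ((orderOf_dvd_of_mem_zpowers hb).trans h.u_ord.dvd)
  have cm : ∀ a ∈ O, ∀ b ∈ zpowers (χ (toM P11)), Commute a b := by
    rintro a ha _ ⟨k, rfl⟩
    exact Commute.zpow_right (mem_centralizer_singleton_iff.1 (o.le ha)) k
  have hp : IsPGroup 11 O := fun ⟨a, ha⟩ => ⟨1, Subtype.ext (by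
    change a ^ 11 = 1
    by_cases ha' : a ∈ zpowers (χ (toM P11))
    · exact ub a ha'
    obtain ⟨d, -, h1, -, b, hb, e'⟩ := e.exists_inv h o ha ha'
    have m := mul_mem ha (zpowers_le.2 o.mem hb)
    have := orderOf_dvd_iff_pow_eq_one.1 (e.dvd_u h (o.le m)
      (o.odd.of_dvd_nat (O.orderOf_dvd_natCard m)) ((dvd_card_cent e').trans (h.cent_two h1)))
    rwa [(cm a ha b hb).mul_pow, ub b hb, mul_one] at this)⟩
  obtain ⟨n, hn⟩ := hp.exists_card_eq
  suffices Nat.card O ≤ 121 + 121 from hn ▸ pow_dvd_pow 11 (show n ≤ 2 from le_of_not_gt fun e' =>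
    absurd ((Nat.pow_le_pow_right (by decide) e').trans (hn ▸ this)) (by decide))
  have B : ∀ {d : G}, orderOf d = 2 → (((O ⊓ centralizer {d} : Subgroup G) : Set G) *
      (zpowers (χ (toM P11)) : Set G)).ncard ≤ 121 := fun {d} hd => by
    obtain ⟨k, hk⟩ := (hp.to_inf_left (K := centralizer {d})).exists_card_eq
    have h1 := (card_dvd_of_le (inf_le_right : O ⊓ centralizer {d} ≤ _)).trans (h.cent_two hd)
    have h2 : k < 2 := lt_of_not_ge fun e' => absurd ((pow_dvd_pow 11 e').trans (hk ▸ h1)) (by decide)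
    rw [← Nat.card_coe_set_eq]
    refine Set.natCard_mul_le.trans ?_
    rw [SetLike.coe_sort_coe, SetLike.coe_sort_coe, hk, Nat.card_zpowers, h.u_ord]
    interval_cases k <;> decide
  by_cases h0 : O ≤ zpowers (χ (toM P11))
  · exact (card_le_of_le h0).trans (by rw [Nat.card_zpowers, h.u_ord]; decide)
  obtain ⟨a0, a1, a2⟩ := SetLike.not_le_iff_exists.1 h0
  obtain ⟨d0, d1, d2, d3, -⟩ := e.exists_inv h o a1 a2
  have d4 : Commute d0 (θ (E.setOf D2)) :=
    h.norm_u_t d1 (mem_normalizer_zpowers_iff.2 (d3 ▸ inv_mem (mem_zpowers _)))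
  have d5 : orderOf (d0 * θ (E.setOf D2)) = 2 := orderOf_eq_prime (by
    rw [d4.mul_pow, ← d2, pow_orderOf_eq_one, d2, ← h.orderOf_t, pow_orderOf_eq_one, one_mul]) fun e' => by
      rw [eq_inv_of_mul_eq_one_left e', h.θ_inv even_D2, h.θ_inv even_D2, ← h.u_t, mul_assoc,
        h.θ_sq even_D2, mul_one, eq_inv_iff_mul_eq_one, ← sq, ← orderOf_dvd_iff_pow_eq_one, h.u_ord] at d3
      exact absurd d3 (by decide)
  rw [← SetLike.coe_sort_coe, Nat.card_coe_set_eq]
  refine le_trans (Set.ncard_le_ncard fun a ha => ?_)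
    ((Set.ncard_union_le _ _).trans (Nat.add_le_add (B d2) (B d5)))
  by_cases ha' : a ∈ zpowers (χ (toM P11))
  · exact Or.inl ⟨1, one_mem _, a, ha', one_mul a⟩
  obtain ⟨d, h1, -, h3, b, hb, e'⟩ := e.exists_inv h o ha ha'
  have m := mul_mem ha (zpowers_le.2 o.mem hb)
  obtain ⟨τ, hτ, b', hb', e1⟩ := h.memK (mul_mem (inv_mem d1) h1) (by
    calc _ = d0⁻¹ * (d * χ (toM P11) * d⁻¹) * d := by group
      _ = _ := by rw [h3, ← d3]; group)
  have e2 : Commute (a * b) (d0 * τ) := by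
    rw [show d0 * τ = d * b'⁻¹ by rw [eq_mul_inv_iff_mul_eq, mul_assoc, ← e1, mul_inv_cancel_left]]
    exact Commute.mul_right e' (cm _ m b' hb').inv_right
  rcases eq_of_mem_zpowers h.orderOf_t hτ with rfl | rfl
  · exact Or.inl ⟨_, ⟨m, mem_centralizer_singleton_iff.2 (mul_one d0 ▸ e2)⟩, _, inv_mem hb,
      mul_inv_cancel_right a b⟩
  · exact Or.inr ⟨_, ⟨m, mem_centralizer_singleton_iff.2 e2⟩, _, inv_mem hb, mul_inv_cancel_right a b⟩

omit e in
theorem _root_.CL.J4.JS.card_Cu : Nat.card (centralizer {χ (toM P11)}) = 2 * Nat.card O := by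
  have k : centralizer {θ (E.setOf D2), χ (toM P11)} ≤ normalizer (V : Set G) := fun x hx =>
    h.cent_t (mem_centralizer_singleton_iff.2 (mem_C2.1 hx).1)
  have l : ∀ {x}, x * χ (toM P11) = χ (toM P11) * x → x ∈ normalizer (zpowers (χ (toM P11)) : Set G) :=
    fun e => centralizer_le_normalizer _ (mem_centralizer_zpowers_iff.2 e)
  have c1 := CL.card_sup_mul_card_inf_of_le_normalizer (H := centralizer {θ (E.setOf D2), χ (toM P11)})
    fun x hx => o.norm (l (mem_C2.1 hx).2)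
  have c2 := CL.card_sup_mul_card_inf_of_le_normalizer (zpowers_le.2 (l h.u_t.symm))
  rw [o.sup, show centralizer {θ (E.setOf D2), χ (toM P11)} ⊓ O = zpowers (χ (toM P11)) from le_antisymm
    (fun x hx => o.mem_u h.toMS hx.2 (k hx.1)) (zpowers_le.2 ⟨mem_C2.2 ⟨h.u_t, rfl⟩, o.mem⟩),
    Nat.card_zpowers, h.u_ord] at c1
  rw [show zpowers (θ (E.setOf D2)) ⊔ zpowers (χ (toM P11)) = centralizer {θ (E.setOf D2), χ (toM P11)}
    from le_antisymm (sup_le (zpowers_le.2 (mem_C2.2 ⟨rfl, h.u_t.symm⟩))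
      (zpowers_le.2 (mem_C2.2 ⟨h.u_t, rfl⟩))) fun x hx => by
        obtain ⟨τ, hτ, b, hb, rfl⟩ := h.memK (k hx) (mem_C2.1 hx).2
        exact mul_mem_sup hτ hb, disjoint_iff.1 (disjoint_of_coprime_natCard (by
      rw [Nat.card_zpowers, Nat.card_zpowers, h.orderOf_t, h.u_ord]; decide)), card_bot,
    Nat.card_zpowers, Nat.card_zpowers, h.orderOf_t, h.u_ord, mul_one] at c2
  rw [c2] at c1
  omega

omit o in
theorem card_Cu : Nat.card (centralizer {χ (toM P11)}) ∣ 242 := by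
  obtain ⟨O, o⟩ := h.exists_Ou
  rw [h.card_Cu o]
  exact Nat.mul_dvd_mul_left 2 (e.card_O h o)

omit o in
theorem noncomm (U : Sylow 11 G) : Nat.card U = 11 ^ 3 ∧ ¬ IsMulCommutative U := by
  have : Fact (Nat.Prime 11) := ⟨by decide⟩
  have cU : Nat.card U = 11 ^ 3 := by
    rw [Sylow.card_eq_multiplicity, h.card_G, Nat.factorization_def _ (by decide)]
    decide +kernel
  refine ⟨cU, fun hc => ?_⟩
  obtain ⟨Q, hQ⟩ := (IsPGroup.of_card (p := 11) (G := zpowers (χ (toM P11))) (n := 1)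
    (by rw [Nat.card_zpowers, h.u_ord]; rfl)).exists_le_sylow
  obtain ⟨g, rfl⟩ := MulAction.exists_smul_eq G U Q
  obtain ⟨y, hy, e'⟩ := hQ (mem_zpowers _)
  have := card_le_of_conj (A := U) (B := centralizer {χ (toM P11)}) g fun x hx =>
    mem_centralizer_singleton_iff.2 (e' ▸ comm_conj_iff.2 (congrArg Subtype.val (hc.1.1 ⟨x, hx⟩ ⟨y, hy⟩)))
  exact absurd (cU ▸ this.trans (Nat.le_of_dvd (by decide) (e.card_Cu h))) (by decide)

omit o in
theorem sylow : ∃ U : Sylow 11 G,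
    normalizer ((U : Subgroup G) : Set G) = normalizer (zpowers c : Set G) ∧
    Nat.card (normalizer (zpowers c : Set G)) = 2 ^ 4 * 3 * 5 * 11 ^ 3 ∧
    ∀ x ∈ (U : Subgroup G), x ≠ 1 → IsConj x c ∨ IsConj x (χ (toM P11)) := by
  have : Fact (Nat.Prime 11) := ⟨by decide⟩
  obtain ⟨O, o1, o2, o3, o4, o5⟩ := e.exists_O h
  let U : Sylow 11 G := (IsPGroup.of_card o1).toSylow fun e' => by
    have := O.index_mul_card
    rw [o1, h.card_G] at this
    omega
  have z1 : zpowers c = O ⊓ centralizer (O : Set G) := eq_of_le_of_card_ge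
    (zpowers_le.2 ⟨o2, fun x hx => mem_centralizer_singleton_iff.1 (o3 hx)⟩) (by
      obtain ⟨-, k1, k2⟩ := CL.BG.p3group_extraspecial o1 (e.noncomm h U).2
      rw [Nat.card_zpowers, e.ord, ← k1, k2])
  have n1 : normalizer (O : Set G) = normalizer (zpowers c : Set G) := le_antisymm (fun n hn => by
    refine mem_normalizer_zpowers_iff.2 (z1 ▸ ⟨(hn c).1 o2, fun x hx => ?_⟩)
    rw [← comm_conj_iff (g := n⁻¹), show n⁻¹ * (n * c * n⁻¹) * n⁻¹⁻¹ = c by group]
    exact mem_centralizer_singleton_iff.1 (o3 ((inv_mem hn x).1 hx))) o4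
  have s1 : ((zpowers c : Set G) \ {1}).ncard = 10 := by
    rw [Set.ncard_sdiff_singleton_of_mem (one_mem _), ← Nat.card_coe_set_eq, SetLike.coe_sort_coe,
      Nat.card_zpowers, e.ord]
  have c1 : Nat.card (normalizer (zpowers c : Set G)) = 2 ^ 4 * 3 * 5 * 11 ^ 3 := by
    rw [card_norm_zpowers, e.orbit, s1, o5]; rfl
  have k1 : ∀ x ∈ zpowers c, x ≠ 1 → IsConj x c := fun x hx h1 => by
    obtain ⟨n, -, rfl⟩ := e.orbit.ge ⟨hx, h1⟩
    exact (isConj_iff.2 ⟨n, rfl⟩).symm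
  refine ⟨U, n1, c1, fun x hx h1 => ?_⟩
  by_cases h2 : x ∈ zpowers c
  · exact Or.inl (k1 x h2 h1)
  obtain ⟨Q, hQ⟩ := (IsPGroup.of_card (p := 11) (G := zpowers (χ (toM P11))) (n := 1)
    (by rw [Nat.card_zpowers, h.u_ord]; rfl)).exists_le_sylow
  obtain ⟨g, rfl⟩ := MulAction.exists_smul_eq G U Q
  obtain ⟨y, hy, e'⟩ := hQ (mem_zpowers _)
  have e1 : g * y * g⁻¹ = χ (toM P11) := e'
  have y1 : y ∉ zpowers c := fun hy' => by
    obtain ⟨n, hn⟩ := isConj_iff.1 ((k1 y hy' (by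
      rintro rfl
      exact absurd (h.u_ord.symm.trans (e1 ▸ (Inv.orderOf_conj' _ _).trans orderOf_one))
        (by decide))).symm.trans (isConj_iff.2 ⟨g, e1⟩))
    exact e.no_u h (hn.trans (pow_one _).symm)
  have c2 := card_eq_orbit_mul (normalizer (zpowers c : Set G)) y
  have c3 := (card_le_of_le (inf_le_right : normalizer (zpowers c : Set G) ⊓ centralizer {y} ≤ _)).trans
    ((Inv.card_centralizer_eq_of_isConj (isConj_iff.2 ⟨g, e1⟩)).trans_le
      (Nat.le_of_dvd (by decide) (e.card_Cu h)))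
  obtain ⟨n, -, rfl⟩ : x ∈ {v | ∃ n ∈ normalizer (zpowers c : Set G), n * y * n⁻¹ = v} := by
    refine (Set.eq_of_subset_of_ncard_le (t := (O : Set G) \ zpowers c) (by
      rintro _ ⟨n, hn, rfl⟩
      exact ⟨(o4 hn y).1 hy, fun e => y1 ((hn y).2 e)⟩) (by
        rw [Set.ncard_sdiff (zpowers_le.2 o2), ← Nat.card_coe_set_eq, ← Nat.card_coe_set_eq,
          SetLike.coe_sort_coe, SetLike.coe_sort_coe, o1, Nat.card_zpowers, e.ord]
        have := c1 ▸ c2.trans_le (Nat.mul_le_mul_left _ c3)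
        omega)).ge ⟨hx, h2⟩
  exact Or.inr ((isConj_iff.2 ⟨n, rfl⟩).symm.trans (isConj_iff.2 ⟨g, e1⟩))

omit o in
theorem classes {w : G} (h1 : w ≠ 1) (hw : IsPGroup 11 (zpowers w)) :
    IsConj w c ∨ IsConj w (χ (toM P11)) := by
  have : Fact (Nat.Prime 11) := ⟨by decide⟩
  obtain ⟨U, -, -, k⟩ := e.sylow h
  obtain ⟨Q, hQ⟩ := hw.exists_le_sylow
  obtain ⟨g, rfl⟩ := MulAction.exists_smul_eq G U Q
  obtain ⟨y, hy, rfl⟩ := hQ (mem_zpowers _)
  have := (isConj_iff.2 ⟨g, rfl⟩ : IsConj y _).symm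
  exact (k y hy (by rintro rfl; exact h1 (map_one _))).imp this.trans this.trans

end Ele

end CL.J4
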