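import Cfsg.Agent.SPOR.J4.Elev3

/-!
The Sylow subgroups for the primes 23, 29, 31, 37 and 43.
-/

set_option autoImplicit false

namespace CL.J4

open Cfsg CL.Golay CL.MAut CL.Orb Subgroup

variable {G : Type*} [Group G] [Finite G] {z : G} {V : Subgroup G} {θ : Finset GolayPt → G}
  {χ : M24 →* G}

theorem index_norm {p : ℕ} [Fact p.Prime] (hc : ¬ p ^ 2 ∣ Nat.card G) {a : G} (ha : orderOf a = p) :
    (normalizer (zpowers a : Set G)).index = Nat.card (Sylow p G) :=
  (Sylow.card_eq_index_normalizer ((IsPGroup.of_card (G := zpowers a) (n := 1)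
    (by rw [Nat.card_zpowers, ha, pow_one])).toSylow fun e => hc (by
      rw [← (zpowers a).index_mul_card, Nat.card_zpowers, ha, sq]
      exact Nat.mul_dvd_mul_right e p))).symm

theorem index_norm_mod {p : ℕ} (hp : p.Prime) (hc : ¬ p ^ 2 ∣ Nat.card G) {a : G} (ha : orderOf a = p) :
    Nat.card G / Nat.card (normalizer (zpowers a : Set G)) % p = 1 := by
  have := Fact.mk hp
  rw [← (normalizer (zpowers a : Set G)).index_mul_card, Nat.mul_div_cancel _ Nat.card_pos,
    index_norm hc ha, card_sylow_modEq_one p G, Nat.mod_eq_of_lt hp.one_lt]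

theorem card_norm_congr {p : ℕ} (hp : p.Prime) (hc : ¬ p ^ 2 ∣ Nat.card G) {a b : G}
    (ha : orderOf a = p) (hb : orderOf b = p) :
    Nat.card (normalizer (zpowers a : Set G)) = Nat.card (normalizer (zpowers b : Set G)) := by
  have := Fact.mk hp
  refine Nat.eq_of_mul_eq_mul_left (Nat.pos_of_ne_zero index_ne_zero_of_finite)
    ((index_mul_card _).trans (Eq.trans (index_mul_card (normalizer (zpowers b : Set G))).symm ?_))
  rw [index_norm hc ha, index_norm hc hb]

theorem exists_aut {p : ℕ} (hp : p.Prime) {a : G} (ha : orderOf a = p) : ∃ e, e ∣ p - 1 ∧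
    Nat.card (normalizer (zpowers a : Set G)) = e * Nat.card (centralizer ({a} : Set G)) := by
  refine ⟨Nat.card (zpowers a).normalizerMonoidHom.range, ?_, ?_⟩
  · rw [← Nat.totient_prime hp, ← ha, ← Nat.card_zpowers, ← IsCyclic.card_mulAut]
    exact card_subgroup_dvd_card _
  · rw [← card_range_mul_ker (zpowers a).normalizerMonoidHom, normalizerMonoidHom_ker,
      Nat.card_congr (subgroupOfEquivOfLe (centralizer_le_normalizer _)).toEquiv, cent_zpowers]

theorem mem_norm_subgroupOf {K : Subgroup G} {a : K} (k : K) :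
    k ∈ normalizer (zpowers a : Set K) ↔ (k : G) ∈ normalizer (zpowers (a : G) : Set G) := by
  simp only [mem_normalizer_zpowers_iff]
  exact ⟨fun ⟨n, e⟩ => ⟨n, congrArg Subtype.val e⟩, fun ⟨n, e⟩ => ⟨n, Subtype.ext e⟩⟩

/-- the divisors of the product of the five primes -/
def DL5 : List ℕ := [1, 23, 29, 31, 37, 43, 667, 713, 851, 899, 989, 1073, 1147, 1247, 1333, 1591, 20677,
  24679, 26381, 28681, 30659, 33263, 36593, 38657, 46139, 49321, 765049, 889111, 1061197, 1134383,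
  1430309, 32897107]

theorem mem_DL5 {n : ℕ} (h : n ∣ 23 * (29 * (31 * (37 * 43)))) : n ∈ DL5 := by
  obtain ⟨a, _, ha, h1, rfl⟩ := Nat.dvd_mul.1 h
  obtain ⟨b, _, hb, h2, rfl⟩ := Nat.dvd_mul.1 h1
  obtain ⟨c, _, hc, h3, rfl⟩ := Nat.dvd_mul.1 h2
  obtain ⟨d, e, hd, he, rfl⟩ := Nat.dvd_mul.1 h3
  rw [Nat.dvd_prime (by decide)] at ha hb hc hd he
  rcases ha with rfl | rfl <;> rcases hb with rfl | rfl <;> rcases hc with rfl | rfl <;>
    rcases hd with rfl | rfl <;> rcases he with rfl | rfl <;> decide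

namespace JS

variable (h : JS z V θ χ)
include h

theorem cent_dvd {x : G} {p : ℕ} (hp : ¬ p ∣ 2 ^ 21 * 3 ^ 3 * 5 * 7 * 11 ^ 3) (hx : orderOf x = p) :
    Nat.card (centralizer {x}) ∣ 23 * (29 * (31 * (37 * 43))) := by
  obtain ⟨c, φ, e⟩ := h.exists_ele
  have k : ∀ {r : ℕ}, r.Prime → (∀ y : G, orderOf y = r →
      Nat.card (centralizer {y}) ∣ 2 ^ 21 * 3 ^ 3 * 5 * 7 * 11 ^ 3) →
      r.Prime ∧ ¬ r ∣ Nat.card (centralizer {x}) := fun hr k => ⟨hr, fun e' => by
    obtain ⟨y, hy, oy⟩ := exists_orderOf hr e'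
    exact hp (hx ▸ (dvd_card_cent (mem_centralizer_singleton_iff.1 hy).symm).trans (k y oy))⟩
  refine dvd_of_not_dvd [(2, 21), (3, 3), (5, 1), (7, 1), (11, 3)] ?_
    ((card_subgroup_dvd_card _).trans (h.card_G ▸ by decide))
  simp only [List.forall_mem_cons, List.not_mem_nil, false_imp_iff, implies_true, and_true]
  refine ⟨k (by decide) fun y hy => (h.cent_two hy).trans (by decide),
    k (by decide) fun y hy => h.three y hy ▸ by decide,
    k (by decide) fun y hy => h.cent_five hy ▸ by decide,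
    k (by decide) fun y hy => h.cent_seven hy ▸ by decide, k (by decide) fun y hy => ?_⟩
  rcases e.classes h (fun e' => absurd (hy.symm.trans (e' ▸ orderOf_one)) (by decide))
    (IsPGroup.of_card (n := 1) (by rw [Nat.card_zpowers, hy]; rfl)) with e' | e' <;>
    rw [Inv.card_centralizer_eq_of_isConj e']
  · obtain ⟨O, -, -, -, -, o⟩ := e.exists_O h
    exact o ▸ by decide
  · exact (e.card_Cu h).trans (by decide)

theorem norm_dvd {x y : G} {p q : ℕ} (hp : ¬ p ∣ 2 ^ 21 * 3 ^ 3 * 5 * 7 * 11 ^ 3) (hx : orderOf x = p)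
    (hq : q ∈ [29, 31, 43]) (hy : orderOf y = q) (hd : q ∣ Nat.card (centralizer {x})) :
    Nat.card (normalizer (zpowers x : Set G)) ∣ Nat.card (normalizer (zpowers y : Set G)) := by
  obtain ⟨q1, q2, q3⟩ : q.Prime ∧ ¬ q ^ 2 ∣ 86775571046077562880 ∧ ∀ n ∈ DL5, n % q = 1 → n = 1 := by
    clear hy hd; revert q; decide +kernel
  obtain ⟨w, hw, ow⟩ := exists_orderOf q1 hd
  have c1 : ¬ q ^ 2 ∣ Nat.card (centralizer {x}) := fun e =>
    q2 (e.trans (h.card_G ▸ card_subgroup_dvd_card _))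
  have c2 := index_norm_mod q1 c1 (a := ⟨w, hw⟩) ((orderOf_mk _ _).trans ow)
  rw [← index_mul_card (normalizer (zpowers (⟨w, hw⟩ : centralizer {x}) : Set (centralizer {x}))),
    Nat.mul_div_cancel _ Nat.card_pos] at c2
  have c3 := index_eq_one.1 (q3 _ (mem_DL5 ((index_dvd_card _).trans (h.cent_dvd hp hx))) c2)
  rw [card_norm_congr q1 (h.card_G ▸ q2) hy ow]
  refine card_dvd_of_le fun n hn => mem_normalizer_zpowers_iff.2 ?_
  obtain ⟨i, -, e⟩ := exists_pow_of_norm (inv_mem hn)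
  obtain ⟨k, hk, j, -, e'⟩ := conj_in q1 c1 hw (b := n * w * n⁻¹) (by
    rw [mem_centralizer_singleton_iff, ← comm_conj_iff (g := n⁻¹), e,
      show n⁻¹ * (n * w * n⁻¹) * n⁻¹⁻¹ = w by group]
    exact Commute.pow_right (mem_centralizer_singleton_iff.1 hw) i) ow ((Inv.orderOf_conj' _ _).trans ow)
  exact ((mem_norm_subgroupOf ⟨k, hk⟩).1 (c3.ge (mem_top _)) _).2 (e' ▸ npow_mem_zpowers w j)

theorem table {x : G} {p : ℕ} {L : List (ℕ × ℕ)} (hx : orderOf x = p)
    (hp : p.Prime ∧ ¬ p ∣ 2 ^ 21 * 3 ^ 3 * 5 * 7 * 11 ^ 3 ∧ ¬ p ^ 2 ∣ 86775571046077562880 ∧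
      ∀ c ∈ DL5, ∀ e < p, e ∣ p - 1 → p ∣ c → 86775571046077562880 / (e * c) % p = 1 → (c, e) ∈ L) :
    ∃ a ∈ L, Nat.card (centralizer {x}) = a.1 ∧ Nat.card (normalizer (zpowers x : Set G)) = a.2 * a.1 := by
  obtain ⟨p1, p2, p3, p4⟩ := hp
  obtain ⟨e, e1, e2⟩ := exists_aut p1 hx
  have := p1.two_le
  exact ⟨_, p4 _ (mem_DL5 (h.cent_dvd p2 hx)) e ((Nat.le_of_dvd (by omega) e1).trans_lt (by omega)) e1
    (hx ▸ dvd_card_cent rfl) (by rw [← e2, ← h.card_G]; exact index_norm_mod p1 (h.card_G ▸ p3) hx),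
    rfl, e2⟩

theorem not_186 {x : G} (hx : orderOf x = 31) : Nat.card (normalizer (zpowers x : Set G)) ≠ 6 * 1333 :=
  fun e => by
  obtain ⟨z', V', θ', χ', h', -, h7⟩ := h.exists_of_ten h.ten_A
  have c1 := h'.card_norm h7
  obtain ⟨y, hy, oy⟩ := exists_orderOf (K := normalizer (h'.A : Set G)) (p := 31) (by decide)
    (by rw [c1]; decide)
  have c2 := index_norm_mod (G := normalizer (h'.A : Set G)) (p := 31) (by decide) (by rw [c1]; decide)
    (a := ⟨y, hy⟩) ((orderOf_mk _ _).trans oy)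
  have c3 := card_subgroup_dvd_card (normalizer (zpowers (⟨y, hy⟩ : normalizer (h'.A : Set G)) :
    Set (normalizer (h'.A : Set G))))
  have c4 := card_dvd_of_le (map_le_iff_le_comap.2 fun k hk =>
    (mem_norm_subgroupOf (a := ⟨y, hy⟩) k).1 hk : map (Subgroup.subtype _) _ ≤ normalizer (zpowers y : Set G))
  rw [card_map_of_injective (subtype_injective _), card_norm_congr (by decide)
    (h.card_G ▸ by decide) oy hx, e] at c4
  rw [c1] at c2 c3
  have c5 : _ ∣ 186 := Nat.dvd_gcd c3 c4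
  exact (by decide +kernel : ∀ m < 187, m ∣ 186 → 2 ^ 10 * 9999360 / m % 31 ≠ 1) _
    (Nat.lt_succ_of_le (Nat.le_of_dvd (by decide) c5)) c5 c2

set_option synthInstance.maxSize 1024 in
theorem big {a b c d e : G} (ha : orderOf a = 23) (hb : orderOf b = 29) (hc : orderOf c = 31)
    (hd : orderOf d = 37) (he : orderOf e = 43) :
    (Nat.card (centralizer {a}) = 23 ∧ Nat.card (normalizer (zpowers a : Set G)) = 23 * 22) ∧
    (Nat.card (centralizer {b}) = 29 ∧ Nat.card (normalizer (zpowers b : Set G)) = 29 * 28) ∧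
    (Nat.card (centralizer {c}) = 31 ∧ Nat.card (normalizer (zpowers c : Set G)) = 31 * 10) ∧
    (Nat.card (centralizer {d}) = 37 ∧ Nat.card (normalizer (zpowers d : Set G)) = 37 * 12) ∧
    (Nat.card (centralizer {e}) = 43 ∧ Nat.card (normalizer (zpowers e : Set G)) = 43 * 14) := by
  have k : ∀ {x : G} {p : ℕ}, orderOf x = p → ¬ p ∣ 2 ^ 21 * 3 ^ 3 * 5 * 7 * 11 ^ 3 →
      ∀ w ∈ [(29, Nat.card (normalizer (zpowers b : Set G))), (31, Nat.card (normalizer (zpowers c : Set G))),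
        (43, Nat.card (normalizer (zpowers e : Set G)))], w.1 ∣ Nat.card (centralizer {x}) →
        Nat.card (normalizer (zpowers x : Set G)) ∣ w.2 := fun hx hp => by
    simp only [List.forall_mem_cons, List.not_mem_nil, false_imp_iff, implies_true, and_true]
    exact ⟨h.norm_dvd hp hx (by decide) hb, h.norm_dvd hp hx (by decide) hc,
      h.norm_dvd hp hx (by decide) he⟩
  have ka := k ha (by decide)
  have kb := k hb (by decide)
  have kc := k hc (by decide)
  have kd := k hd (by decide)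
  have ke := k he (by decide)
  have kn := h.not_186 hc
  obtain ⟨a', a0, a1, a2⟩ := h.table (L := [(23, 22), (20677, 11), (30659, 1), (1061197, 22)]) ha
    (by decide +kernel)
  obtain ⟨b', b0, b1, b2⟩ := h.table (L := [(29, 28), (899, 14), (1247, 2), (38657, 1)]) hb
    (by decide +kernel)
  obtain ⟨c', c0, c1, c2⟩ := h.table
    (L := [(31, 10), (1333, 6), (49321, 1), (1430309, 15), (32897107, 2)]) hc (by decide +kernel)
  obtain ⟨d', d0, d1, d2⟩ := h.table (L := [(37, 12), (1591, 2), (24679, 12), (46139, 9), (49321, 12),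
    (1061197, 2), (32897107, 12)]) hd (by decide +kernel)
  obtain ⟨e', e0, e1, e2⟩ := h.table (L := [(43, 14), (1247, 42), (1333, 6), (49321, 42)]) he
    (by decide +kernel)
  simp only [a1, a2, b1, b2, c1, c2, d1, d2, e1, e2] at ka kb kc kd ke kn ⊢
  clear a1 a2 b1 b2 c1 c2 d1 d2 e1 e2 k
  revert ka kb kc kd ke kn; revert e'; revert d'; revert c'; revert b'; revert a'
  decide +kernel

omit h in
theorem _root_.CL.J4.sylow_gen {p : ℕ} [Fact p.Prime] (h1 : p ∣ Nat.card G) (h2 : ¬ p ^ 2 ∣ Nat.card G)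
    (U : Sylow p G) : ∃ x, orderOf x = p ∧ (U : Subgroup G) = zpowers x := by
  obtain ⟨x, hx, ox⟩ := exists_orderOf Fact.out (U.dvd_card_of_dvd_card h1)
  obtain ⟨n, hn⟩ := U.2.exists_card_eq
  have : n < 2 := lt_of_not_ge fun e => h2 ((pow_dvd_pow p e).trans (hn ▸ card_subgroup_dvd_card _))
  refine ⟨x, ox, (eq_of_le_of_card_ge (zpowers_le.2 hx) ?_).symm⟩
  rw [hn, Nat.card_zpowers, ox]
  interval_cases n
  · exact (Fact.out : p.Prime).pos
  · exact (pow_one p).le

omit h in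
theorem _root_.CL.J4.cent_eq_of_card {x : G} (h : Nat.card (centralizer {x}) = orderOf x) :
    centralizer (zpowers x : Set G) = zpowers x := by
  rw [cent_zpowers]
  exact (eq_of_le_of_card_ge (zpowers_le.2 (mem_centralizer_singleton_iff.2 rfl))
    (by rw [h, Nat.card_zpowers])).symm

end JS

end CL.J4
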