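import Cfsg.Agent.SPOR.J4.Big
import Cfsg.Agent.S0732

/-!
The subgroup `PGL(2, 23)`.
-/

set_option autoImplicit false

namespace CL.J4

open Cfsg CL.K CL.Golay CL.MAut CL.Orb Subgroup

theorem pgl_of_sylow {X : Type*} [Group X] [Finite X] (hX : Nat.card X = 24 * 23 * 22) {w : X}
    (hw : orderOf w = 23) (hc : Nat.card (centralizer {w}) = 23)
    (hn : Nat.card (normalizer (zpowers w : Set X)) = 506) :
    Nonempty (X ≃* Matrix.ProjGenLinGroup (Fin 2) (ZMod 23)) := by
  classical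
  have : Fact (Nat.Prime 23) := ⟨by decide⟩
  have := Fintype.ofFinite (Sylow 23 X)
  have h2 : ¬ 23 ^ 2 ∣ Nat.card X := by rw [hX]; decide
  have c1 : Nat.card (Sylow 23 X) = 24 := by
    have := (normalizer (zpowers w : Set X)).index_mul_card
    rw [index_norm h2 hw, hn, hX] at this
    omega
  have hp : IsPGroup 23 (zpowers w) := IsPGroup.of_card (n := 1) (by rw [Nat.card_zpowers, hw]; rfl)
  have k : ∀ s ∈ zpowers w, s ∈ (MulAction.toPermHom X (Sylow 23 X)).ker → s = 1 :=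
    fun s hs hk => by_contra fun h1 => by
      obtain ⟨n, e⟩ := mem_zpowers_of_prime_card ((Nat.card_zpowers w).trans hw)
        (g := ⟨s, hs⟩) (g' := ⟨w, mem_zpowers w⟩) fun e => h1 (congrArg Subtype.val e)
      have hw' : w ∈ (MulAction.toPermHom X (Sylow 23 X)).ker :=
        (show s ^ n = w from congrArg Subtype.val e) ▸ zpow_mem hk n
      have : ∀ Q : Sylow 23 X, zpowers w = Q := fun Q => by
        obtain ⟨x, ox, e⟩ := sylow_gen (hX ▸ by decide) h2 Q
        refine eq_of_le_of_card_ge ?_ (by rw [e, Nat.card_zpowers, Nat.card_zpowers, ox, hw])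
        rw [← inf_eq_left, ← hp.inf_normalizer_sylow Q, inf_eq_left, zpowers_le]
        exact Sylow.smul_eq_iff_mem_normalizer.1 (Equiv.congr_fun hw' Q)
      have : Subsingleton (Sylow 23 X) := ⟨fun a b => Sylow.ext ((this a).symm.trans (this b))⟩
      exact absurd (c1.symm.trans Nat.card_unique) (by decide)
  have hi : Function.Injective (MulAction.toPermHom X (Sylow 23 X)) :=
    (injective_iff_map_eq_one _).2 fun g hg => by
      obtain ⟨Q, hQ⟩ := hp.exists_le_sylow
      obtain ⟨x, ox, e⟩ := sylow_gen (hX ▸ by decide) h2 Q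
      have e1 : zpowers w = Q :=
        eq_of_le_of_card_ge hQ (by rw [e, Nat.card_zpowers, Nat.card_zpowers, ox, hw])
      have hg' : g ∈ normalizer (zpowers w : Set X) :=
        e1 ▸ Sylow.smul_eq_iff_mem_normalizer.1 (Equiv.congr_fun hg Q)
      have := k (g * w * g⁻¹ * w⁻¹) (mul_mem (mem_normalizer_zpowers_iff.1 hg') (inv_mem (mem_zpowers w)))
        (by rw [MonoidHom.mem_ker, map_mul, map_mul, map_mul, map_inv, map_inv, hg]; simp)
      exact k g (cent_eq_of_card (hc.trans hw.symm) ▸ mem_centralizer_zpowers_iff.2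
        (mul_inv_eq_iff_eq_mul.1 (mul_inv_eq_one.1 this))) hg
  have : MulAction.IsPretransitive (MulAction.toPermHom X (Sylow 23 X)).range (Sylow 23 X) :=
    ⟨fun a b => (MulAction.exists_smul_eq X a b).elim fun g e => ⟨⟨_, g, rfl⟩, e⟩⟩
  rcases Cfsg.Agent.S0732.result (p := 23) (d := 22) (by decide) (Nat.card_eq_fintype_card.symm.trans c1)
    (MulAction.toPermHom X (Sylow 23 X)).range
    ((Nat.card_congr (MonoidHom.ofInjective hi).toEquiv).symm.trans hX) (by decide) with
    ⟨-, ⟨e⟩⟩ | ⟨e, -⟩ | ⟨q, -, e, -⟩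
  · exact ⟨(MonoidHom.ofInjective hi).trans e⟩
  · exact absurd e (by decide)
  · exact absurd ((Nat.prime_three.dvd_of_dvd_pow (n := q) (by rw [← e]; decide) : 3 ∣ 2)) (by decide)

set_option synthInstance.maxSize 512 in
theorem eq_24 {n : ℕ} (h : n ∣ 2 ^ 10 * (3 ^ 3 * (5 * 7))) (h1 : n % 23 = 1) (h2 : 253 * n / 22 % 11 = 1)
    (h3 : 22 ∣ 253 * n) : n = 24 := by
  obtain ⟨a, _, ha, k1, rfl⟩ := Nat.dvd_mul.1 h
  obtain ⟨b, _, hb, k2, rfl⟩ := Nat.dvd_mul.1 k1
  obtain ⟨c, d, hc, hd, rfl⟩ := Nat.dvd_mul.1 k2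
  obtain ⟨a, ha', rfl⟩ := (Nat.dvd_prime_pow (by decide)).1 ha
  obtain ⟨b, hb', rfl⟩ := (Nat.dvd_prime_pow (by decide)).1 hb
  rw [Nat.dvd_prime (by decide)] at hc hd
  clear h k1 k2 ha hb
  rcases hc with rfl | rfl <;> rcases hd with rfl | rfl <;> revert b a <;> decide +kernel

/-- an element of order 23 normalised by `P11` -/
def P23 : ℕ := 91170845597848458302601277272534752

theorem P23_in : I M24 P23 := I.of_okM (by decide +kernel)

theorem orderOf_P23 : orderOf (toM P23) = 23 := by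
  have : Fact (Nat.Prime 23) := ⟨by decide⟩
  rw [← orderOf_coe]
  exact R.orderOf_eq_prime (R_toM P23_in) (by decide +kernel)

theorem P11_P23 : toM P11 * toM P23 = toM P23 * toM P23 * toM P11 := by
  rw [← toM_comp P11_in P23_in, ← toM_comp P23_in P23_in, ← toM_comp (I.mul _ _ P23_in P23_in) P11_in]
  exact congrArg _ (by decide +kernel)

variable {G : Type*} [Group G] [Finite G] {z : G} {V : Subgroup G} {θ : Finset GolayPt → G}
  {χ : M24 →* G}

omit [Finite G] in
theorem card_cent_sub {K : Subgroup G} (a : K) :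
    Nat.card (centralizer ({a} : Set K)) = Nat.card (K ⊓ centralizer {(a : G)} : Subgroup G) :=
  Orb.card_of_mem_iff inf_le_left fun k => by
    simp only [mem_inf, mem_centralizer_singleton_iff, Subtype.ext_iff, k.2, true_and]; rfl

theorem card_norm_sub {K : Subgroup G} (a : K) : Nat.card (normalizer (zpowers a : Set K)) =
    Nat.card (K ⊓ normalizer (zpowers (a : G) : Set G) : Subgroup G) :=
  Orb.card_of_mem_iff inf_le_left fun k => (mem_norm_subgroupOf k).trans (and_iff_right k.2).symm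

theorem JS.exists_pgl (h : JS z V θ χ) :
    ∃ K : Subgroup G, Nonempty (K ≃* Matrix.ProjGenLinGroup (Fin 2) (ZMod 23)) := by
  obtain ⟨c, φ, e⟩ := h.exists_ele
  obtain ⟨O, o⟩ := h.exists_Ou
  set u := χ (toM P11) with hu
  set w := χ (toM P23) with hw
  have ou : orderOf u = 11 := h.u_ord
  have ow : orderOf w = 23 := by rw [orderOf_injective χ h.χ_inj, orderOf_P23]
  have uw : u * w * u⁻¹ = w ^ 2 := by
    rw [← map_mul, P11_P23, map_mul, map_mul, mul_inv_cancel_right, sq]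
  have uN : u ∈ normalizer (zpowers w : Set G) := mem_normalizer_zpowers_iff.2 (uw ▸ npow_mem_zpowers w 2)
  obtain ⟨cC, cN⟩ : Nat.card (centralizer {w}) = 23 ∧
      Nat.card (normalizer (zpowers w : Set G)) = 23 * 22 := by
    have k : ∀ p : ℕ, p.Prime → p ∣ 86775571046077562880 → ∃ x : G, orderOf x = p := fun p hp e =>
      have := Fact.mk hp
      exists_prime_orderOf_dvd_card' p (h.card_G ▸ e)
    obtain ⟨b, hb⟩ := k 29 (by decide) (by decide)
    obtain ⟨c, hc⟩ := k 31 (by decide) (by decide)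
    obtain ⟨d, hd⟩ := k 37 (by decide) (by decide)
    obtain ⟨e, he⟩ := k 43 (by decide) (by decide)
    exact (h.big ow hb hc hd he).1
  have Cw : ∀ x, x * w = w * x → x ∈ zpowers w := fun x hx =>
    cent_eq_of_card (cC.trans ow.symm) ▸ mem_centralizer_zpowers_iff.2 hx
  obtain ⟨j, jN, oj, jw, ju⟩ : ∃ j ∈ normalizer (zpowers w : Set G), orderOf j = 2 ∧
      j * w * j⁻¹ = w⁻¹ ∧ j * u = u * j := by
    obtain ⟨j, hj, oj⟩ := exists_orderOf (K := normalizer (zpowers w : Set G)) Nat.prime_two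
      (cN ▸ by decide)
    obtain ⟨k, hk, e1⟩ := exists_pow_of_norm hj
    have e2 := conj_pow_pow e1 2
    rw [← oj, pow_orderOf_eq_one, oj, one_mul, inv_one, mul_one, eq_comm, ← pow_one w, ← pow_mul,
      pow_eq_pow_iff_modEq, ow, one_mul] at e2
    rw [ow] at hk
    obtain rfl | rfl : k = 1 ∨ k = 22 := by clear e1; revert e2; revert k; decide
    · have := orderOf_dvd_of_mem_zpowers (Cw j (mul_inv_eq_iff_eq_mul.1 (e1.trans (pow_one w))))
      rw [oj, ow] at this
      exact absurd this (by decide)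
    have e3 : j * w * j⁻¹ = w⁻¹ := by
      rw [e1, eq_inv_iff_mul_eq_one, ← pow_succ, ← orderOf_dvd_iff_pow_eq_one, ow]
    obtain ⟨_, ⟨n, rfl⟩, e4⟩ := exists_comm_mul (by decide) ou (ow ▸ by decide) hj uN (Cw _ (by
      have a1 : j * (u * w * u⁻¹) * j⁻¹ = u * (j * w * j⁻¹) * u⁻¹ := by
        rw [uw, ← conj_pow, e3, ← conj_inv, uw, inv_pow]
      calc _ = u⁻¹ * j⁻¹ * (u * (j * w * j⁻¹) * u⁻¹) * u * j := by group
        _ = _ := by rw [← a1]; group))
    have e5 : j * w ^ n * j⁻¹ = (w ^ n)⁻¹ := by rw [← conj_zpow, e3, inv_zpow]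
    have j2 := Inv.mul_self_of_orderOf_two oj
    refine ⟨j * w ^ n, mul_mem hj (le_normalizer ⟨n, rfl⟩), orderOf_eq_prime ?_ fun e6 => ?_, ?_, e4⟩
    · calc _ = j * w ^ n * j⁻¹ * (j * j) * w ^ n := by rw [sq]; group
        _ = _ := by rw [e5, j2]; group
    · have := orderOf_dvd_of_mem_zpowers (eq_inv_of_mul_eq_one_left e6 ▸ inv_mem ⟨n, rfl⟩ : j ∈ zpowers w)
      rw [oj, ow] at this
      exact absurd this (by decide)
    · rw [conj_mul_conj, ← e3]; group
  have j2 := Inv.mul_self_of_orderOf_two oj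
  have jM : j ∉ normalizer (V : Set G) := fun hj => by
    have e1 : j ∈ V := h.eq_t hj ju oj ▸ h.t_mem
    have := V.orderOf_dvd_natCard (mul_mem ((h.χ_mem_N (toM P23) j).1 e1) (inv_mem e1))
    rw [← hw, mul_assoc, mul_assoc, ← mul_assoc j, conj_inv.symm.trans (congrArg _ jw), inv_inv, ← sq,
      orderOf_pow' w two_ne_zero, ow, h.card_V] at this
    exact absurd this (by decide)
  have mj : ∀ x, x ∈ normalizer (V.map (MulAut.conj j).toMonoidHom : Set G) ↔
      j * x * j⁻¹ ∈ normalizer (V : Set G) := fun x => by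
    rw [← mem_normalizer_map (MulAut.conj j) (g := j * x * j⁻¹), MulAut.conj_apply, show j * (j * x * j⁻¹) * j⁻¹ =
      (j * j) * x * (j * j)⁻¹ by group, j2, one_mul, inv_one, mul_one]
  set S := normalizer (V : Set G) ⊓ normalizer (V.map (MulAut.conj j).toMonoidHom : Set G)
  have wS : w ∈ S := ⟨h.χ_mem_N _, (mj w).2 (jw ▸ inv_mem (h.χ_mem_N _))⟩
  have uS : u ∈ S := ⟨h.χ_mem_N _, (mj u).2 (by rw [ju, mul_inv_cancel_right]; exact h.χ_mem_N _)⟩
  have jS : j ∈ normalizer (S : Set G) := mem_normalizer_fintype fun x hx =>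
    ⟨(mj x).1 hx.2, (mem_normalizer_map (MulAut.conj j)).2 hx.1⟩
  have SV : S ⊓ V = ⊥ := by
    obtain ⟨n, hn, e1⟩ := (Nat.dvd_prime_pow Nat.prime_two).1
      (h.card_V ▸ card_dvd_of_le (inf_le_right : S ⊓ V ≤ V))
    have e2 := prime_dvd_card_sub_one (by decide) ow (T := S ⊓ V) (mem_normalizer_fintype fun x hx =>
      ⟨S.mul_mem (S.mul_mem wS hx.1) (S.inv_mem wS), (wS.1 x).1 hx.2⟩) fun x hx e' =>
        orderOf_eq_one_iff.1 (Nat.eq_one_of_dvd_coprimes (by decide : Nat.Coprime 23 (2 ^ 11))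
          (ow ▸ orderOf_dvd_of_mem_zpowers (Cw x e')) (h.card_V ▸ V.orderOf_dvd_natCard hx.2))
    rw [e1] at e2
    obtain rfl | rfl : n = 0 ∨ n = 11 := by clear e1; revert n; decide
    · exact card_eq_one.1 e1
    have e3 := eq_of_le_of_card_ge (inf_le_right : S ⊓ V ≤ V) (by rw [e1, h.card_V])
    have e4 := (h.map (MulAut.conj j)).uniq V (e3.ge.trans (inf_le_left.trans inf_le_right))
      h.elemAb h.card_V
    exact (jM (mem_normalizer_fintype fun v hv => e4.ge ⟨v, hv, rfl⟩)).elim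
  have dS : Nat.card S ∣ 244823040 := by
    have c1 := CL.card_sup_mul_card_inf_of_le_normalizer (H := S) (K := V) inf_le_left
    have c2 := card_dvd_of_le (sup_le inf_le_left le_normalizer : S ⊔ V ≤ normalizer (V : Set G))
    rw [SV, card_bot, mul_one, h.card_V] at c1
    rw [c1, h.card_N, mul_comm] at c2
    exact Nat.dvd_of_mul_dvd_mul_left (by decide) c2
  have nw : ∀ {K : Subgroup G}, S ≤ K → ∃ m, (m = 1 ∨ m = 2) ∧
      Nat.card (K ⊓ normalizer (zpowers w : Set G) : Subgroup G) = 253 * m := fun {K} hK => by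
    obtain ⟨m, hm⟩ := (by decide : Nat.Coprime 23 11).mul_dvd_of_dvd_of_dvd
      (ow ▸ (K ⊓ normalizer (zpowers w : Set G)).orderOf_dvd_natCard
        ⟨hK wS, le_normalizer (mem_zpowers w)⟩)
      (ou ▸ (K ⊓ normalizer (zpowers w : Set G)).orderOf_dvd_natCard ⟨hK uS, uN⟩)
    have := card_dvd_of_le (inf_le_right : K ⊓ normalizer (zpowers w : Set G) ≤ _)
    rw [hm, cN] at this
    exact ⟨m, (Nat.dvd_prime Nat.prime_two).1 (Nat.dvd_of_mul_dvd_mul_left (by decide : 0 < 253) this), hm⟩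
  have n23 : Nat.card (normalizer (zpowers (⟨w, wS⟩ : S) : Set S)) = 253 := by
    obtain ⟨m, rfl | rfl, hm⟩ := nw le_rfl
    · exact (card_norm_sub _).trans hm
    · exact (jM ((eq_of_le_of_card_ge (inf_le_right : S ⊓ _ ≤ _) (by rw [hm, cN])).ge jN).1.1).elim
  have n11 : Nat.card (normalizer (zpowers (⟨u, uS⟩ : S) : Set S)) = 22 := by
    obtain ⟨k, k1, k2⟩ := exists_aut (a := (⟨u, uS⟩ : S)) (by decide) ((orderOf_mk _ _).trans ou)
    rw [card_cent_sub, show S ⊓ centralizer {u} = zpowers u from le_antisymm (fun x hx => by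
      obtain ⟨τ, hτ, b, hb, rfl⟩ := h.memK hx.1.1 (mem_centralizer_singleton_iff.1 hx.2)
      rwa [mem_bot.1 (SV.le ⟨(mul_mem_cancel_right (zpowers_le.2 uS hb)).1 hx.1,
        zpowers_le.2 h.t_mem hτ⟩), one_mul])
      (zpowers_le.2 ⟨uS, mem_centralizer_singleton_iff.2 rfl⟩), Nat.card_zpowers, ou] at k2
    have jC : j ∈ centralizer {u} := mem_centralizer_singleton_iff.2 ju
    have tC : θ (E.setOf D2) ∈ centralizer {u} := mem_centralizer_singleton_iff.2 h.u_t.symm
    have i2 : (O.subgroupOf (centralizer {u})).index = 2 := by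
      have := (O.subgroupOf (centralizer {u})).index_mul_card
      rw [Nat.card_congr (subgroupOfEquivOfLe o.le).toEquiv, h.card_Cu o] at this
      exact Nat.eq_of_mul_eq_mul_right Nat.card_pos this
    have n2 : ∀ {x}, orderOf x = 2 → x ∉ O := fun e hx =>
      o.odd.not_two_dvd_nat (e ▸ O.orderOf_dvd_natCard hx)
    have jt : j * θ (E.setOf D2) ∈ O := (mul_mem_iff_of_index_two i2 (a := ⟨j, jC⟩) (b := ⟨_, tC⟩)).2
      (iff_of_false (n2 oj) (n2 h.orderOf_t))
    have eV : V.map (MulAut.conj (j * θ (E.setOf D2))).toMonoidHom = V.map (MulAut.conj j).toMonoidHom := by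
      have : ∀ v ∈ V, MulAut.conj (j * θ (E.setOf D2)) v = MulAut.conj j v := fun v hv => by
        rw [MulAut.conj_apply, conj_mul_conj, h.comm_V h.t_mem hv, mul_inv_cancel_right]; rfl
      exact Subgroup.ext fun x => exists_congr fun v => and_congr_right fun hv =>
        Eq.congr_left (this v hv)
    have k5 : ¬ 5 ∣ k * 11 := fun e5 => by
      obtain ⟨d, hd, od⟩ := exists_orderOf (by decide) (k2 ▸ e5)
      exact e.no_five h o jt (fun e' => jM ((mul_mem_cancel_right (le_normalizer h.t_mem)).1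
        (zpowers_le.2 uS.1 e'))) (eV ▸ d.2) ((mem_norm_subgroupOf d).1 hd) ((orderOf_coe d).trans od)
    obtain ⟨d, hd, d1, d2⟩ := h.exists_d jM uS.2
    have := (normalizer (zpowers (⟨u, uS⟩ : S) : Set S)).orderOf_dvd_natCard
      ((mem_norm_subgroupOf ⟨d, hd⟩).2 d1)
    rw [orderOf_mk, k2] at this
    rw [d2.resolve_right fun e' => k5 (e' ▸ this)] at this
    have := Nat.le_of_dvd (by decide) k1
    rw [k2]
    interval_cases k <;> omega
  have cS : Nat.card S = 253 * 24 := by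
    obtain ⟨n, hn⟩ : 253 ∣ Nat.card S := n23 ▸ card_subgroup_dvd_card _
    have a1 := index_norm_mod (p := 23) (by decide) (fun e => absurd (e.trans dS) (by decide))
      (a := (⟨w, wS⟩ : S)) ((orderOf_mk _ _).trans ow)
    have a2 := index_norm_mod (p := 11) (by decide) (fun e => absurd (e.trans dS) (by decide))
      (a := (⟨u, uS⟩ : S)) ((orderOf_mk _ _).trans ou)
    have a3 : 22 ∣ Nat.card S := n11 ▸ card_subgroup_dvd_card _
    rw [n23, hn, Nat.mul_div_cancel_left _ (by decide)] at a1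
    rw [n11, hn] at a2
    rw [hn] at a3 dS ⊢
    rw [eq_24 (Nat.dvd_of_mul_dvd_mul_left (by decide : 0 < 253) dS) a1 a2 a3]
  have cX := CL.card_sup_mul_card_inf_of_le_normalizer (zpowers_le.2 jS)
  rw [show zpowers j ⊓ S = ⊥ from eq_bot_iff.2 fun x hx =>
    (eq_of_mem_zpowers oj hx.1).resolve_right fun e' => jM (e' ▸ hx.2.1), card_bot, mul_one,
    Nat.card_zpowers, oj, cS] at cX
  have wX : w ∈ zpowers j ⊔ S := mem_sup_right wS
  refine ⟨_, pgl_of_sylow cX (w := ⟨w, wX⟩) ((orderOf_mk _ _).trans ow) ?_ ?_⟩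
  · rw [card_cent_sub, inf_eq_right.2 fun x hx => zpowers_le.2 wX
      (Cw x (mem_centralizer_singleton_iff.1 hx)), cC]
  · obtain ⟨m, rfl | rfl, hm⟩ := nw (le_sup_right : S ≤ zpowers j ⊔ S)
    · have := (_ ⊓ normalizer (zpowers w : Set G)).orderOf_dvd_natCard
        (⟨mem_sup_left (mem_zpowers j), jN⟩ : j ∈ (zpowers j ⊔ S) ⊓ _)
      rw [hm, oj] at this
      exact absurd this (by decide)
    · exact (card_norm_sub _).trans hm

end CL.J4
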