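import Cfsg.Agent.SPOR.J4.Kc5

/-!
The classes of elements of order divisible by a prime `p ≥ 5`.
-/

set_option autoImplicit false

namespace CL.J4

open Subgroup Cfsg CL.Golay

variable {G : Type*} [Group G]

theorem Tm_univ [Finite G] {m : ℕ} (h : (Nat.card G).Coprime m) : Tm G m = Set.univ :=
  Set.eq_univ_of_forall fun g => Nat.Coprime.coprime_dvd_left (orderOf_dvd_natCard g) h

theorem kc_of_decide {n : ℕ} (r : Fin n → G) (h : (∀ i j c, c * r i = r j * c → i = j) ∧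
    ∀ g, ∃ i c, c * r i = g * c) : kc ⊤ (Set.univ : Set G) = n :=
  kc_eq_of_reps r (fun _ => trivial) (fun i j ⟨c, _, e⟩ => h.1 i j c (mul_inv_eq_iff_eq_mul.1 e))
    fun g _ => (h.2 g).imp fun _ ⟨c, e⟩ => ⟨c, mem_top _, mul_inv_eq_iff_eq_mul.2 e⟩

theorem kc_S5 : kc ⊤ (Set.univ : Set S5) = 7 :=
  kc_of_decide ![1, Equiv.swap 0 1, Equiv.swap 0 1 * Equiv.swap 2 3, Equiv.swap 0 1 * Equiv.swap 1 2,
    Equiv.swap 0 1 * Equiv.swap 1 2 * Equiv.swap 2 3, Equiv.swap 0 1 * Equiv.swap 1 2 * Equiv.swap 3 4,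
    finRotate 5] (by decide +kernel)

theorem kc_SL23 : kc ⊤ (Set.univ : Set SL23) = 7 :=
  kc_of_decide ![1, ⟨!![2, 0; 0, 2], by decide⟩, ⟨!![0, 2; 1, 0], by decide⟩, ⟨!![1, 1; 0, 1], by decide⟩,
    ⟨!![1, 2; 0, 1], by decide⟩, ⟨!![2, 1; 0, 2], by decide⟩, ⟨!![2, 2; 0, 2], by decide⟩]
    (by decide +kernel)

theorem kc_big [Finite G] {p e k : ℕ} (m : ℕ)
    (hp : p.Prime ∧ p.Coprime m ∧ k * e = p - 1 ∧ e ≠ 0) (h1 : p ∣ Nat.card G)
    (h2 : ¬ p ^ 2 ∣ Nat.card G) (h : ∀ y : G, orderOf y = p → Nat.card (centralizer {y}) = p ∧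
      Nat.card (normalizer (zpowers y : Set G)) = p * e) :
    kc ⊤ (Tm G m) = kc ⊤ (Tm G (p * m)) + k := by
  have := Fact.mk hp.1
  obtain ⟨a, ha⟩ := exists_prime_orderOf_dvd_card' p h1
  have e1 := kc_prime (e := e) hp.1 h2 ha (by rw [(h a ha).1, (h a ha).2, mul_comm])
  rw [kc_step (n := 1) hp.1 hp.2.1 (fun g e => h2 (e.trans (orderOf_dvd_natCard g))) fun y hy => ?_,
    mul_one, Nat.eq_of_mul_eq_mul_right (Nat.pos_of_ne_zero hp.2.2.2) (e1.trans hp.2.2.1.symm)]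
  refine kc_eq_of_reps ![1] (fun i => ?_) (fun _ _ _ => Subsingleton.elim _ _) fun g hg => ⟨0, ?_⟩
  · fin_cases i
    exact ⟨one_mem _, by simp [Tm]⟩
  · rw [orderOf_eq_one_iff.1 (Nat.eq_one_of_dvd_coprimes (Nat.Coprime.coprime_mul_right_right hg.2)
      dvd_rfl ((h y hy).1 ▸ (centralizer {y}).orderOf_dvd_natCard hg.1))]
    exact Cj.refl _ _

theorem exists_of_card [Finite G] {A : Type*} [Group A] {H O : Subgroup G} (s : A →* G)
    (h1 : s.range ≤ H) (h3 : O ≤ H) (h4 : ∀ a, s a ∈ O → a = 1)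
    (hc : Nat.card H = Nat.card A * Nat.card O) : ∀ g ∈ H, ∃ a, g * (s a)⁻¹ ∈ O := fun g hg => by
  let F : A × O → H := fun x => ⟨x.2 * s x.1, mul_mem (h3 x.2.2) (h1 ⟨_, rfl⟩)⟩
  have hF : Function.Injective F := fun ⟨a, x⟩ ⟨b, y⟩ e => by
    have e1 : (x : G) * s a = y * s b := congrArg Subtype.val e
    have e2 : a = b := mul_inv_eq_one.1 (h4 _ (by
      rw [map_mul, map_inv, show s a * (s b)⁻¹ = (x : G)⁻¹ * y by
        rw [eq_inv_mul_iff_mul_eq, ← mul_assoc, e1, mul_inv_cancel_right]]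
      exact mul_mem (inv_mem x.2) y.2))
    subst e2
    rw [Subtype.ext (mul_right_cancel e1)]
  obtain ⟨⟨a, x⟩, e⟩ := ((Nat.bijective_iff_injective_and_card F).2
    ⟨hF, by rw [Nat.card_prod, hc]⟩).2 ⟨g, hg⟩
  exact ⟨a, by rw [← show (x : G) * s a = g from congrArg Subtype.val e, mul_inv_cancel_right]; exact x.2⟩

variable [Finite G] {z : G} {V : Subgroup G} {θ : Finset GolayPt → G} {χ : M24 →* G}

namespace JS

variable (h : JS z V θ χ)
include h

theorem kc_23 : kc ⊤ (Tm G 1) = kc ⊤ (Tm G 32897107) + 11 := by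
  have k : ∀ p : ℕ, p.Prime → p ∣ 86775571046077562880 → ∃ x : G, orderOf x = p := fun p hp e =>
    have := Fact.mk hp
    exists_prime_orderOf_dvd_card' p (h.card_G ▸ e)
  obtain ⟨a, ha⟩ := k 23 (by decide) (by decide)
  obtain ⟨b, hb⟩ := k 29 (by decide) (by decide)
  obtain ⟨c, hc⟩ := k 31 (by decide) (by decide)
  obtain ⟨d, hd⟩ := k 37 (by decide) (by decide)
  obtain ⟨e, he⟩ := k 43 (by decide) (by decide)
  rw [kc_big (k := 3) 1 (by decide) (by rw [h.card_G]; decide) (by rw [h.card_G]; decide)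
      fun _ hx => (h.big ha hb hc hd hx).2.2.2.2,
    kc_big (k := 3) (43 * 1) (by decide) (by rw [h.card_G]; decide) (by rw [h.card_G]; decide)
      fun _ hx => (h.big ha hb hc hx he).2.2.2.1,
    kc_big (k := 3) (37 * _) (by decide) (by rw [h.card_G]; decide) (by rw [h.card_G]; decide)
      fun _ hx => (h.big ha hb hx hd he).2.2.1,
    kc_big (k := 1) (31 * _) (by decide) (by rw [h.card_G]; decide) (by rw [h.card_G]; decide)
      fun _ hx => (h.big ha hx hc hd he).2.1,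
    kc_big (k := 1) (29 * _) (by decide) (by rw [h.card_G]; decide) (by rw [h.card_G]; decide)
      fun _ hx => (h.big hx hb hc hd he).1]

theorem kc_11 : kc ⊤ (Tm G 32897107) = kc ⊤ (Tm G (11 * 32897107)) + 9 := by
  obtain ⟨c, φ, e⟩ := h.exists_ele
  have o : ∀ w : G, w ≠ 1 → IsPGroup 11 (zpowers w) → orderOf w = 11 := fun w h1 h2 =>
    (e.classes h h1 h2).elim (fun k => (Cj.top.2 k).orderOf_eq.trans e.ord)
      fun k => (Cj.top.2 k).orderOf_eq.trans h.u_ord
  rw [kc_step2 (by decide) (by decide) (fun g ⟨n, hn⟩ => ?_) e.ord h.u_ord (fun k => ?_)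
    fun w hw => e.classes h (by rintro rfl; exact absurd (hw.symm.trans orderOf_one) (by decide))
      (IsPGroup.of_card (n := 1) (by rw [Nat.card_zpowers, hw]; rfl))]
  · congr 1
    obtain ⟨O, c1, -, l1, l2, c2⟩ := e.exists_O h
    have c3 : Nat.card SL23 = 24 := by rw [Nat.card_eq_fintype_card]; decide +kernel
    have l3 : (Ele.ψ φ).range ≤ centralizer {c} := by
      rintro _ ⟨a, rfl⟩
      exact mem_centralizer_singleton_iff.2 (mem_C2.1 (e.ψ_mem a)).2
    have l4 : ∀ a, Ele.ψ φ a ∈ O → a = 1 := fun a ha => orderOf_eq_one_iff.1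
      (Nat.eq_one_of_dvd_coprimes (by decide : Nat.Coprime 24 (11 ^ 3)) (c3 ▸ orderOf_dvd_natCard a)
        (c1 ▸ orderOf_injective _ e.ψ_inj a ▸ O.orderOf_dvd_natCard ha))
    rw [kc_split (Ele.ψ φ) e.ψ_inj l3
      (((cent_zpowers c).ge.trans (centralizer_le_normalizer _)).trans l2) l1 l4
      (exists_of_card _ l3 l1 l4 (by rw [c1, c2, c3])) (fun r hr => c1 ▸
        (Nat.Coprime.coprime_mul_right_right hr).symm.pow_left 3),
      Tm_univ (by rw [c3]; decide), kc_SL23, kc_eq_of_reps ![1, θ (E.setOf D2)] (fun i => ?_)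
        (fun i j k => ?_) fun g hg => ?_]
    · fin_cases i
      · exact ⟨one_mem _, by simp [Tm]⟩
      · exact ⟨mem_centralizer_singleton_iff.2 h.u_t.symm,
          show (orderOf (θ _)).Coprime _ by rw [h.orderOf_t]; decide⟩
    · have := k.orderOf_eq
      have := h.orderOf_t
      fin_cases i <;> fin_cases j <;> simp_all
    · have d1 := e.card_Cu h
      have d2 : orderOf g ∣ 2 := (Nat.Coprime.coprime_mul_right_right hg.2).pow_right 2
        |>.dvd_of_dvd_mul_right (((centralizer _).orderOf_dvd_natCard hg.1).trans d1)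
      rcases (Nat.dvd_prime Nat.prime_two).1 d2 with o1 | o1
      · exact ⟨0, orderOf_eq_one_iff.1 o1 ▸ Cj.refl _ _⟩
      obtain ⟨k, hk, j, hj, e1⟩ := conj_in Nat.prime_two (fun e => absurd (e.trans d1) (by decide))
        hg.1 (mem_centralizer_singleton_iff.2 h.u_t.symm) o1 h.orderOf_t
      refine ⟨1, k, hk, e1.trans ?_⟩
      rw [← pow_mod_orderOf, o1, Nat.odd_iff.1 (Nat.Coprime.odd_of_right hj), pow_one]
  · have n0 : n ≠ 0 := fun e => (orderOf_pos g).ne' (by rw [hn, e, mul_zero])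
    have o1 : orderOf (g ^ n) = 11 ^ 2 := by
      rw [orderOf_pow_of_dvd n0 (hn ▸ dvd_mul_left _ _), hn, Nat.mul_div_cancel _ (Nat.pos_of_ne_zero n0)]
    exact absurd (o1.symm.trans (o _ (fun e => absurd (o1.symm.trans (e ▸ orderOf_one)) (by decide))
      (IsPGroup.of_card (n := 2) (by rw [Nat.card_zpowers, o1])))) (by decide)
  · obtain ⟨m, hm⟩ := isConj_iff.1 k
    exact e.no_u h (hm.trans (pow_one _).symm)

theorem kc_7 : kc ⊤ (Tm G (11 * 32897107)) = kc ⊤ (Tm G (7 * (11 * 32897107))) + 14 := by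
  have h2 : ¬ 7 ^ 2 ∣ Nat.card G := by rw [h.card_G]; decide
  obtain ⟨ι, Z, μ, φ, σ, ν, f, P⟩ := h.exists_pen
  have e1 := kc_prime (by decide) h2 P.σ_ord' (P.card_norm7 h)
  rw [kc_step (n := 7) (by decide) (by decide) (fun g e => h2 (e.trans (orderOf_dvd_natCard g)))
    fun y hy => ?_, show kc ⊤ {y : G | orderOf y = 7} = 2 by omega]
  obtain ⟨ι, Z, μ, φ, σ, ν, f, P, e⟩ := h.exists_pen7 ((Nat.card_zpowers y).trans hy)
  rw [← cent_zpowers, e, cent_zpowers, kc_split (O := zpowers (σ : G)) ((normalizer (Z : Set G)).subtype.comp f)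
    (Subtype.val_injective.comp (Function.LeftInverse.injective P.φf)) ?_
    ((cent_zpowers _).ge.trans (centralizer_le_normalizer _))
    (zpowers_le.2 (mem_centralizer_singleton_iff.2 rfl)) (fun a ⟨k, hk⟩ => ?_) (fun g hg => ?_)
    (fun r hr => by
      rw [Nat.card_zpowers, P.σ_ord']; exact (Nat.Coprime.coprime_mul_right_right hr).symm),
    Tm_univ (by rw [card_S5]; decide), kc_S5]
  · rintro _ ⟨a, rfl⟩
    exact mem_centralizer_singleton_iff.2 (congrArg Subtype.val (P.fσ a))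
  · rw [← P.φf a, ← show σ ^ k = f a from Subtype.ext hk, map_zpow, P.φσ, one_zpow]
  · obtain ⟨⟨⟨_, k, rfl⟩, a⟩, rfl⟩ := (P.seven_aux h).1.le hg
    exact ⟨a, k, (mul_inv_cancel_right _ _).symm⟩

theorem kc_5 : kc ⊤ (Tm G (7 * (11 * 32897107))) = kc ⊤ (Tm G (5 * (7 * (11 * 32897107)))) + 9 := by
  have h2 : ¬ 5 ^ 2 ∣ Nat.card G := by rw [h.card_G]; decide
  obtain ⟨ι, Z, μ, φ, σ, ν, f, P⟩ := h.exists_pen
  have o := (P.f_ord (finRotate 5)).trans orderOf_rot
  have e1 := kc_prime (by decide) h2 o (card_norm_five o (d := (f dbl : G)) (by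
    rw [← coe_inv, ← coe_mul, ← coe_mul, ← map_inv, ← map_mul, ← map_mul, dbl_rot, map_pow, coe_pow]))
  rw [kc_step (n := 9) (by decide) (by decide) (fun g e => h2 (e.trans (orderOf_dvd_natCard g)))
    fun y hy => ?_, show kc ⊤ {y : G | orderOf y = 5} = 1 by omega]
  obtain ⟨ι, Z, μ, φ, σ, ν, f, P, e⟩ := h.exists_pen5 ((Nat.card_zpowers y).trans hy)
  have o := (P.f_ord (finRotate 5)).trans orderOf_rot
  have o' := (orderOf_coe _).symm.trans o
  have μq := P.μf (finRotate 5)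
  generalize f (finRotate 5) = q at *
  obtain ⟨-, a2, -⟩ := P.five_aux o' μq h
  let J := φ.ker ⊓ centralizer {q}
  have m : ∀ v, (⟨ι v, Z.le_normalizer (P.ι_mem v)⟩ : normalizer (Z : Set G)) ∈ J := fun v =>
    ⟨P.φZ _ (P.ι_mem v), mem_centralizer_singleton_iff.2 (Subtype.ext (P.q_comm μq v).symm)⟩
  have X : Xt (fun v => (⟨_, m v⟩ : J)) (μ.comp J.subtype) :=
    ⟨fun u v => Subtype.ext (Subtype.ext (P.add u v)),
      fun u v e => P.inj (congrArg (fun x : J => (x.1 : G)) e),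
      fun x => ⟨fun e => ((P.mem_Z _).1 ((a2 x (mem_centralizer_singleton_iff.1 x.2.2)).2 x.2.1 e)).imp
        fun _ e => Subtype.ext (Subtype.ext e), fun ⟨v, e⟩ => e ▸ P.μZ _ (P.ι_mem v)⟩,
      fun g v => Subtype.ext (Subtype.ext (P.act g v)), fun A => by
        obtain ⟨m, hm, e⟩ := P.lift5 o' μq A; exact ⟨⟨m, hm⟩, e⟩⟩
  rw [← cent_zpowers, e, cent_zpowers, kc_split (O := zpowers (q : G))
    ((normalizer (Z : Set G)).subtype.comp J.subtype)
    (Subtype.val_injective.comp Subtype.val_injective) ?_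
    ((cent_zpowers _).ge.trans (centralizer_le_normalizer _))
    (zpowers_le.2 (mem_centralizer_singleton_iff.2 rfl)) (fun a ⟨k, hk⟩ => ?_) (fun g hg => ?_)
    (fun r hr => by
      rw [Nat.card_zpowers, o]; exact (Nat.Coprime.coprime_mul_right_right hr).symm),
    X.kc_Tm (by decide) (by decide)]
  · rintro _ ⟨a, rfl⟩
    exact mem_centralizer_singleton_iff.2 (congrArg Subtype.val (mem_centralizer_singleton_iff.1 a.2.2))
  · have e1 : q ^ k = a := Subtype.ext hk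
    have e2 : φ q ^ k = 1 := by rw [← map_zpow, e1]; exact a.2.1
    rw [← orderOf_dvd_iff_zpow_eq_one, P.φ_ord o' μq, ← o', orderOf_dvd_iff_zpow_eq_one, e1] at e2
    exact Subtype.ext e2
  · have c : Commute (⟨g, P.cent5_le o' μq h hg⟩ : normalizer (Z : Set G)) q :=
      Subtype.ext (mem_centralizer_singleton_iff.1 hg)
    obtain ⟨k, hk⟩ := (a2 _ c).1
    refine ⟨⟨(q ^ k)⁻¹ * ⟨g, P.cent5_le o' μq h hg⟩, ?_, mem_centralizer_singleton_iff.2
      (Commute.mul_left (Commute.zpow_self q k).inv_left c)⟩, k, by simp⟩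
    show φ _ = 1
    rw [map_mul, map_inv, map_zpow, ← hk, inv_mul_cancel]

end JS

end CL.J4
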