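import Cfsg.Agent.SPOR.J4.KcTwo
import Cfsg.Agent.INV.SylowRel

/-!
The classes of 2-elements in the centraliser of an element of order 3.
-/

set_option autoImplicit false

namespace CL.J4.Uq

open Cfsg CL.K CL.Golay CL.MAut CL.F2M CL.Orb CL.CG Subgroup Ten

/-- an element of order 3 -/
def X3 : ℕ := 28947218077048512045329390879474862

/-- the fixed points in `V` -/
def WL : List ℕ := [0, 4526080, 462848, 4325376, 1818624, 6213632, 1888256, 5881856, 2695168, 7090176,
  3026944, 7020544, 3334144, 7860224, 3534848, 7397376, 8581120, 13099008, 8773632, 12644352,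
  10039296, 14426112, 10362880, 14364672, 11259904, 15646720, 11321344, 15323136, 11538432, 16056320,
  11993088, 15863808]

/-- a dihedral group -/
def D8 : List ℕ := [984818244535754528103549039458486304, 89147023513860308921034189289610241,
  112424983097229755092343687492459521, 402972402299446091991411648247310991,
  444144782632339860456000191644018164, 961365507626256404119956257276790816,
  379241059556315441761214649164049039, 421145428882602940531294910342735348]

/-- a Sylow subgroup of the centraliser -/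
noncomputable def TT (i : ℕ) : ℕ := mkS (lget WL (Nat.land i 31)) (lget D8 (Nat.shiftRight i 5))

/-- the representatives -/
noncomputable def KR (i : ℕ) : ℕ := TT (lget [0, 1, 32, 3, 193, 192, 36, 194, 195] i)

/-- their classes in the whole group -/
noncomputable def KG (i : ℕ) : ℕ := lget [0, 1, 1, 2, 3, 4, 5, 6, 6] i

/-- the classes of the Sylow subgroup -/
def CT : List (ℕ × ℕ × ℕ × List Stq) := [(0, 0, 16522508409317173440971312601587547755249664, []),
  (1, 1, 16522508409317173440971312601587547755249664, []),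
  (2, 2, 13352362191447530298761956184499067060563968, [(12156717864203937369716822033757362383224832, 3, 634134936313486520338360567809,
    16282287563457273674961476689792933228191744)]),
  (3, 3, 16522508409317173440971312601587547755249664, []),
  (6, 3, 16123983051552843891994904327141430338256896, []),
  (7, 2, 13352362191447530298761956184499067060563968, [(16312721618871807397322990345117456123559936, 3, 634134936313486520338360567809,
    16282287563457273674961476689792933228191744)]),
  (8, 2, 13352362191447530298761956184499067060563968, [(990439835934266964636400093155208577679360, 3, 634134936313486520338360567809,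
    16282287563457273674961476689792933228191744)]),
  (9, 3, 9912836278118831140525564181531522003632128, []),
  (22, 2, 13352362191447530298761956184499067060563968, [(2792003230510301295466510941158629749817344, 3, 634134936313486520338360567809,
    16282287563457273674961476689792933228191744)]),
  (23, 3, 15013963188836160455257279531296625702993920, []),
  (32, 2, 16522508409317173440971312601587547755249664, []),
  (33, 3, 15074579766448066946903520760805355461541888, [(7676988557290755984607978043878720078827520, 443, 693565739053933420820027148289,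
    1647423621842948790057870944412047025381376)]),
  (34, 4, 10465123472128689084561675123210022399897600, [(1160522844654807958898813110026292598677504, 3, 634134936313486520338360567809,
    16282287563457273674961476689792933228191744)]),
  (35, 5, 11568401581765314670831911823687812567060480, [(5281927541692829786504086071621153678426112, 443, 693565739053933420820027148289,
    1647423621842948790057870944412047025381376)]),
  (36, 6, 16522508409317173440971312601587547755249664, []),
  (38, 6, 11229519542276499233216479561886118477443072, []),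
  (64, 2, 11302862501076441730265774151323243214012416, []),
  (65, 3, 15074579766448066946903520760805355461541888, [(1690107569912449777064565892869307143507968, 443, 693565739053933420820027148289,
    1647423621842948790057870944412047025381376)]),
  (66, 6, 7821740105201455816438610753242545700134912, []),
  (70, 5, 11568401581765314670831911823687812567060480, [(6590067878434986525710446543445593126100992, 443, 693565739053933420820027148289,
    1647423621842948790057870944412047025381376)]),
  (71, 4, 10465123472128689084561675123210022399897600, [(1799097660843513164483469598057050543235072, 3, 634134936313486520338360567809,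
    16282287563457273674961476689792933228191744)]),
  (96, 2, 843568173018541555784821861043924709146624, []),
  (97, 3, 15074579766448066946903520760805355461541888, [(12132073395696459422452995841765393417912320, 443, 693565739053933420820027148289,
    1647423621842948790057870944412047025381376)]),
  (98, 6, 7829241727778179448937441297430919222579200, []),
  (99, 6, 12682431704995864790639536393782049568075776, []),
  (104, 4, 10465123472128689084561675123210022399897600, [(15618545396320430662829166617162078186643456, 3, 634134936313486520338360567809,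
    16282287563457273674961476689792933228191744)]),
  (105, 5, 11568401581765314670831911823687812567060480, [(11458229828507870639673655640901563484995584, 443, 693565739053933420820027148289,
    1647423621842948790057870944412047025381376)]),
  (192, 5, 16522508409317173440971312601587547755249664, []),
  (193, 4, 16522508409317173440971312601587547755249664, []),
  (194, 7, 16522508409317173440971312601587547755249664, []),
  (195, 8, 16522508409317173440971312601587547755249664, [])]

theorem X3_in : I M24 X3 := I.of_okM (by decide +kernel)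

theorem D8_in : AllI Syl2 D8 :=
  (((AllI.ofM (by decide +kernel)).cent R_2A (by decide +kernel)).sex (Cent_le _) T4
    (by decide +kernel)).tri (inf_le_left.trans (Cent_le _)) Tr2 (by decide +kernel)

theorem TT_ok {i : ℕ} (hi : i < 256) : okN (lget WL (Nat.land i 31)) = true ∧
    I Syl2 (lget D8 (Nat.shiftRight i 5)) ∧ Ok (TT i) := by
  have h1 := allLt_iff.1 (show allLt (fun k => okN (lget WL k)) 32 = true by decide +kernel)
    (Nat.land i 31) (Nat.lt_succ_of_le Nat.and_le_right)
  have h2 := D8_in _ (lget_mem (j := i >>> 5) (by rw [Nat.shiftRight_eq_div_pow]; show _ < 8; omega))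
  exact ⟨h1, h2, Ok.mkS h1 (h2.mono Syl2_le)⟩

theorem KR_lt {i : ℕ} (hi : i < 9) : ∃ j < 256, KR i = TT j :=
  ⟨_, (by decide +kernel : ∀ i < 9, lget [0, 1, 32, 3, 193, 192, 36, 194, 195] i < 256) i hi, rfl⟩

theorem KR_ok {i : ℕ} (hi : i < 9) : Ok (KR i) := by
  obtain ⟨j, hj, e⟩ := KR_lt hi
  exact e ▸ (TT_ok hj).2.2

theorem chk1 : allN (fun i => cjB (TT i) (ch X3) (ch X3)) 256 = true := by decide +kernel

theorem chk2 : injB (fun i => syn (sn (TT i)) + 4096 * comp24 (sp (TT i)) one24)
    (fld 8 255 0x1d1f191b151711131e1c1a18161412100d0f090b050701030e0c0a0806040200bdbfb9bbb5b7b1b3bebcbab8b6b4b2b0adafa9aba5a7a1a3aeacaaa8a6a4a2a09d9f999b959791939e9c9a98969492908d8f898b858781838e8c8a8886848280fdfff9fbf5f7f1f3fefcfaf8f6f4f2f0edefe9ebe5e7e1e3eeeceae8e6e4e2e07d7f797b757771737e7c7a78767472706d6f696b656761636e6c6a6866646260dddfd9dbd5d7d1d3dedcdad8d6d4d2d0cdcfc9cbc5c7c1c3cecccac8c6c4c2c05d5f595b555751535e5c5a58565452504d4f494b454741434e4c4a48464442403d3f393b353731333e3c3a38363432302d2f292b252721232e2c2a2826242220)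 256 = true := by decide +kernel

theorem chk3 : allN (fun i => force (fld 8 255 0x1b1c1e1d1d1e1c1b1c1b1d1e1e1d1b1c1c1b1d1e1e1d1b1c1b1c1e1d1d1e1c1b1b1c1d1e1e1d1c1b1c1b1e1d1d1e1b1c1c1b1e1d1d1e1b1c1b1c1d1e1e1d1c1b0a0b0e0e0c0d0f0f0a0b0e0e0c0d0f0f0f0f0d0c0e0e0b0a0f0f0d0c0e0e0b0a1a19181718171516161517181718191a1516181718171a19191a1718171816151a19171817181a1916151817181716151a19171817181a19161518171817161510111212121213141110121212121413131412121212101114131212121211100b0a0d0c0e0e0f0f0a0b0c0d0e0e0f0f0f0f0e0e0c0d0a0b0f0f0e0e0d0c0b0a0706030202030405090802030203050404050302020307060504030203020100 i) fun a =>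
    Nat.blt a 31 && cjB (TT (fld 8 255 0x262620202c2c2a2a28282e2e222224242222242428282e2e2c2c2a2a262620200e0e0e0e0404040408080808020202020c0c0c0c060606060a0a0a0a00000000666666826666668462626286626262808664646480646464826060608460606026262020a4a422222626a0a0242422222424a2a22626202024242222a6a62020080848484a4a0a0a080808080a0a0a0a020242424040000002020202000000000404042064c2040406062206c0660606020262c4022602020000c660240000000202020240024602040404040446044006420644060606064400420000000000606020208080a0a00000a0a0c0c040402020e0e0404000000000606000000000 i))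
      (TT (lget (CT.map Prod.fst) a)) (TT i)) 256 = true := by decide +kernel

theorem chk4 : lall (fun c => Nat.blt c.1 256 && Nat.blt c.2.1 9 &&
    chain (KR c.2.1) (ch X3) c.2.2.1 c.2.2.2 (TT c.1) (ch X3)) CT = true := by decide +kernel

theorem chk5 {i : ℕ} (hi : i < 9) : ∃ c L, chain (lget GR (KG i)) (ch one24) c L (KR i) (ch one24) = true := by
  have := lall_iff.1 (show lall (fun c : ℕ × ℕ × List Stq => chain (lget GR (KG c.1)) (ch one24) c.2.1 c.2.2
    (KR c.1) (ch one24)) [(0, 16522508409317173440971312601587547755249664, []),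
  (1, 1459539891816237962147315552228613623504896, [(10939506530887420815483036735536026768900096, 369, 678703206207029868958993876993,
    472548905292244073781519897566787653816320)]),
  (2, 349493963798300509544817501940534141255680, []),
  (3, 16233916835354304619725479672492665790758912, [(7340245603151617092588304836883520281378816, 49, 634134936313486520338360567809,
    16501209337419579502540880413508438718701568)]),
  (4, 3209358899461454947306590120519297580666880, [(1623594365284026437089641943953053038170112, 800, 673787731537962783514235504641,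
    3901267261841715193383303244331448984780800)]),
  (5, 1026005656216312978423583452031629119193088, []),
  (6, 7955338142525645317862633659791413755166720, [(14925203367423289931445364075940115754274816, 579, 639127820023164177044316620801,
    12100897905137127197032375624061142575845376)]),
  (7, 11164062139960064934123080592814895948066816, []),
  (8, 14358799587024564769974727472993396723884032, [])] = true by decide +kernel)
  simp only [List.forall_mem_cons] at this
  obtain ⟨h0, h1, h2, h3, h4, h5, h6, h7, h8, -⟩ := this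
  interval_cases i
  exacts [⟨_, _, h0⟩, ⟨_, _, h1⟩, ⟨_, _, h2⟩, ⟨_, _, h3⟩, ⟨_, _, h4⟩, ⟨_, _, h5⟩, ⟨_, _, h6⟩, ⟨_, _, h7⟩,
    ⟨_, _, h8⟩]

theorem chk6 : allLt (fun i => Nat.blt i 2 || force (lget [0, 0, 2, 32, 2, 2, 2, 2, 2] i) fun j =>
    Nat.blt j 256 && !cjB (TT j) (KR i) (KR i)) 9 = true := by decide +kernel

theorem chk7 : allN (fun i => force (TT i) fun a => force (mu a a) fun b => eqS (mu b b) (ch one24) ||
    force (mu a (KR 1)) fun d => allN (fun j => !cjB (TT j) a d) 256) 256 = true := by decide +kernel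

variable {G : Type*} [Group G] {z : G} {V : Subgroup G} {θ : Finset GolayPt → G} {χ₀ χ : M24 →* G}

theorem exists_two_conj [Finite G] {c u w : G} (h1 : c * w = w * c) (h2 : w * w = 1)
    (h3 : c * u * c⁻¹ = u * w) : ∃ m : ℕ, IsPGroup 2 (zpowers (c ^ m)) ∧ c ^ m * u * (c ^ m)⁻¹ = u * w := by
  obtain ⟨a, m, hm, e⟩ := Nat.exists_eq_two_pow_mul_odd (orderOf_pos c).ne'
  have h4 : ∀ n : ℕ, c ^ n * u * (c ^ n)⁻¹ = u * w ^ n := fun n => by
    induction n with
    | zero => simp
    | succ n ih => rw [pow_succ', conj_mul_conj, ih, ← conj_mul, h3, mul_inv_eq_iff_eq_mul.2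
        (Commute.pow_right h1 n).eq, pow_succ', mul_assoc]
  obtain ⟨k, rfl⟩ := hm
  refine ⟨2 * k + 1, IsPGroup.of_card (n := a) ?_, by rw [h4, pow_succ, pow_mul, pow_two, h2, one_pow, one_mul]⟩
  rw [Nat.card_zpowers, orderOf_pow_of_dvd (by omega) (e ▸ dvd_mul_left _ _), e,
    Nat.mul_div_cancel _ (by omega)]

namespace Cx

variable {B : Subgroup G} {t : G} (h : Cx z V θ χ₀ χ B t)
include h

theorem cjB_of {c a b : ℕ} (hc : Ok c) (ha : Ok a) (hb : Ok b)
    (e : evS θ χ c * evS θ χ a = evS θ χ b * evS θ χ c) : cjB c a b = true := by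
  rw [← h.mw.evS_mu hc ha, ← h.mw.evS_mu hb hc] at e
  obtain ⟨e1, e2⟩ := h.evS_inj (hc.mu ha) (hb.mu hc) e
  rw [cjB, eqS, force_eq, force_eq, e1, Nat.beq_refl, Bool.true_and, Nat.beq_eq]
  rw [mu_eq, mu_eq, sp_mkS (okN_iff.1 (okN_xor hc.1 (okN_img hc.2 ha.1))).1,
    sp_mkS (okN_iff.1 (okN_xor hb.1 (okN_img hb.2 hc.1))).1] at e2 ⊢
  rw [R.comp24_eq_iff hc.2.rep ha.2.rep hb.2.rep hc.2.rep]
  simpa using (R.comp24_eq_iff (R.mul hc.2.rep ha.2.rep) R.one (R.mul hb.2.rep hc.2.rep) R.one).1 e2

theorem TT_mem {i : ℕ} (hi : i < 256) : evS θ χ (TT i) ∈ centralizer {χ (toM X3)} :=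
  mem_centralizer_singleton_iff.2 (mul_inv_eq_iff_eq_mul.1 (h.mw.evS_ch X3 ▸
    h.mw.cj (TT_ok hi).2.2 (Ok.ch X3_in) (Ok.ch X3_in) (allN_spec chk1 i hi)))

variable [Finite G] (hc : Nat.card (centralizer {χ (toM X3)}) = 6 * 443520)
include hc

theorem exists_TT : (∀ i < 256, IsPGroup 2 (zpowers (evS θ χ (TT i)))) ∧
    ∀ Q : Subgroup G, IsPGroup 2 Q → Q ≤ centralizer {χ (toM X3)} → ∃ g ∈ centralizer {χ (toM X3)},
      ∀ y ∈ Q, ∃ i < 256, g * y * g⁻¹ = evS θ χ (TT i) := by
  have : Fact (Nat.Prime 2) := ⟨Nat.prime_two⟩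
  let T := ((Syl2.subgroupOf M24).map χ ⊔ V) ⊓ centralizer {χ (toM X3)}
  have h1 : IsPGroup 2 T := (IsPGroup.to_sup_of_normal_right' ((IsPGroup.of_card (n := 10) (by
    rw [Nat.card_congr (subgroupOfEquivOfLe Syl2_le).toEquiv, card_Syl2]; rfl)).map χ)
    (IsPGroup.of_card h.ms.card_V) (by rintro _ ⟨g, -, rfl⟩; exact h.mem_N g)).to_inf_left
  have h2 : ∀ i < 256, evS θ χ (TT i) ∈ T := fun i hi => ⟨by
    obtain ⟨e1, e2, -⟩ := TT_ok hi
    rw [TT, evS_mkS e1]
    exact mul_mem (mem_sup_right (h.ms.θ_mem (okN_iff.1 e1).2)) (mem_sup_left ⟨_, by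
      show (toM _ : Pm) ∈ Syl2
      rw [coe_toM (e2.mono Syl2_le)]; exact e2.permOf_mem, rfl⟩), h.TT_mem hi⟩
  let F : Fin 256 → T := fun i => ⟨_, h2 i i.2⟩
  have h3 : Function.Injective F := fun i j e => Fin.ext (injB_spec chk2 i i.2 j j.2 (by
    obtain ⟨e1, e2⟩ := h.evS_inj (TT_ok i.2).2.2 (TT_ok j.2).2.2 (congrArg Subtype.val e)
    rw [e1, e2]))
  have h4 := Nat.card_le_card_of_injective F h3
  obtain ⟨n, hn⟩ := h1.exists_card_eq
  have h5 : T.relIndex (centralizer {χ (toM X3)}) * Nat.card T = Nat.card (centralizer {χ (toM X3)}) := by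
    rw [← Nat.card_congr (subgroupOfEquivOfLe (show T ≤ _ from inf_le_right)).toEquiv]
    exact index_mul_card _
  rw [Nat.card_eq_fintype_card, Fintype.card_fin, hn] at h4
  obtain rfl : n = 8 := by
    refine le_antisymm (not_lt.1 fun e => ?_) ((Nat.pow_le_pow_iff_right one_lt_two).1 h4)
    exact absurd ((pow_dvd_pow 2 e).trans (hn ▸ hc ▸ card_dvd_of_le inf_le_right)) (by decide)
  refine ⟨fun i hi => h1.to_le (zpowers_le.2 (h2 i hi)), fun Q q1 q2 => ?_⟩
  obtain ⟨g, g1, g2⟩ := SylowRel.exists_conj_mem_of_not_dvd_relIndex h1 (by rw [hc, hn] at h5; omega) q1 q2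
  refine ⟨g, g1, fun y hy => ?_⟩
  obtain ⟨i, e⟩ := ((Nat.bijective_iff_injective_and_card F).2 ⟨h3, by rw [hn]; simp⟩).2 ⟨_, g2 y hy⟩
  exact ⟨i, i.2, (congrArg Subtype.val e).symm⟩

theorem three_cover {y : G} (h1 : IsPGroup 2 (zpowers y)) (h2 : y ∈ centralizer {χ (toM X3)}) :
    ∃ i < 9, Cj (centralizer {χ (toM X3)}) (evS θ χ (KR i)) y := by
  obtain ⟨g, g1, g2⟩ := (h.exists_TT hc).2 _ h1 (zpowers_le.2 h2)
  obtain ⟨i, hi, e⟩ := g2 y (mem_zpowers y)
  have e1 := allN_spec chk3 i hi
  rw [force_eq, Bool.and_eq_true, Nat.blt_eq] at e1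
  obtain ⟨c, c1, e2⟩ := List.mem_map.1 (lget_mem (L := CT.map Prod.fst) e1.1)
  have e3 := lall_iff.1 chk4 c c1
  simp only [Bool.and_eq_true, Nat.blt_eq] at e3
  obtain ⟨k, k1, k2⟩ := h.chain_spec (KR_ok e3.1.2) (Ok.ch X3_in) (TT_ok e3.1.1).2.2 (Ok.ch X3_in) e3.2
  rw [h.mw.evS_ch, mul_inv_eq_iff_eq_mul] at k2
  have l : ∀ P i, fld 8 255 P i < 256 := fun _ _ => Nat.lt_succ_of_le Nat.and_le_right
  exact ⟨_, e3.1.2, (Cj.symm ⟨k, mem_centralizer_singleton_iff.2 k2, k1⟩).trans
    (Cj.trans ⟨_, h.TT_mem (l _ _), h.mw.cj (TT_ok (l _ _)).2.2 (TT_ok e3.1.1).2.2 (TT_ok hi).2.2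
      (e2 ▸ e1.2)⟩ (Cj.symm ⟨g, g1, e⟩))⟩

theorem kc_three {m : ℕ} (hm : Nat.Coprime 2 m) (h2 : ∀ g ∈ Tm G m, IsPGroup 2 (zpowers g))
    (h3 : ∃ w, orderOf w = 2 ∧ centralizer {χ (toM X3)} ≤ centralizer {w})
    (h4 : ∀ i < 10, ∀ j < 10, IsConj (evS θ χ (lget GR i)) (evS θ χ (lget GR j)) → i = j) :
    kc (centralizer {χ (toM X3)}) ((centralizer {χ (toM X3)} : Set G) ∩ Tm G m) = 9 := by
  have : Fact (Nat.Prime 2) := ⟨Nat.prime_two⟩
  have k1 : ∀ i < 9, evS θ χ (KR i) ∈ centralizer {χ (toM X3)} ∧ IsPGroup 2 (zpowers (evS θ χ (KR i))) :=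
    fun i hi => by
      obtain ⟨j, hj, e⟩ := KR_lt hi
      exact e ▸ ⟨h.TT_mem hj, (h.exists_TT hc).1 j hj⟩
  have k2 : ∀ i < 9, centralizer {χ (toM X3)} ≤ centralizer {evS θ χ (KR i)} → i < 2 := fun i hi e => by
    have := allLt_iff.1 chk6 i hi
    simp only [force_eq, Bool.or_eq_true, Bool.and_eq_true, Nat.blt_eq] at this
    refine this.resolve_right fun e1 => ?_
    rw [h.cjB_of (TT_ok e1.1).2.2 (KR_ok hi) (KR_ok hi)
      (mem_centralizer_singleton_iff.1 (e (h.TT_mem e1.1)))] at e1
    exact absurd e1.2 (by decide)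
  have k3 : ∀ {w y}, centralizer {χ (toM X3)} ≤ centralizer {w} → Cj (centralizer {χ (toM X3)}) w y →
      y = w := by
    rintro w _ e ⟨n, hn, rfl⟩
    exact mul_inv_eq_iff_eq_mul.2 (mem_centralizer_singleton_iff.1 (e hn))
  obtain ⟨w, w1, w2⟩ := h3
  obtain rfl : w = evS θ χ (KR 1) := by
    obtain ⟨i, hi, e⟩ := h.three_cover hc (y := w)
      (IsPGroup.of_card (n := 1) ((Nat.card_zpowers w).trans w1)) (mem_centralizer_singleton_iff.2
        (mem_centralizer_singleton_iff.1 (w2 (mem_centralizer_singleton_iff.2 rfl))).symm)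
    have e1 := k3 w2 e.symm
    have := k2 i hi (e1 ▸ w2)
    interval_cases i
    · rw [← e1, h.mw.evS_one (KR_ok hi) (by decide +kernel), orderOf_one] at w1
      exact absurd w1 (by decide)
    · exact e1.symm
  have k4 : ¬ Cj (centralizer {χ (toM X3)}) (evS θ χ (KR 7)) (evS θ χ (KR 8)) := by
    have o1 := KR_ok (i := 1) (by decide)
    have o7 := KR_ok (i := 7) (by decide)
    rw [h.mw.evS_eq (KR_ok (i := 8) (by decide)) (o7.mu o1) (by decide +kernel), h.mw.evS_mu o7 o1]
    rintro ⟨c, c1, c2⟩
    have m7 := (k1 7 (by decide)).1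
    have m1 := (k1 1 (by decide)).1
    obtain ⟨n, n1, n2⟩ := exists_two_conj (mem_centralizer_singleton_iff.1 (w2 c1))
      (Inv.mul_self_of_orderOf_two w1) c2
    have c3 := pow_mem c1 n
    generalize c ^ n = c at n1 n2 c3
    have q : zpowers (evS θ χ (KR 7)) ⊔ zpowers (evS θ χ (KR 1)) ≤ comap (MulAut.conj c).toMonoidHom
        (zpowers (evS θ χ (KR 7)) ⊔ zpowers (evS θ χ (KR 1))) := by
      refine sup_le (zpowers_le.2 ?_) (zpowers_le.2 ?_)
      · rw [mem_comap, MulEquiv.coe_toMonoidHom, MulAut.conj_apply, n2]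
        exact mul_mem (mem_sup_left (mem_zpowers _)) (mem_sup_right (mem_zpowers _))
      · rw [mem_comap, MulEquiv.coe_toMonoidHom, MulAut.conj_apply, k3 w2 ⟨c, c3, rfl⟩]
        exact mem_sup_right (mem_zpowers _)
    have p := IsPGroup.to_sup_of_normal_right' n1 (IsPGroup.to_sup_of_normal_right' (k1 7 (by decide)).2
      (k1 1 (by decide)).2 (zpowers_le.2 (centralizer_le_normalizer _ ((cent_zpowers _).ge (w2 m7)))))
      (zpowers_le.2 (mem_normalizer_fintype fun x hx => q hx))
    · obtain ⟨g, g1, g2⟩ := (h.exists_TT hc).2 _ p (sup_le (zpowers_le.2 c3)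
        (sup_le (zpowers_le.2 m7) (zpowers_le.2 m1)))
      obtain ⟨j, hj, e1⟩ := g2 c (mem_sup_left (mem_zpowers _))
      obtain ⟨i, hi, e2⟩ := g2 _ (mem_sup_right (mem_sup_left (mem_zpowers _)))
      have oi := (TT_ok hi).2.2
      have := allN_spec chk7 i hi
      rw [force_eq, force_eq, force_eq, Bool.or_eq_true] at this
      rcases this with e | e
      · have e3 := h.mw.evS_one ((oi.mu oi).mu (oi.mu oi)) e
        rw [h.mw.evS_mu (oi.mu oi) (oi.mu oi), h.mw.evS_mu oi oi, ← e2, conj_mul, conj_mul,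
          conj_eq_one_iff, ← h.mw.evS_mu o7 o7] at e3
        exact absurd (h.cjB_of ok_one ((o7.mu o7).mu (o7.mu o7)) ok_one (by
          rw [h.mw.evS_mu (o7.mu o7) (o7.mu o7), e3, mul_one, h.mw.evS_one ok_one (by decide +kernel),
            mul_one])) (by decide +kernel)
      · have e3 := allN_spec e j hj
        rw [h.cjB_of (TT_ok hj).2.2 oi (oi.mu o1) (by
          rw [h.mw.evS_mu oi o1, ← e1, ← e2, ← k3 w2 ⟨g, g1, rfl⟩, conj_mul, conj_mul, conj_mul, ← n2,
            inv_mul_cancel_right])] at e3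
        exact absurd e3 (by decide)
  have k5 : ∀ i < 9, KG i < 10 ∧ IsConj (evS θ χ (lget GR (KG i))) (evS θ χ (KR i)) := fun i hi => by
    obtain ⟨c, L, e⟩ := chk5 hi
    have := (by decide +kernel : ∀ i < 9, KG i < 10) i hi
    exact ⟨this, h.isConj_of_chain this (KR_ok hi) e⟩
  refine kc_eq_of_reps (fun i : Fin 9 => evS θ χ (KR i)) (fun i => ⟨(k1 i i.2).1, ?_⟩)
    (fun i j e => Fin.ext ?_) fun g hg => ?_
  · obtain ⟨n, hn⟩ := (k1 i i.2).2.exists_card_eq
    rw [Tm, Set.mem_ofPred_eq, ← Nat.card_zpowers, hn]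
    exact hm.pow_left n
  · rcases (by decide +kernel : ∀ i j : Fin 9, KG i.1 = KG j.1 → i.1 = j.1 ∨ (i.1 = 1 ∧ j.1 = 2) ∨
      (i.1 = 2 ∧ j.1 = 1) ∨ (i.1 = 7 ∧ j.1 = 8) ∨ (i.1 = 8 ∧ j.1 = 7)) i j (h4 _ (k5 i i.2).1 _ (k5 j j.2).1
        (((k5 i i.2).2.trans e.isConj).trans (k5 j j.2).2.symm)) with e1 | e1 | e1 | e1 | e1
    · exact e1
    all_goals rw [e1.1, e1.2] at e
    · exact absurd (k2 2 (by decide) (k3 w2 e ▸ w2)) (by decide)
    · exact absurd (k2 2 (by decide) (k3 w2 e.symm ▸ w2)) (by decide)
    · exact absurd e k4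
    · exact absurd e.symm k4
  · obtain ⟨i, hi, e⟩ := h.three_cover hc (h2 g hg.2) hg.1
    exact ⟨⟨i, hi⟩, e⟩

end Cx

end CL.J4.Uq
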