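import Cfsg.Agent.SPOR.J4.MxTen

/-!
The normaliser of a Sylow 11-subgroup is maximal.
-/

set_option autoImplicit false

namespace CL.J4.Mx

open Cfsg Subgroup CL.Orb CL.Tr CL.LX
open scoped commutatorElement

variable {G : Type*} [Group G] [Finite G]

theorem half {V : Subgroup G} (hc : ∀ a ∈ V, ∀ b ∈ V, a * b = b * a) (hi : ∀ a ∈ V, a⁻¹ = a) {w : G}
    (hw : w ∈ normalizer (V : Set G)) (h2 : w * w = 1) : Nat.card V ≤
      Nat.card (V ⊓ centralizer {w} : Subgroup G) * Nat.card (V ⊓ centralizer {w} : Subgroup G) := by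
  have hn := fun a ha => conj_mem_of_mem_normalizer (x := a) hw ha
  let f : V →* G := MonoidHom.mk' (fun a => w * a * w⁻¹ * a) fun a b => by
    rw [coe_mul, conj_mul.symm, mul_assoc (w * a * w⁻¹) (a : G), ← mul_assoc (a : G) (w * b * w⁻¹),
      hc a a.2 _ (hn b b.2)]
    simp only [mul_assoc]
  have h9 : Nat.card f.ker = Nat.card (V ⊓ centralizer {w} : Subgroup G) := by
    rw [inf_comm, ← card_subgroupOf_eq]
    congr 2
    ext a
    rw [MonoidHom.mem_ker, mem_subgroupOf, mem_centralizer_singleton_iff]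
    exact mul_eq_one_iff_eq_inv.trans (by rw [hi a a.2, mul_inv_eq_iff_eq_mul, eq_comm])
  rw [← card_range_mul_ker f, h9]
  refine Nat.mul_le_mul_right _ (card_le_of_le ?_)
  rintro _ ⟨a, rfl⟩
  refine ⟨mul_mem (hn a a.2) a.2, mem_centralizer_singleton_iff.2 ?_⟩
  show w * a * w⁻¹ * a * w = w * (w * a * w⁻¹ * a)
  conv_rhs => rw [hc _ (hn a a.2) a a.2]
  rw [inv_eq_of_mul_eq_one_left h2]
  simp only [mul_assoc]

omit [Finite G] in
theorem coatom_cj {X : Subgroup G} (h : IsCoatom X) (a : G) : IsCoatom (cj a X) :=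
  ((MulAut.conj a).mapSubgroup.isCoatom_iff X).2 h

namespace GD

variable {z c : G} {Q U : Subgroup G} (g : GD z Q c U)
include g

theorem big3 {T : Subgroup G} (hT : IsPGroup 2 T) (h : Nat.card T = 2 ^ 19) {y : G} (hy : y ∈ T)
    (h1 : y * y = z) : 64 < Nat.card (centralizer {z} ⊓ T : Subgroup G) := by
  obtain ⟨V, h3, h4, h5, h6⟩ := g.vee T hT
  have h7 := card_sup_mul_card_inf_of_le_normalizer h3
  obtain ⟨i, hi⟩ := h6.exists_card_eq
  have h8 : 2 ^ i ≤ 2 ^ 21 := Nat.pow_le_pow_right two_pos (not_lt.1 fun k => absurd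
    ((pow_dvd_pow 2 k).trans (hi ▸ g.card ▸ card_subgroup_dvd_card (T ⊔ V))) (by decide))
  have h9 := h7.ge.trans (Nat.mul_le_mul_right _ (hi ▸ h8))
  rw [h, h5] at h9
  have hc : ∀ a ∈ V, ∀ b ∈ V, a * b = b * a := fun a ha b hb =>
    congrArg Subtype.val (h4.1.1.1 ⟨a, ha⟩ ⟨b, hb⟩)
  by_cases hV : z ∈ V
  · exact lt_of_lt_of_le (by omega) (card_le_of_le (H := T ⊓ V) (le_inf
      (fun a ha => mem_centralizer_singleton_iff.2 (hc a ha.2 z hV)) inf_le_left))
  have n1 : T ≤ normalizer (T ⊓ V : Subgroup G) := le_normalizer_inf le_normalizer h3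
  have h10 := half (V := T ⊓ V) (fun a ha b hb => hc a ha.2 b hb.2) (fun a ha =>
    inv_eq_of_mul_eq_one_left (by rw [← sq, h4.2 a ha.2])) (n1 (h1 ▸ mul_mem hy hy)) g.z_sq
  have yz : y ∈ centralizer {z} := mem_centralizer_singleton_iff.2 (by rw [← h1, mul_assoc])
  have oy : orderOf y = 2 ^ (1 + 1) := orderOf_eq_prime_pow (by rw [pow_one, sq, h1]; exact g.z_ne)
    (by rw [pow_succ, pow_mul, pow_one, sq, sq, h1, g.z_sq])
  have h11 := card_sup_of_disjoint (H := zpowers y) (K := T ⊓ V ⊓ centralizer {z})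
    (zpowers_le.2 (le_normalizer_inf (A := zpowers y) (zpowers_le.2 (n1 hy))
      (le_trans (zpowers_le.2 yz) le_normalizer) (mem_zpowers y))) (eq_bot_iff.2 fun x hx => by
        classical
        obtain ⟨n, hn, rfl⟩ := Finset.mem_image.1 (mem_zpowers_iff_mem_range_orderOf.1 hx.1)
        have k := h4.2 _ hx.2.1.2
        rw [← pow_mul, ← orderOf_dvd_iff_pow_eq_one, oy] at k
        rw [Finset.mem_range, oy] at hn
        obtain rfl | rfl : n = 0 ∨ n = 2 := by omega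
        exacts [pow_zero y, absurd (h1 ▸ sq y ▸ hx.2.1.2) hV])
  have h12 := card_le_of_le (sup_le (zpowers_le.2 ⟨yz, hy⟩) (le_inf inf_le_right
    (inf_le_left.trans inf_le_left)) : zpowers y ⊔ T ⊓ V ⊓ centralizer {z} ≤ centralizer {z} ⊓ T)
  rw [h11, Nat.card_zpowers, oy] at h12
  by_contra k
  have := Nat.mul_le_mul (show Nat.card (T ⊓ V ⊓ centralizer {z} : Subgroup G) ≤ 16 by omega)
    (show Nat.card (T ⊓ V ⊓ centralizer {z} : Subgroup G) ≤ 16 by omega)
  omega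

theorem elf' {K : Subgroup G} (hX : normalizer (zpowers c : Set G) ≤ K) :
    Nat.card K ≠ 1331 * 240 * 688128 := fun h => by
  have hC : centralizer {c} ≤ normalizer (zpowers c : Set G) :=
    cent_zpowers c ▸ centralizer_le_normalizer _
  have hQ : Q ⊓ centralizer {c} ≤ K := inf_le_right.trans (hC.trans hX)
  have hz : z ∈ Q ⊓ centralizer {c} := ⟨g.z_mem, mem_centralizer_singleton_iff.2 g.cz.symm⟩
  have nY : centralizer {z} ⊓ K ≤ normalizer (Q ⊓ K : Subgroup G) :=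
    le_normalizer_inf (inf_le_left.trans g.Hn) (inf_le_right.trans le_normalizer)
  have hU : U ≤ K := g.Ule.trans (hC.trans hX)
  have hc : c ∈ centralizer {z} ⊓ K := ⟨mem_centralizer_singleton_iff.2 g.cz, hU g.cm⟩
  have l1 : Q ⊓ K ≤ centralizer {z} ⊓ K := inf_le_inf_right _ fun a ha =>
    mem_centralizer_singleton_iff.2 (g.z_comm a ha)
  have h1 : Q ⊓ K ⊓ centralizer {c} = Q ⊓ centralizer {c} := by
    rw [inf_right_comm, inf_eq_left.2 hQ]
  obtain ⟨T0, t1, t2, t3, t4⟩ := exists_sylowIn_ge (g.pQ.to_inf_left (K := K)) l1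
  obtain ⟨T, s1, s2, s3, s4⟩ := exists_sylowIn_ge t3 (t2.trans inf_le_right)
  have s5 : Nat.card T = 2 ^ 19 := card_two s3 s4 ((card_mul_relIndex_of_le s2).trans
    (h.trans (show _ = 2 ^ 19 * 419265 by decide))) (by decide)
  have s6 : centralizer {z} ⊓ T ≤ T0 := le_sup_right.trans (le_of_sylowIn_le t4
    (s3.to_le (sup_le s1 inf_le_right)) le_sup_left (sup_le t2 (inf_le_inf_left _ s2)))
  rcases g.card_Y inf_le_left (nY hc) (k := 3) (h1 ▸ g.Q8) (Or.inr rfl) with h2 | h2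
  · rw [inf_eq_left.2 h2] at h1
    have : ((Q ⊓ K).subgroupOf T0).Normal := normal_subgroupOf_of_le_normalizer (t2.trans nY)
    have := t3.isNilpotent
    obtain ⟨y, y1, y2, y3⟩ := Cfsg.Agent.S0015.exists_mem_not_mem_commutator_mem
      ((zpowers z).subgroupOf T0) ((Q ⊓ K).subgroupOf T0) fun e => g.not_le (Y := Q ⊓ K)
        (by rw [h1, g.Q8]; decide) fun a ha => e (show (⟨a, t1 ha⟩ : T0) ∈ _ from ha)
    have h3 := g.stab y y1.1 (g.sq_z (h1.le y1) y2) T0 (t2.trans inf_le_left) fun a ha => by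
      have := inv_mem (y3 ⟨a, ha⟩)
      rw [commutatorElement_inv, mem_subgroupOf, g.mem_zpowers_iff] at this
      refine this.imp (fun e => mul_inv_eq_one.1 e) fun e => ?_
      rw [g.z_comm y y1.1]
      exact mul_inv_eq_iff_eq_mul.1 e
    rw [show T0 ⊓ Q = Q ⊓ K from le_antisymm (le_inf inf_le_right (inf_le_left.trans
      (t2.trans inf_le_right))) (le_inf t1 inf_le_left), h1, g.Q8] at h3
    have h4 := (g.big3 s3 s5 (s1 y.2) (g.sq_z (h1.le y1) y2)).trans_le (card_le_of_le s6)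
    have h5 : Nat.card T0 ∣ 64 :=
      (Nat.dvd_gcd h3 (s5 ▸ card_dvd_of_le s1 : Nat.card T0 ∣ 2 ^ 19)).trans (by decide)
    exact absurd (Nat.le_of_dvd (by decide) h5) (by omega)
  have h3 : Q ≤ K := inf_eq_left.1 (eq_of_le_of_card_ge inf_le_left (by rw [h2, g.cQ]))
  have h4 : T ≤ T0 := by
    by_contra e
    obtain ⟨a, ha, ha'⟩ := SetLike.exists_of_lt (lt_inf_normalizer_of_lt s3 (lt_of_le_not_ge s1 e))
    refine ha' (s6 ⟨mem_centralizer_singleton_iff.2 (mul_inv_eq_iff_eq_mul.1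
      ((g.self_cent _ fun q hq => ?_).resolve_left fun e => g.z_ne (conj_eq_one_iff.1 e))), ha.1⟩)
    have := mem_centralizer_singleton_iff.1 (t2 (inv_conj_mem_of_mem_normalizer ha.2
      (t1 ⟨hq, h3 hq⟩))).1
    rw [← comm_conj_iff (g := a), show a * (a⁻¹ * q * a) * a⁻¹ = q by group] at this
    exact this.symm
  have h5 : Nat.card (normalizer (zpowers c : Set G) ⊓ (centralizer {z} ⊓ K) : Subgroup G) = 2640 := by
    rw [inf_left_comm, inf_eq_left.2 hX, g.cN]
  have h6 := g.cH ▸ card_dvd_of_le (inf_le_left : centralizer {z} ⊓ K ≤ _)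
  have h7 := cnt_mod (by decide) (fun e => absurd (e.trans h6) (by decide)) hc g.oc
  obtain ⟨n, hn⟩ : 2 ^ 19 * 165 ∣ Nat.card (centralizer {z} ⊓ K : Subgroup G) :=
    Nat.Coprime.mul_dvd_of_dvd_of_dvd (by decide) (s5 ▸ card_dvd_of_le (h4.trans t2))
      (Dvd.dvd.trans (by decide) (h5 ▸ card_dvd_of_le inf_le_right))
  have h8 : Nat.card (centralizer {z} ⊓ K : Subgroup G) ∣ 2 ^ 19 * 165 * 21 :=
    (Nat.dvd_gcd h6 (h ▸ card_dvd_of_le inf_le_right)).trans (by decide)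
  rw [h5, hn] at h7
  obtain rfl : n = 21 := (by decide +kernel : ∀ n ∈ Nat.divisors 21,
    2 ^ 19 * 165 * n / 2640 % 11 = 1 → n = 21) n (Nat.mem_divisors.2
      ⟨Nat.dvd_of_mul_dvd_mul_left (by decide) (hn ▸ h8), by decide⟩) h7
  have h9 := card_eq_orbit_mul K z
  have h10 := card_eq_orbit_mul U z
  have h11 : Nat.card (U ⊓ centralizer {z} : Subgroup G) ≤ 11 := Nat.le_of_dvd (by decide)
    ((Nat.dvd_gcd (g.cU ▸ card_dvd_of_le inf_le_left) (g.cH ▸ card_dvd_of_le inf_le_right)).trans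
      (by decide))
  rw [inf_comm, h, hn] at h9
  have h12 := Set.eq_of_subset_of_ncard_le (show {v | ∃ n ∈ U, n * z * n⁻¹ = v} ⊆
    {v | ∃ n ∈ K, n * z * n⁻¹ = v} from fun _ ⟨a, ha, e⟩ => ⟨a, hU ha, e⟩) (by
      have := g.cU ▸ h10.trans_le (Nat.mul_le_mul_left _ h11)
      omega)
  obtain ⟨u, hu, hu'⟩ := SetLike.not_le_iff_exists.1 fun e : U ≤ centralizer {z} => by
    rw [inf_eq_left.2 e, g.cU] at h11
    omega
  have k : ∀ u ∈ U, u * z * u⁻¹ * z⁻¹ ∈ U := fun u hu => by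
    rw [mul_assoc, mul_assoc, ← mul_assoc z]
    exact mul_mem hu (conj_mem_of_mem_normalizer (g.NU.ge (hC hz.2)) (inv_mem hu))
  refine absurd (h5 ▸ hn ▸ card_dvd_of_le (le_inf (fun d hd => g.normU (k u hu) (fun e => hu'
    (mem_centralizer_singleton_iff.2 (mul_inv_eq_iff_eq_mul.1 (mul_inv_eq_one.1 e)))) ?_) le_rfl))
    (by decide)
  obtain ⟨v, hv, e⟩ := h12.ge ⟨d * u, mul_mem hd.2 (hU hu), rfl⟩
  rw [← conj_mul, ← conj_mul_conj, ← e, ← conj_inv, mem_centralizer_singleton_iff.1 hd.1,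
    mul_inv_cancel_right]
  exact k v hv

theorem elf [Fact (Nat.Prime 11)] (S : Sylow 11 G) :
    IsCoatom (normalizer ((S : Subgroup G) : Set G)) := by
  have h0 : ¬ 11 ∣ U.index := fun e => by
    have := U.index_mul_card
    rw [g.cU, g.card, oG] at this
    omega
  obtain ⟨a, rfl⟩ := MulAction.exists_smul_eq G (g.pU.toSylow h0) S
  show IsCoatom (normalizer (cj a U : Set G))
  rw [← map_conj_normalizer, g.NU]
  refine coatom_cj (g.coatom g.cNc (by decide) (by decide) sieveU fun K hK i hi h => ?_) a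
  have hU : U ≤ K := le_normalizer.trans (g.NU.le.trans hK)
  have h1 := g.count ((g.pU.toSylow h0).subtype hU)
  rw [show (((g.pU.toSylow h0).subtype hU : Sylow 11 K) : Subgroup K) = U.subgroupOf K from rfl,
    subgroupOf_map_subtype, inf_eq_left.2 hU, g.NU,
    inf_eq_left.2 hK, g.cNc, card_subgroupOf_of_le hU, g.cU, h,
    Nat.mul_div_cancel_left _ (by decide)] at h1
  obtain rfl : i = 688128 := by
    revert h1
    fin_cases hi <;> decide
  exact g.elf' hK h

end GD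

end CL.J4.Mx
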