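import Cfsg.Agent.SPOR.J4.Red
import Cfsg.Agent.SPOR.J4.Cover

/-! From `C / N ≅ Aut(M22)` with a non-split extension to the hypotheses with the subgroup `M`. -/

set_option autoImplicit false
set_option maxRecDepth 100000
set_option linter.unusedSectionVars false
set_option linter.unusedVariables false

namespace CL.J4.Uq

open Cfsg CL.MAut CL.Golay Subgroup

theorem perfect_M22 : Spor.M22 ≤ ⁅Spor.M22, Spor.M22⁆ := by
  have := simple_M22
  rcases IsSimpleGroup.eq_bot_or_eq_top_of_normal (commutator Spor.M22) inferInstance with e | e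
  · exfalso
    have h : ∀ a b : Spor.M22, a * b = b * a := fun a b =>
      commutatorElement_eq_one_iff_mul_comm.1
        (mem_bot.1 (e ▸ commutator_mem_commutator (mem_top a) (mem_top b)))
    have h1 : ∀ a : Spor.M22, a = 1 := fun a => center_M22 (mem_center_iff.2 fun g => h g a)
    have : Subsingleton Spor.M22 := ⟨fun a b => (h1 a).trans (h1 b).symm⟩
    have := Nat.card_of_subsingleton (1 : Spor.M22)
    rw [card_M22] at this
    omega
  · have := congrArg (map Spor.M22.subtype) e
    rw [commutator_def, map_commutator, ← MonoidHom.range_eq_map, range_subtype] at this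
    exact this.ge

theorem exists_M {H : Type*} [Group H] [Finite H] {Q N : Subgroup H} [Q.Normal] [N.Normal]
    (hQN : Q ≤ N) (hN : Nat.card N = 3 * Nat.card Q)
    (hns : ∀ K : Subgroup H, K ⊓ N = Q → K ⊔ N = ⊤ → False)
    (ε : H ⧸ N ≃* MulAut Spor.M22) :
    ∃ (M : Subgroup H) (_ : M.Normal), N ≤ M ∧ M.index = 2 ∧ ⁅M, N⁆ ≤ Q ∧ M ≤ ⁅M, M⁆ ⊔ Q ∧
      (∀ c : H, (∀ m ∈ M, c * m * c⁻¹ * m⁻¹ ∈ N) → c ∈ M) ∧ Spor.IsoM22 (M ⧸ N.subgroupOf M) := by
  let μ0 : H →* Duad := (ε.trans duadEquiv.symm).toMonoidHom.comp (QuotientGroup.mk' _)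
  have hs : Function.Surjective μ0 :=
    (ε.trans duadEquiv.symm).surjective.comp (QuotientGroup.mk'_surjective _)
  let μ : H →* Pm := Duad.subtype.comp μ0
  have hμ : ∀ k, μ k = 1 ↔ k ∈ N := fun k => by
    change ((ε.trans duadEquiv.symm) (k : _ ⧸ N) : Pm) = 1 ↔ _
    rw [OneMemClass.coe_eq_one, MulEquiv.map_eq_one_iff, QuotientGroup.eq_one_iff]
  have hD : ∀ k, μ k ∈ Duad := fun k => (μ0 k).2
  have hs' : ∀ g ∈ Spor.M22, ∃ k, μ k = g := fun g hg => by
    obtain ⟨k, hk⟩ := hs ⟨g, M22_le_Duad hg⟩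
    exact ⟨k, congrArg Subtype.val hk⟩
  let M : Subgroup H := Spor.M22.comap μ
  have hn : M.Normal := ⟨fun m hm g => by
    change μ _ ∈ Spor.M22
    rw [map_mul, map_mul, map_inv]
    exact norm22 _ (hD g) _ hm⟩
  have hNM : N ≤ M := fun n hn => by
    change μ _ ∈ Spor.M22
    rw [(hμ n).2 hn]
    exact one_mem _
  have hi : M.index = 2 := by
    have h1 : M = (Spor.M22.subgroupOf Duad).comap μ0 := rfl
    have h2 := (Spor.M22.subgroupOf Duad).card_mul_index
    rw [Nat.card_congr (subgroupOfEquivOfLe M22_le_Duad).toEquiv, card_M22, card_Duad] at h2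
    rw [h1, index_comap_of_surjective _ hs]
    omega
  have hmap : M.map μ = Spor.M22 := map_comap_eq_self fun g hg => hs' g hg
  have hker : μ.ker = N := Subgroup.ext hμ
  have hp : M ≤ ⁅M, M⁆ ⊔ N := by
    rw [← hker, ← comap_map_eq, map_commutator, hmap]
    exact comap_mono perfect_M22
  have h3 : Q.relIndex N = 3 := by
    have := (Q.subgroupOf N).card_mul_index
    rw [Nat.card_congr (subgroupOfEquivOfLe hQN).toEquiv, hN, mul_comm] at this
    exact Nat.eq_of_mul_eq_mul_right Nat.card_pos this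
  have n3 : ∀ n ∈ N, n ^ 3 ∈ Q := fun n hn => by
    have := (Q.subgroupOf N).pow_index_mem ⟨n, hn⟩
    rwa [show (Q.subgroupOf N).index = 3 from h3] at this
  have hc : ⁅M, N⁆ ≤ Q := by
    let N' := N.map (QuotientGroup.mk' Q)
    have : N'.Normal := Normal.map inferInstance _ (QuotientGroup.mk'_surjective Q)
    have c3 : Nat.card N' = 3 := by
      have := (MonoidHom.domRestrict (QuotientGroup.mk' Q) N).ker.index_eq_card
      rw [index_ker, MonoidHom.domRestrict_range] at this
      rw [this, MonoidHom.ker_domRestrict, QuotientGroup.ker_mk', ← index_eq_card]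
      exact h3
    have : Fact (Nat.Prime 3) := ⟨Nat.prime_three⟩
    have cy : IsCyclic N' := isCyclic_of_prime_card c3
    let φ : H →* MulAut N' := MulAut.conjNormal.comp (QuotientGroup.mk' Q)
    have hφ : M ≤ φ.ker := by
      refine hp.trans (sup_le (commutator_le.2 fun a _ b _ => ?_) fun n hn => ?_)
      · rw [MonoidHom.mem_ker, map_commutatorElement, commutatorElement_eq_one_iff_mul_comm]
        refine (IsCyclic.mulAutMulEquiv N').injective ?_
        rw [map_mul, map_mul, mul_comm]
      · refine MulEquiv.ext fun x => Subtype.ext ?_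
        have := congrArg Subtype.val (IsCyclic.commGroup.mul_comm (⟨n, n, hn, rfl⟩ : N') x)
        exact mul_inv_eq_iff_eq_mul.2 this
    refine commutator_le.2 fun m hm n hn => (QuotientGroup.eq_one_iff _).1 ?_
    have := congrArg (fun θ : MulAut N' => ((θ ⟨n, n, hn, rfl⟩ : N') : H ⧸ Q)) (hφ hm)
    exact mul_inv_eq_one.2 this
  refine ⟨M, hn, hNM, hi, hc, ?_, fun c h => hNM ((hμ c).1 (cent22 _ (hD c) fun g hg => ?_)), ?_⟩
  · set K := ⁅M, M⁆ ⊔ Q with hK
    have KM : K ≤ M := sup_le (commutator_le_left M M) (hQN.trans hNM)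
    have hp' : M ≤ K ⊔ N := hp.trans (sup_le_sup_right le_sup_left _)
    have h4 := relIndex_mul_relIndex Q (K ⊓ N) N (le_inf le_sup_right hQN) inf_le_right
    rw [h3] at h4
    rcases (Nat.dvd_prime Nat.prime_three).1 (Dvd.intro _ h4) with e | e
    · exfalso
      have e1 : K ⊓ N ≤ Q := relIndex_eq_one.1 e
      obtain ⟨c, hc⟩ := index_eq_two_iff_exists_notMem_and.1 hi
      have c3 : c ^ 3 ∉ M := fun h => hc.1 (by
        rw [pow_succ] at h
        exact (M.mul_mem_cancel_left (M.sq_mem_of_index_two hi c)).1 h)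
      have c6 : ((c ^ 3 : H) : H ⧸ K) ^ 2 = 1 := by
        obtain ⟨k, hk, n, hn, e⟩ := mem_sup_of_normal_left.1 (hp' (M.sq_mem_of_index_two hi c))
        rw [← QuotientGroup.mk_pow, ← pow_mul, mul_comm, pow_mul, ← e, QuotientGroup.mk_pow,
          QuotientGroup.mk_mul, (QuotientGroup.eq_one_iff k).2 hk, one_mul, ← QuotientGroup.mk_pow,
          QuotientGroup.eq_one_iff]
        exact mem_sup_right (n3 n hn)
      let L := (zpowers ((c ^ 3 : H) : H ⧸ K)).comap (QuotientGroup.mk' K)
      have KL : K ≤ L := fun k hk => by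
        change (k : H ⧸ K) ∈ zpowers _
        rw [(QuotientGroup.eq_one_iff k).2 hk]
        exact one_mem _
      refine hns L (le_antisymm (fun g hg => e1 ⟨?_, hg.2⟩) (le_inf (le_sup_right.trans KL) hQN))
        (eq_top_iff.2 fun g _ => ?_)
      · obtain ⟨i, hi'⟩ := hg.1
        simp only [QuotientGroup.mk'_apply] at hi'
        rcases Int.even_or_odd' i with ⟨j, rfl | rfl⟩
        · rw [zpow_mul, zpow_ofNat, c6, one_zpow] at hi'
          exact (QuotientGroup.eq_one_iff g).1 hi'.symm
        · rw [zpow_add, zpow_mul, zpow_ofNat, c6, one_zpow, one_mul, zpow_one,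
            QuotientGroup.eq] at hi'
          exact absurd (M.inv_mem_iff.1 ((M.mul_mem_cancel_right (hNM hg.2)).1 (KM hi'))) c3
      · have hM : M ≤ L ⊔ N := hp'.trans (sup_le_sup_right KL _)
        by_cases hg : g ∈ M
        · exact hM hg
        · have := hM ((M.mul_mem_iff_of_index_two hi (a := g) (b := c ^ 3)).2
            (iff_of_false hg c3))
          exact ((L ⊔ N).mul_mem_cancel_right (mem_sup_left (mem_zpowers _))).1 this
    · rw [e] at h4
      have e1 : N ≤ K ⊓ N := relIndex_eq_one.1 (by omega)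
      exact hp'.trans (sup_le le_rfl (e1.trans inf_le_left))
  · obtain ⟨m, rfl⟩ := hs' g hg
    have := (hμ _).2 (h m hg)
    rwa [map_mul, map_mul, map_mul, map_inv, map_inv, mul_inv_eq_one, mul_inv_eq_iff_eq_mul] at this
  · have e1 : (μ.domRestrict M).ker = N.subgroupOf M := by rw [MonoidHom.ker_domRestrict, hker]
    have e2 : (μ.domRestrict M).range = Spor.M22 := by rw [MonoidHom.domRestrict_range, hmap]
    exact ⟨(QuotientGroup.quotientMulEquivOfEq e1).symm.trans
      ((QuotientGroup.quotientKerEquivRange _).trans (MulEquiv.subgroupCongr e2))⟩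

end CL.J4.Uq
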