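import Cfsg.Agent.SPOR.J4.OrdTab
import Cfsg.Agent.SPOR.GolayLoc
import Cfsg.Agent.SPOR.GolayMax

/-!
The involutions in the stabiliser of a duad, the table of duads and the orbits on sextets.
-/

set_option autoImplicit false

namespace CL.J4

open Cfsg CL.K CL.Golay CL.MAut CL.Orb MulAction
open scoped Pointwise symmDiff

theorem ncard_of_fibres {A B : Type*} {Z : Set A} {S : Set B} (hZ : Z.Finite) (hS : S.Finite)
    (φ : A → B) (hmaps : ∀ c ∈ Z, φ c ∈ S) {n : ℕ}
    (hn : ∀ y ∈ S, {c | c ∈ Z ∧ φ c = y}.ncard = n) : Z.ncard = S.ncard * n := by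
  rw [ncard_fibres (S := hS.toFinset) hZ φ fun c hc => hS.mem_toFinset.2 (hmaps c hc),
    Finset.sum_congr rfl fun y hy => hn y (hS.mem_toFinset.1 hy), Finset.sum_const, smul_eq_mul,
    Set.ncard_eq_toFinset_card S hS]

/-- conjugates of `c` fixing a point, and points fixed by `c` -/
theorem count_conj {G X : Type*} [Group G] [Finite G] [MulAction G X] (M : Subgroup G) (c : G)
    (x : X) {C : Subgroup G} (hC : ∀ g, g ∈ C ↔ g ∈ M ∧ g * c = c * g) :
    {g | (∃ k ∈ M, k * c * k⁻¹ = g) ∧ g • x = x}.ncard * Nat.card C =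
      {y | y ∈ orbit M x ∧ c • y = y}.ncard * Nat.card ↥(M ⊓ stabilizer G x) := by
  have h1 := ncard_of_fibres (Z := {k | k ∈ M ∧ (k * c * k⁻¹) • x = x})
    (S := {g | (∃ k ∈ M, k * c * k⁻¹ = g) ∧ g • x = x}) (Set.toFinite _) (Set.toFinite _)
    (fun k => k * c * k⁻¹) (fun k hk => ⟨⟨k, hk.1, rfl⟩, hk.2⟩) (n := Nat.card C) (by
      rintro _ ⟨⟨k, hk, rfl⟩, hx⟩
      rw [← SetLike.coe_sort_coe, Nat.card_coe_set_eq,
        ← Set.ncard_image_of_injective (C : Set G) (mul_right_injective k)]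
      refine congrArg _ (Set.ext fun g => ⟨fun ⟨⟨h1, _⟩, h3⟩ => ⟨k⁻¹ * g, (hC _).2
        ⟨M.mul_mem (M.inv_mem hk) h1, ?_⟩, by simp⟩, ?_⟩)
      · calc k⁻¹ * g * c = k⁻¹ * (g * c * g⁻¹) * g := by group
          _ = _ := by rw [h3]; group
      · rintro ⟨s, hs, rfl⟩
        have e : k * s * c * (k * s)⁻¹ = k * c * k⁻¹ := by
          rw [mul_assoc k s c, ((hC s).1 hs).2]; group
        exact ⟨⟨M.mul_mem hk ((hC s).1 hs).1, e ▸ hx⟩, e⟩)
  have h2 := ncard_of_fibres (Z := {k | k ∈ M ∧ (k * c * k⁻¹) • x = x})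
    (S := {y | y ∈ orbit M x ∧ c • y = y}) (Set.toFinite _)
    ((Set.finite_range _).subset fun _ h => h.1)
    (fun k => k⁻¹ • x) (fun k hk => ⟨⟨⟨k⁻¹, M.inv_mem hk.1⟩, rfl⟩, by
      rw [eq_inv_smul_iff, ← mul_smul, ← mul_smul]; exact hk.2⟩)
    (n := Nat.card ↥(M ⊓ stabilizer G x)) (by
      rintro _ ⟨⟨k, rfl⟩, hx⟩
      change c • (k : G) • x = (k : G) • x at hx
      rw [← SetLike.coe_sort_coe (M ⊓ stabilizer G x), Nat.card_coe_set_eq, ← Set.ncard_image_of_injective
        (↑(M ⊓ stabilizer G x) : Set G) (mul_left_injective (k : G)⁻¹)]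
      refine congrArg _ (Set.ext fun g => ⟨fun ⟨⟨h1, _⟩, h3⟩ => ⟨g * k, ⟨M.mul_mem h1 k.2, ?_⟩,
        by simp⟩, ?_⟩)
      · change g⁻¹ • x = (k : G) • x at h3
        change (g * k) • x = x
        rw [mul_smul, ← h3, smul_inv_smul]
      · rintro ⟨s, hs, rfl⟩
        have e : (s * (k : G)⁻¹)⁻¹ • x = (k : G) • x := by
          rw [mul_inv_rev, inv_inv, mul_smul, inv_smul_eq_iff.2 (mem_stabilizer_iff.1 hs.2).symm]
        refine ⟨⟨M.mul_mem hs.1 (M.inv_mem k.2), ?_⟩, e⟩
        rw [mul_smul, mul_smul, e, hx, mul_smul, inv_smul_smul]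
        exact hs.2)
  rw [← h1, h2]

/-- the two points with code `c` -/
def dl (c : ℕ) : List ℕ := [Nat.mod c 24, Nat.div c 24]

/-- codes of the duads -/
noncomputable def DL : List ℕ := unpack 10 1023 276 [0x8fa3d8f23b8ea398e2378da358d2338ca318c22f8ba2d8b22b8aa298a2258922388a218821f87a1d8721b86a198621785a158521384a118420c82e0a8260881e068160480e02806007fdfe7f5fc7edfa7e5f87cdf27c5f07bdee7b5ec7adea7a5e879de6795e478de2785e0769d9761d7759d5751d3749d1741cf739cd731cb729c9721c1701bf6f9bd6f1bb6e9b96e1b76d9b56d1b36c9b16c1a869da6695a468da2685a067d9e6759c66d9a6659863d8e6358c62d8a6258861d866158460d82605805d9755d1735c9715c16f5b96d5b16b5a9695a15d5715b56959561575595555153549515414450d42505404fd3e4f53c4ed3a4e5384ad2a4a52849d264952448d2248520449114410f4390d4310b42909420f93e0f73d8f53d0f33c8f13c0e037cde374dc36cda364d831cc6314c430cc2304c02b8ad2b0ab2a8a92a09525093248912407c1ec7a1e47818c621846012849120310c018]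

theorem DL_ok : lallA (fun c => lall (fun p => Nat.blt p 24) (dl c) &&
    Nat.blt (mkL (dl c)) 16777216 && Nat.beq (pc24 (mkL (dl c))) 2) DL = true := by decide +kernel

theorem DL_spec {c : ℕ} (hc : c ∈ DL) :
    (∀ p ∈ dl c, p < 24) ∧ mkL (dl c) < 2 ^ 24 ∧ (E.setOf (mkL (dl c))).card = 2 := by
  have := lallA_iff.1 DL_ok c hc
  simp only [Bool.and_eq_true, lall_iff, Nat.blt_eq, Nat.beq_eq] at this
  exact ⟨this.1.1, this.1.2, (card_setOf _).trans this.2⟩

theorem DL_table : Table (fun c => E.setOf (mkL (dl c))) {t | t.card = 2} DL :=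
  (Table.of_distinct (Hx := Syn) (h := fun c => syn (mkL (dl c)))
    (fun _ hc => (Syn_setOf (DL_spec hc).2.1).symm) (fun _ hc => (DL_spec hc).2.2)
    (by decide +kernel) (Set.toFinite _) (by rw [ncard_subsets, DL, length_unpack]; decide)).1

theorem ncard_class {c : ℕ} (hc : I M24 c) {k n m : ℕ} (hk : Nat.card (Cent (pm c)) = k)
    (hn : lsumA (fun d => ind (img24 c (mkL (dl d))) (mkL (dl d))) DL 0 = n)
    (hm : n * 887040 = m * k) (h0 : 0 < k) :
    {g | ConjTo (pm c) g ∧ g • E.setOf D2 = E.setOf D2}.ncard = m := by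
  have h1 := count_conj M24 (pm c) (E.setOf D2) (C := Cent (pm c)) fun _ => mem_Cent
  rw [orbit_D2, hk, card_Duad] at h1
  have h2 := DL_table.ncard_sep (fun y => pm c • y = y)
    (fun d => ind (img24 c (mkL (dl d))) (mkL (dl d))) fun d hd => by
      rw [← R.setOf_img hc.rep, E.setOf_inj (R.img_lt hc.rep _) (DL_spec hd).2.1, ind_eq]
      exact ⟨fun e => if_pos e, fun e => if_neg e⟩
  exact Nat.eq_of_mul_eq_mul_right h0 (h1.trans ((congrArg (· * 887040) (h2.trans hn)).trans hm))

theorem ncard_inv_le : {g | g ∈ Duad ∧ g * g = 1}.ncard ≤ 2872 := by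
  have hA := ncard_class c2A_in Cent_2A_eq.2 (n := 36) (m := 1485) (by decide +kernel) rfl (by decide)
  have hB := ncard_class c2B_in Cent_2B_eq.2 (n := 12) (m := 1386) (by decide +kernel) rfl (by decide)
  refine (Set.ncard_le_ncard (t := insert 1 ({g | ConjTo (pm c2A) g ∧ g • E.setOf D2 = E.setOf D2} ∪
    {g | ConjTo (pm c2B) g ∧ g • E.setOf D2 = E.setOf D2})) (fun g hg => ?_)).trans ?_
  · by_cases h1 : g = 1
    · exact Or.inl h1
    · exact Or.inr ((invol_class hg.1.1 (orderOf_eq_prime (by rw [pow_two]; exact hg.2) h1)).imp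
        (fun h => ⟨h, hg.1.2⟩) fun h => ⟨h, hg.1.2⟩)
  · have h1 := Set.ncard_union_le {g | ConjTo (pm c2A) g ∧ g • E.setOf D2 = E.setOf D2}
      {g | ConjTo (pm c2B) g ∧ g • E.setOf D2 = E.setOf D2}
    rw [hA, hB] at h1
    exact (Set.ncard_insert_le _ _).trans (Nat.succ_le_succ h1)

/-- the conjugating element of an entry -/
def lo (e : ℕ) : ℕ := Nat.land e 0xffffffffffffffffffffffffffffff
/-- the involution of an entry -/
def hi (e : ℕ) : ℕ := Nat.shiftRight e 120

/-- unpacked entries -/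
noncomputable def unp (L : List ℕ) : List ℕ :=
  unpack 240 0xffffffffffffffffffffffffffffffffffffffffffffffffffffffffffff 33 L

theorem unp_append (a b : List ℕ) : unp (a ++ b) = unp a ++ unp b := by
  induction a with
  | nil => rfl
  | cons c a ih =>
    have : ∀ (k : ℕ) (f : ℕ → ℕ) (u : List ℕ), Nat.rec (motive := fun _ => List ℕ) (u ++ unp b)
        (fun j r => f j :: r) k = Nat.rec (motive := fun _ => List ℕ) u (fun j r => f j :: r) k ++
          unp b := fun k f u => by
      induction k with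
      | zero => rfl
      | succ k ih2 => exact congrArg (f k :: ·) ih2
    exact (congrArg (fun u => Nat.rec (motive := fun _ => List ℕ) u (fun j r => fld 240 _ c j :: r) 33)
      ih).trans (this 33 _ _)

/-- an involution of `M22` -/
def aA : ℕ := 984154666587151352246361999701084480

/-- the entry is valid for the class of `a` -/
noncomputable def entOK (a e : ℕ) : Bool := force (lo e) fun X =>
  okM X && th22 X && Nat.beq (conj24 X a) (hi e)

theorem entOK_spec {a e : ℕ} (h : entOK a e = true) : I Duad (lo e) ∧ conj24 (lo e) a = hi e := by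
  rw [entOK, force_eq, Bool.and_eq_true, Bool.and_eq_true, Nat.beq_eq] at h
  exact ⟨inDuad (I.of_okM h.1.1) h.1.2, h.2⟩

theorem okA : lallA (entOK aA) (unp chunksA) = true := by decide +kernel
theorem okB : lallA (entOK c2A) (unp chunksB) = true := by decide +kernel
theorem okC : lallA (entOK c2B) (unp chunksC) = true := by decide +kernel

/-- the table describes an involution in the stabiliser of the duad -/
noncomputable def repOK (a : ℕ) : Bool :=
  okM a && th22 a && (Nat.beq (pow24 a 2) one24 && !Nat.beq (pow24 a 1) one24)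

theorem repOK_spec {a : ℕ} (h : repOK a = true) : I Duad a ∧ orderOf (pm a) = 2 := by
  rw [repOK, Bool.and_eq_true, Bool.and_eq_true] at h
  exact ⟨inDuad (I.of_okM h.1.1) h.1.2, R.orderOf_eq_prime (I.of_okM h.1.1).rep h.2⟩

theorem repA : repOK aA = true := by decide +kernel
theorem repB : repOK c2A = true := by decide +kernel
theorem repC : repOK c2B = true := by decide +kernel

/-- the entry for the identity -/
def e1 : ℕ := 1309047981396680169264628325212235155315415362580039654134251891955173408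

theorem hi_e1 : hi e1 = one24 := by decide +kernel

theorem ent_spec {a e : ℕ} (ha : repOK a = true) (h : entOK a e = true) :
    hi e = E.code 5 (pm (hi e)) ∧ pm (hi e) ∈ Duad ∧ pm (hi e) * pm (hi e) = 1 := by
  obtain ⟨h1, h2⟩ := entOK_spec h
  obtain ⟨h3, h4⟩ := repOK_spec ha
  have h5 := R.conj h1.rep h3.rep
  have h6 : conj24 (lo e) a = E.code 5 (pm (lo e) * pm a * (pm (lo e))⁻¹) := by
    rw [conj24, force_eq, force_eq, comp24_eq]
    exact (R.mul h1.rep h3.rep).comp_eq_code (R.inv h1.rep)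
  rw [h2] at h5 h6
  have h7 : pm (hi e) = _ := h5.permOf_eq
  refine ⟨h7 ▸ h6, h7 ▸ Duad.mul_mem (Duad.mul_mem h1.permOf_mem h3.permOf_mem)
    (Duad.inv_mem h1.permOf_mem), ?_⟩
  rw [h7, conj_mul, ← pow_two, ← h4, pow_orderOf_eq_one, mul_one, mul_inv_cancel]

theorem inv_distinct : distinctOn (fun e => Nat.mod (hi e) 456435)
    (e1 :: unp (chunksA ++ (chunksB ++ chunksC))) 0 = true := by decide +kernel

theorem inv_table : Table (fun e => pm (hi e)) {g | g ∈ Duad ∧ g * g = 1}
    (e1 :: (unp chunksA ++ (unp chunksB ++ unp chunksC))) := by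
  have key : ∀ e ∈ e1 :: unp (chunksA ++ (chunksB ++ chunksC)),
      hi e = E.code 5 (pm (hi e)) ∧ pm (hi e) ∈ Duad ∧ pm (hi e) * pm (hi e) = 1 := fun e he => by
    rw [unp_append, unp_append, List.mem_cons, List.mem_append, List.mem_append] at he
    rcases he with rfl | he | he | he
    · have : pm one24 = 1 := R.one.permOf_eq
      rw [hi_e1, this, one24_eq]
      exact ⟨E.one_eq_code, Duad.one_mem, mul_one _⟩
    · exact ent_spec repA (lallA_iff.1 okA e he)
    · exact ent_spec repB (lallA_iff.1 okB e he)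
    · exact ent_spec repC (lallA_iff.1 okC e he)
  rw [← unp_append, ← unp_append]
  exact (Table.of_distinct (Hx := fun g => Nat.mod (E.code 5 g) 456435)
    (fun e he => congrArg (Nat.mod · 456435) (key e he).1) (fun e he => (key e he).2) inv_distinct
    (Set.toFinite _) (ncard_inv_le.trans (by
      rw [List.length_cons, unp, length_unpack]; decide +kernel))).1

/-- mask of `{∞, 1, 2, 3}` -/
def T5 : ℕ := 8388622

theorem decomp_sex_duad : Decomp Duad sextets [(sex T4, 231), (sex T5, 1540)] :=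
  decomp_sex gDuad_in stab_duad_eq inf_le_left (reps := [(T4, 231), (T5, 1540)])
    (by decide +kernel) (by decide +kernel) (by decide +kernel)

end CL.J4
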