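import Cfsg.Agent.SPOR.J4.LocA
import Cfsg.Agent.SPOR.J4.OrdInv

/-! Kernel functions for the count of pairs of involutions. -/

set_option autoImplicit false
set_option maxRecDepth 100000
set_option maxHeartbeats 400000
set_option linter.unusedSectionVars false
set_option linter.unusedVariables false

namespace CL.J4

open Finset CL.K CL.CG CL.F2M CL.LX CL.MSS Cfsg CL.Golay CL.MAut MulAction
open CL.F24 hiding qf bf qf_add bf_add_left bf_comm bf_add_right bf_self qf_zero bf_zero_left bf_zero_right bf_eq qC bC qC_code bC_code Z0 code_Z0 code_Z0_inv Z0_sq Z0_cube Z0_sum add_Z0 eq_zero_of_Z0 qf_Z0 qf_Z0_inv bf_smul bf_Z0_self eq_zero_of_bf Frame cw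

attribute [local irreducible] gcode vcode

/-- a value signalling failure -/
def BIG : ℕ := 0x1000000000000000

/-- sum of `wt i * leaf` over a span -/
noncomputable def sp (wt g : ℕ → ℕ) (N H k : ℕ) : ℕ → ℕ → ℕ → ℕ :=
  Nat.rec (motive := fun _ => ℕ → ℕ → ℕ → ℕ)
    (fun a b i => Nat.mul (wt i) (cond (Nat.beq a 0) (g b) (qC a)))
    (fun j ih a b i => Nat.add (ih a b i) (force (Nat.xor a (fld 12 4095 N j)) fun a' =>
      force (Nat.xor b (fld 12 4095 H j)) fun b' => force (Nat.add (Nat.pow 2 j) i) (ih a' b'))) k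

/-- order of a matrix and sum of its powers, passed to a continuation -/
noncomputable def ordN (M : ℕ) (c : ℕ → ℕ → ℕ) (fuel : ℕ) : ℕ → ℕ → ℕ → ℕ :=
  Nat.rec (motive := fun _ => ℕ → ℕ → ℕ → ℕ) (fun _ _ _ => BIG)
    (fun _ ih k P N => cond (Nat.beq P c1) (c k N)
      (force (mm P M) fun P' => force (Nat.xor N P) fun N' => force (Nat.succ k) fun k' =>
        ih k' P' N')) fuel

/-- sum of the first powers of a matrix -/
noncomputable def geo (M k : ℕ) : ℕ :=
  Nat.rec (motive := fun _ => ℕ) 0 (fun _ ih => Nat.xor c1 (mm M ih)) k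

/-- number of good partners in a fibre -/
noncomputable def pairF (A L o : ℕ) (wt : ℕ → ℕ) (k B w : ℕ) : ℕ :=
  force (mm A B) fun M => force (ac A w) fun a => ordN M (fun m N =>
    force (mm N L) fun N1 => force (ac N a) fun a1 =>
      cond (Nat.beq (Nat.mod m 2) 1) (sp wt (fun _ => 1) N1 0 k a1 0 0)
        (cond (Nat.beq (Nat.mod (Nat.mul o (Nat.div m 2)) 2) 1) (sp wt (fun _ => 0) N1 0 k a1 0 0)
          (force (geo M (Nat.div m 2)) fun H => force (mm H L) fun H1 => force (ac H a) fun b1 =>
            sp wt qC N1 H1 k a1 b1 0))) 25 1 M c1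

/-- the five representatives, conjugated -/
noncomputable def entM (A L o : ℕ) (wt : ℕ → ℕ) (k B B' : ℕ) : ℕ :=
  Nat.add (Nat.mul 2772 (pairF A L o wt k c1 (ac B' 20)))
    (Nat.add (force (mm (mm B' (om 1)) B) fun M => Nat.add (Nat.mul 18480 (pairF A L o wt k M 0))
      (Nat.mul 221760 (pairF A L o wt k M (ac B' 1472))))
    (Nat.add (Nat.mul 63360 (pairF A L (Nat.xor o 1) wt k (mm (mm B' mB) B) 0))
      (Nat.mul 532224 (pairF A L (Nat.xor o 1) wt k (mm (mm B' mCc) B) 0))))

/-- the matrix of the polar form -/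
def JJ : ℕ := 0x20010008004002001800400200100080040

/-- candidate for the inverse -/
noncomputable def invC (B : ℕ) : ℕ :=
  mm JJ (mm (sumLt (fun k => Nat.shiftLeft (Nat.land (Nat.shiftRight (Nat.mul
    (Nat.land (Nat.shiftRight B k) 0x1001001001001001001001001001001001)
      0x2004008010020040080100200400801) 121) 4095) (Nat.mul 12 k)) 12) JJ)

/-- a matrix over a permutation and its inverse, passed to a continuation -/
noncomputable def withL (D : ℕ) (c : ℕ → ℕ → ℕ) : ℕ :=
  force (lift D) fun B => force (invC B) fun B' =>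
    cond (Nat.beq B 0) BIG (cond (Nat.beq (mm B B') c1) (c B B') BIG)

/-- number of conjugates of `z` in `E` over a vector -/
def wt1 (i : ℕ) : ℕ := Nat.add (ind i 0) (Nat.mul 2 (bit S693 i))
/-- number of conjugates of `z` in `V` over a vector -/
def wtA (i : ℕ) : ℕ := Nat.sub (Nat.sub 2 (bit TM (Nat.xor i 64))) (bit TM (Nat.xor (Nat.xor i 64) 1024))
/-- conjugating element -/
def azKA : ℕ := 957426854079457869362402932844333760
/-- conjugating element -/
def azKB : ℕ := 982929151247850927853062874394270272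
/-- conjugating element -/
def azKC : ℕ := 983536215305526410477818201421200576
/-- basis of the fixed space -/
def LB : ℕ := 0x8c06001c0025018003

/-- contribution of an inner involution -/
noncomputable def entA (e : ℕ) : ℕ := withL (comp24 (lo e) azKA) (entM (om 1) c1 0 wtA 6)

/-- contribution of an outer involution -/
noncomputable def entB (e : ℕ) : ℕ := withL (comp24 (lo e) azKB) fun B B' =>
  Nat.add (entM mB LB 1 (fun _ => 1) 6 B B')
    (Nat.add (force (mm B cXX) fun C => force (mm cX B') (entM mB LB 1 (fun _ => 1) 6 C))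
      (force (mm B cX) fun C => force (mm cXX B') (entM mB LB 1 (fun _ => 1) 6 C)))

end CL.J4
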