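import Cfsg.Agent.SPOR.J4.Fus

/-!
The classes in the elementary abelian group of order `2 ^ 11` and its normaliser.
-/

set_option autoImplicit false
set_option maxRecDepth 100000
set_option linter.unusedSectionVars false
set_option linter.unusedVariables false

namespace CL.J4

open Finset CL.K CL.CG CL.F2M CL.LX CL.MSS Cfsg CL.Golay CL.MAut MulAction CL.FiRec CL.Fus CL.Orb
open CL.F24 hiding qf bf qf_add bf_add_left bf_comm bf_add_right bf_self qf_zero bf_zero_left bf_zero_right bf_eq qC bC qC_code bC_code Z0 code_Z0 code_Z0_inv Z0_sq Z0_cube Z0_sum add_Z0 eq_zero_of_Z0 qf_Z0 qf_Z0_inv bf_smul bf_Z0_self eq_zero_of_bf Frame cw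

attribute [local irreducible] gcode vcode

open scoped Pointwise

/-- two permutations normalising `OL` -/
def CG : List ℕ := [17533771808187430967622399542019543, 980501918457997613199286026491181120]
/-- matrices over them -/
def MG : List ℕ := [0x940e804808c0d806c002d03603101202903e, 0x7c0e80c00800cc088000400c01d03b00500f]
/-- their action on the numbers of the elements of `OL` -/
def PG4 : List ℕ := [0x3a4d81f65c2be790, 0x596ab7841d2ef3c0]
/-- the conjugates under `Q` of the elements `σ a` -/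
def MA4 : ℕ := 0x90000500003000008080440002200000120001804010000002804080420000008100041010200000022080804400000003000090500000008020840004200000102081000410000000a0c0000600000001804010120000001100011010100000012080101400000082000480402000001080410002100000000000000000000060000a0000c0000f080800442002111100482004080284214001020100814281004220080804428120020808004411110c000060a000000f04010021800184210804004220084281005030000900000f200408020048842100111001010111114008020400822841001410020108284104020028800428410000000000000000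

/-- type of a code modulo `z` -/
def tz (c : ℕ) : ℕ := cond (blt c 64) (cond (Nat.beq c 0) 0 (cond (inMask S693 c) 1 2))
  (cond (inMask MA4 c || inMask MA4 (Nat.xor c 1024)) 3 4)

/-- generators acting modulo `z` -/
noncomputable def fz (j c : ℕ) : ℕ := cond (blt j 12) (Nat.mod (actS (Nat.pow 2 j) c) 1024)
  (vmk (ac (lget MG (Nat.sub j 12)) (vu c)) (fld 4 15 (lget PG4 (Nat.sub j 12)) (va c)) 0)

/-- finer type -/
def tb (c : ℕ) : ℕ := cond (Nat.beq (va c) 0) (bit S1386 (vu c))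
  (cond (inMask MA4 c) 2 (cond (inMask MA4 (Nat.xor c 1024)) 3 0))

/-- the elements not conjugate to `z`, for the sign function `f` -/
noncomputable def dB4 (f c : ℕ) : ℕ := lget [0, 1, Nat.sub 1 (bit f (va c)), bit f (va c)] (tb c)

/-- invariance of the cocycle -/
noncomputable def invB4 (f P : ℕ) : Bool := allLt (fun a => allLt (fun b =>
  Nat.beq (Nat.xor (Nat.xor (bit f a) (bit f (fld 4 15 P a))) (Nat.xor (bit f b) (bit f (fld 4 15 P b))))
    (Nat.xor (bit f (Nat.xor a b)) (bit f (fld 4 15 P (Nat.xor a b))))) 16) 16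

/-- number of pairs with given product -/
noncomputable def cnt4 (f y : ℕ) : ℕ :=
  sumLt2 (fun c => force c fun c => Nat.mul (dB4 f c) (dB4 f (Nat.xor c y))) 32 64

theorem reach_of_orb {f : ℕ → ℕ → ℕ} {m c0 fuel N : ℕ} {p : ℕ → Bool}
    (h : orb f (fun c => c) m c0 fuel (fun S _ => allN (fun c => !p c || inMask S c) N) = true)
    {c : ℕ} (hc : c < N) (hp : p c = true) : Orb.Reach f m c0 c := by
  obtain ⟨A, S, n, h1, h2, -⟩ := Orb.orb_spec h
  have h3 := allN_spec h2 c hc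
  rw [hp, Bool.not_true, Bool.false_or] at h3
  obtain ⟨d, hd, rfl⟩ := (h1.bits c).1 (inMask_spec h3)
  exact h1.reach d hd

theorem tz_lt (c : ℕ) : tz c < 5 := by
  unfold tz
  generalize blt c 64 = a, Nat.beq c 0 = b, inMask S693 c = d,
    (inMask MA4 c || inMask MA4 (Nat.xor c 1024)) = e
  revert a b d e; decide

theorem reach_tz {c : ℕ} (hc : c < 1024) : Orb.Reach fz 14 (lget [0, 1, 20, 64, 65] (tz c)) c := by
  have : allLt (fun t => orb fz (fun c => c) 14 (lget [0, 1, 20, 64, 65] t) 1100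
    fun S _ => allN (fun c => !Nat.beq (tz c) t || inMask S c) 1024) 5 = true := by decide +kernel
  exact reach_of_orb (allLt_iff.1 this _ (tz_lt c)) hc (Nat.beq_refl _)

theorem reach_MA {c e : ℕ} (hc : c < 2048) (he : e < 2) (h : inMask MA4 (c ^^^ 1024 * e) = true) :
    Orb.Reach (fun j c => actS (Nat.pow 2 j) c) 12 (vmk 0 (va c) e) c := by
  have : allLt (fun a => allLt (fun e => orb (fun j c => actS (Nat.pow 2 j) c) (fun c => c) 12
    (vmk 0 a e) 40 fun S _ => allN (fun c => !(Nat.beq (va c) a &&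
      inMask MA4 (Nat.xor c (Nat.mul 1024 e))) || inMask S c) 2048) 2) 16 = true := by decide +kernel
  exact reach_of_orb (allLt_iff.1 (allLt_iff.1 this _ (va_lt c)) e he) hc
    (by rw [Nat.beq_refl, Bool.true_and]; exact h)

theorem sum_tz {a k c : ℕ} (ha : a < 2) (hk : k < 3) (hc : c < 2) :
    ∑ v ∈ range 1024, lget [1, 2 * a, 0, k, 2 * c] (tz v) = 1 + 90 * a + 240 * k + 1440 * c := by
  have : allLt (fun a => allLt (fun k => allLt (fun c => Nat.beq (sumLt2 (fun v =>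
    lget [1, 2 * a, 0, k, 2 * c] (tz v)) 16 64) (1 + 90 * a + 240 * k + 1440 * c)) 2) 3) 2 = true := by
    decide +kernel
  have h := allLt_iff.1 (allLt_iff.1 (allLt_iff.1 this a ha) k hk) c hc
  rewrite [Nat.beq_eq, sumLt2_eq] at h
  exact h

theorem dvd_cases4 {a k c : ℕ} (ha : a < 2) (hk : k < 3) (hc : c < 2)
    (h : 1 + 90 * a + 240 * k + 1440 * c ∣ Nat.card GL11) :
    (a = 0 ∧ k = 0 ∧ c = 0) ∨ (a = 1 ∧ k = 1 ∧ c = 1) := by
  rewrite [Matrix.card_GL_field, ZMod.card, show ∏ i : Fin 11, (2 ^ 11 - 2 ^ (i : ℕ)) =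
    768105432118265670534631586896281600 by decide +kernel] at h
  interval_cases a <;> interval_cases k <;> interval_cases c <;> revert h <;> decide +kernel

theorem tb_cases {c : ℕ} (hc : c < 2048) :
    (tb c = 0 ∧ (c = 0 ∨ c = 1024 ∨ lget [1, 2, 0, 1, 2] (tz (c % 1024)) = 2)) ∨
    (tb c = 1 ∧ c ≠ 0 ∧ lget [1, 2, 0, 1, 2] (tz (c % 1024)) = 0) ∨
    (c ≠ 0 ∧ va c ≠ 0 ∧ ((tb c = 2 ∧ inMask MA4 (c ^^^ 1024 * 0) = true) ∨
      (tb c = 3 ∧ inMask MA4 (c ^^^ 1024 * 1) = true))) := by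
  revert c
  exact fun {c} hc => of_decide_eq_true (allN_spec (p := fun c => decide (
    (tb c = 0 ∧ (c = 0 ∨ c = 1024 ∨ lget [1, 2, 0, 1, 2] (tz (c % 1024)) = 2)) ∨
    (tb c = 1 ∧ c ≠ 0 ∧ lget [1, 2, 0, 1, 2] (tz (c % 1024)) = 0) ∨
    (c ≠ 0 ∧ va c ≠ 0 ∧ ((tb c = 2 ∧ inMask MA4 (c ^^^ 1024 * 0) = true) ∨
      (tb c = 3 ∧ inMask MA4 (c ^^^ 1024 * 1) = true))))) (N := 2048) (by decide +kernel) c hc)

theorem eq_GQ {f : ℕ} (hf : f < 65536) (h0 : bit f 0 + bit f 1 + bit f 2 + bit f 4 + bit f 8 = 0)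
    (h1 : ∀ j < 2, invB4 f (lget PG4 j) = true) (h2 : cnt4 f 1088 = cnt4 f 1024) : f = GQ := by
  have : allN (fun f => force f fun f => !Nat.beq (bit f 0 + bit f 1 + bit f 2 + bit f 4 + bit f 8) 0 ||
    !invB4 f (lget PG4 0) || !invB4 f (lget PG4 1) || !Nat.beq (cnt4 f 1088) (cnt4 f 1024) ||
      Nat.beq f GQ) 65536 = true := by decide +kernel
  have h := allN_spec this f hf
  rw [force_eq, h0, h1 0 (by decide), h1 1 (by decide), h2] at h
  simpa using h

theorem dB4_GQ {c : ℕ} (hc : c < 2048) : dB4 GQ c = bit TM c :=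
  eq_of_beq (allN_spec (by decide +kernel :
    allN (fun c => Nat.beq (dB4 GQ c) (bit TM c)) 2048 = true) c hc)

theorem CG_chk {j : ℕ} (hj : j < 2) : (isPerm24 (lget CG j) && jchk (lget MG j) (lget CG j)) = true ∧
    I Stab (lget CG j) ∧ ∀ a < 16, cjo (lget CG j) a = fld 4 15 (lget PG4 j) a := by
  have : allLt (fun j => isPerm24 (lget CG j) && jchk (lget MG j) (lget CG j) &&
    (okM (lget CG j) && th22 (lget CG j) && Nat.beq (img24 (lget CG j) O0) O0) &&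
    allLt (fun a => Nat.beq (cjo (lget CG j) a) (fld 4 15 (lget PG4 j) a)) 16) 2 = true := by
    decide +kernel
  have h := allLt_iff.1 this j hj
  rewrite [Bool.and_eq_true, Bool.and_eq_true, allLt_iff] at h
  exact ⟨h.1.1, inS h.1.2, fun a ha => eq_of_beq (h.2 a ha)⟩

/-- the 24 points -/
noncomputable def pq (a : GolayPt) : V11 := vdec 11 (pvf (E.enc a))

theorem co_pq : CoRec.Co pq := CoRec.co_of_coB (by decide +kernel)

theorem surj_pq (v : V11) : ∃ s : Finset GolayPt, Even s.card ∧ ∑ a ∈ s, pq a = v :=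
  CoRec.surj_of_check (by decide +kernel) (b := lget [4202499, 12582929, 1049091, 8390145, 33283,
    8422401, 1032, 4112, 8389632, 4224, 8388615]) (by decide +kernel) v

theorem sum_pq (s : Finset GolayPt) : vcode (∑ a ∈ s, pq a) = th (E.maskOf s) := by
  have := CoRec.sum_setOf 11 pvf (E.maskOf s)
  rw [E.setOf_maskOf] at this
  exact (congrArg vcode this).trans (vcode_vdec (th_lt _))

theorem mem_Du_pq {v : V11} : v ∈ CoRec.Du pq ↔ TM.testBit (vcode v) = true := by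
  constructor
  · rintro ⟨a, b, hab, rfl⟩
    have : allLt (fun a => allLt (fun b => Nat.beq a b || blt (pvf a) 2048 && blt (pvf b) 2048 &&
      inMask TM (Nat.xor (pvf a) (pvf b))) 24) 24 = true := by decide +kernel
    have h := allLt_iff.1 (allLt_iff.1 this _ (E.enc_lt a)) _ (E.enc_lt b)
    rewrite [Bool.or_eq_true, Bool.and_eq_true, Bool.and_eq_true] at h
    obtain ⟨⟨h1, h2⟩, h3⟩ := h.resolve_left fun e => hab (E.enc_injective (eq_of_beq e))
    rw [vcode_add, pq, pq, vcode_vdec (lt_of_blt h1), vcode_vdec (lt_of_blt h2)]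
    exact inMask_spec h3
  · intro h
    obtain ⟨h1, h2, h3⟩ := rpv_spec (vcode_lt v)
    rw [h] at h3
    obtain ⟨a, b, hab, e⟩ := card_eq_two.1 (by simpa using h3 : (E.setOf (rpv (vcode v))).card = 2)
    refine ⟨a, b, hab, vcode_injective ?_⟩
    rw [← sum_pair hab, ← e, sum_pq, E.maskOf_setOf h2, h1]

variable {G : Type*} [Group G] {z : G} {Q : Subgroup G} {κ : G → W}
  {ρ : Subgroup.centralizer ({z} : Set G) →* GL12}
  {μ : Subgroup.centralizer ({z} : Set G) →* Pm} {x : G}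

open Classical in
/-- indicator of the class of `z` -/
noncomputable def χz (z y : G) : ℕ := if IsConj z y then 1 else 0

theorem χz_lt (z y : G) : χz z y < 2 := by unfold χz; split <;> decide

theorem χz_conj (z g y : G) : χz z (g * y * g⁻¹) = χz z y := by unfold χz; rw [isConj_conj]

theorem χz_one {z y : G} : χz z y = 1 ↔ IsConj z y := by
  unfold χz; split <;> simp [*, -isConj_iff]

theorem χz_zero {z y : G} : χz z y = 0 ↔ ¬ IsConj z y := by
  unfold χz; split <;> simp [*, -isConj_iff]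

open Classical in
/-- the sign function -/
noncomputable def sg4 (z : G) (σ : ℕ → G) : ℕ := Nat.ofBits fun m : Fin 16 => decide (IsConj z (σ m))

theorem bit_sg4 (z : G) (σ : ℕ → G) {m : ℕ} (hm : m < 16) : bit (sg4 z σ) m = χz z (σ m) := by
  classical
  rw [bit_eq, sg4, Nat.testBit_ofBits_lt _ _ hm, χz]
  exact if_congr decide_eq_true_iff rfl rfl

namespace HS

/-- number of conjugates of `z` in a coset of `z` -/
noncomputable def sz (S : HS z Q κ ρ μ x) (σ : ℕ → G) (c : ℕ) : ℕ :=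
  χz z (S.ιc σ c) + χz z (S.ιc σ c * z)

/-- coordinates -/
noncomputable def ιv (S : HS z Q κ ρ μ x) (σ : ℕ → G) (v : V11) : G := S.ιc σ (vcode v)

theorem exists_cg (S : HS z Q κ ρ μ x) {j : ℕ} (hj : j < 2) :
    ∃ c, ∃ h : S.Jt c (lget MG j) (lget CG j), μ ⟨c, h.1.1⟩ ∈ Stab := by
  obtain ⟨c, h⟩ := S.exists_jt' (CG_chk hj).1
  exact ⟨c, h, h.1.2.2.permOf_eq ▸ (CG_chk hj).2.1.permOf_mem⟩

namespace VS

variable {S : HS z Q κ ρ μ x} {σ : ℕ → G} (T : S.VS σ)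
include T

theorem sz_conj {c : G} (hc : c * z = z * c) {v w e : ℕ}
    (h : c * S.ιc σ v * c⁻¹ = S.ιc σ w * z ^ e) : S.sz σ v = S.sz σ w := by
  have h1 : c * (S.ιc σ v * z) * c⁻¹ = S.ιc σ w * z ^ e * z := by
    rw [← h, mul_assoc _ c⁻¹, (Commute.inv_left hc).eq]; group
  rw [sz, sz, ← χz_conj z c, ← χz_conj z c (_ * z), h, h1]
  rcases S.z_pow_cases e with k | k <;> rw [k]
  · rw [mul_one]
  · rw [mul_assoc, S.zz, mul_one, add_comm]

theorem ιc_mod (v : ℕ) : S.ιc σ v = S.ιc σ (v % 1024) * z ^ ve v := by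
  have h1 : vu (v % 1024) = vu v := by change v % 1024 % 64 = v % 64; omega
  have h2 : va (v % 1024) = va v := by change v % 1024 / 64 % 16 = v / 64 % 16; omega
  have h3 : ve (v % 1024) = 0 := by change v % 1024 / 1024 = 0; omega
  rw [ιc, ιc, h1, h2, h3, pow_zero, mul_one]

theorem sz_mod (v : ℕ) : S.sz σ v = S.sz σ (v % 1024) :=
  T.sz_conj (c := 1) (by simp) (by simpa using T.ιc_mod v)

theorem sz_fz {j : ℕ} (hj : j < 14) (c : ℕ) : S.sz σ (fz j c) = S.sz σ c := by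
  unfold fz
  by_cases h : j < 12
  · have h1 : 2 ^ j < 4096 := Nat.pow_lt_pow_right (n := 12) one_lt_two h
    rw [show blt j 12 = true from Nat.ble_eq ▸ h, cond_true]
    exact (T.sz_conj (S.sc_z _) ((T.conj_sc h1 c).trans (T.ιc_mod _))).symm
  · have h1 : j - 12 < 2 := by omega
    obtain ⟨d, hd, k⟩ := S.exists_cg h1
    obtain ⟨e, he⟩ := T.conj_σ hd k (va_lt c)
    have h2 := hd.1.ac_lt64 k (vu_lt c)
    have h3 := (cjo_spec k hd.1.2.2 (va_lt c)).1
    rw [Bool.eq_false_iff.2 (mt lt_of_blt h), cond_false]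
    change S.sz σ (vmk (ac (lget MG (j - 12)) _) (fld 4 15 (lget PG4 (j - 12)) _) 0) = _
    rw [← (CG_chk h1).2.2 _ (va_lt c)]
    exact (T.sz_conj hd.1.comm (e := e ^^^ ve c) (by
      rw [T.conj_jt hd k c he, T.ιc_vmk h2 h3, T.ιc_vmk h2 h3, pow_zero, mul_one])).symm

theorem sz_tz {c : ℕ} (hc : c < 1024) : S.sz σ c = S.sz σ (lget [0, 1, 20, 64, 65] (tz c)) := by
  have h := reach_tz hc
  generalize lget [0, 1, 20, 64, 65] (tz c) = r at h
  clear hc
  induction h with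
  | base => rfl
  | step c j _ hj ih => rw [T.sz_fz hj, ih]

theorem χz_MA {c e : ℕ} (hc : c < 2048) (he : e < 2) (h : inMask MA4 (c ^^^ 1024 * e) = true) :
    χz z (S.ιc σ c) = χz z (σ (va c) * z ^ e) := by
  have h1 := reach_MA hc he h
  rw [← T.ιc_σ (va_lt c)]
  generalize vmk 0 (va c) e = r at h1
  clear hc h
  induction h1 with
  | base => rfl
  | step c j _ hj ih =>
    rw [← ih, ← χz_conj z (S.sc (2 ^ j)) (S.ιc σ c),
      T.conj_sc (Nat.pow_lt_pow_right (n := 12) one_lt_two hj)]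
    rfl

theorem ιv_add (u v : V11) : S.ιv σ (u + v) = S.ιv σ u * S.ιv σ v := by
  rw [ιv, vcode_add, T.ιc_xor]; rfl

theorem ιv_inj : Function.Injective (S.ιv σ) := fun u v e =>
  vcode_injective (T.ιc_inj (vcode_lt u) (vcode_lt v) e)

theorem ιv_vdec {c : ℕ} (hc : c < 2048) : S.ιv σ (vdec 11 c) = S.ιc σ c := by
  rw [ιv, vcode_vdec (n := 11) hc]

theorem mem_iff' (c : G) : c ∈ S.VV ↔ ∃ v, S.ιv σ v = c :=
  T.mem_iff.trans ⟨fun ⟨v, hv, e⟩ => ⟨_, (T.ιv_vdec hv).trans e⟩, fun ⟨v, e⟩ => ⟨_, vcode_lt v, e⟩⟩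

theorem ιv_z : S.ιv σ (vdec 11 1024) = z := (T.ιv_vdec (by norm_num)).trans T.ιc_z

variable [Finite G]

theorem orbit_z {ν : Subgroup.normalizer (S.VV : Set G) →* GL11}
    (hν : ∀ (g : Subgroup.normalizer (S.VV : Set G)) v, g * S.ιv σ v * (g : G)⁻¹ = S.ιv σ (ν g • v)) :
    orbit ν.range (vdec 11 1024) = {v | IsConj z (S.ιv σ v)} := by
  ext v
  constructor
  · rintro ⟨⟨_, g, rfl⟩, rfl⟩
    change IsConj z (S.ιv σ (ν g • _))
    rw [← hν, isConj_conj, T.ιv_z]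
  · intro h
    obtain ⟨g, hg⟩ := isConj_iff.1 h
    obtain ⟨n, hn, e⟩ := (S.jp.mono le_top).fusion S.ea_VV S.z_mem_VV (hg ▸ (T.mem_iff' _).2 ⟨v, rfl⟩)
    exact ⟨⟨_, ⟨n, hn⟩, rfl⟩, T.ιv_inj (((hν ⟨n, hn⟩ _).symm.trans (by rw [T.ιv_z])).trans
      (e.trans hg))⟩

variable [IsSimpleGroup G]

theorem classes : {v | IsConj z (S.ιv σ v)}.ncard = 1771 ∧
    ∀ c < 1024, S.sz σ c = lget [1, 2, 0, 1, 2] (tz c) := by
  obtain ⟨ν, hν⟩ := CoRec.exists_mu _ T.ιv_add T.ιv_inj T.mem_iff'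
  have h0 : S.sz σ 0 = 1 := by
    rw [sz, T.ιc_zero, one_mul, χz_zero.2 (by rw [isConj_one_left]; exact S.lx.z_ne),
      χz_one.2 (IsConj.refl z)]
  have h1 : ∀ w < 4096, ∀ c, actS w c = c ^^^ 1024 → S.sz σ c = 2 * χz z (S.ιc σ c) :=
    fun w hw c e => by rw [sz, ← T.ιc_mul_z, ← e, ← T.conj_sc hw, χz_conj, two_mul]
  have h2 : S.sz σ 20 = 0 := by
    have := S.κ_sc 20
    rw [sz, T.ιc_sc (by norm_num), χz_zero.2 (S.not_conj_1386 (S.sc_mem _) (by
      rw [this, vv (by norm_num)]; decide +kernel)), χz_zero.2 (S.not_conj_1386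
        (mul_mem (S.sc_mem _) S.lx.z_mem) (by
      rw [S.κ_mul_z (S.sc_mem _), this, vv (by norm_num)]; decide +kernel))]
  have h3 : ∀ c < 1024, S.sz σ c =
      lget [1, 2 * χz z (S.ιc σ 1), 0, S.sz σ 64, 2 * χz z (S.ιc σ 65)] (tz c) := fun c hc => by
    rw [T.sz_tz hc]
    have := tz_lt c
    generalize tz c = t at this
    interval_cases t
    exacts [h0, h1 64 (by norm_num) 1 (by decide +kernel), h2, rfl,
      h1 1472 (by norm_num) 65 (by decide +kernel)]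
  have h4 : S.sz σ 64 < 3 := by
    have := χz_lt z (S.ιc σ 64); have := χz_lt z (S.ιc σ 64 * z); unfold sz; omega
  have h5 : {v | IsConj z (S.ιv σ v)}.ncard = 1 + 90 * χz z (S.ιc σ 1) + 240 * S.sz σ 64 +
      1440 * χz z (S.ιc σ 65) := by
    rw [ncard_eq_sum (f := fun c => χz z (S.ιc σ c)) fun c hc => by
      rw [T.ιv_vdec hc]; exact ⟨χz_one.2, χz_zero.2⟩, show 2048 = 1024 + 1024 from rfl,
      sum_range_add, ← sum_add_distrib, ← sum_tz (χz_lt _ _) h4 (χz_lt _ _)]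
    refine sum_congr rfl fun c hc => ?_
    rw [← h3 c (mem_range.1 hc), sz, ← T.ιc_mul_z, eq_of_beq (allN_spec (by decide +kernel :
      allN (fun c => Nat.beq (1024 + c) (c ^^^ 1024)) 1024 = true) c (mem_range.1 hc))]
  have h6 := (dvd_cases4 (χz_lt _ _) h4 (χz_lt _ _) (by
    rw [← h5, ← T.orbit_z hν]
    exact (Dvd.intro _ (card_eq_orbit_mul _ _).symm).trans
      (Subgroup.card_subgroup_dvd_card _))).resolve_left fun e => by
    rw [e.1, e.2.1, e.2.2] at h5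
    obtain ⟨a, ha⟩ := Set.ncard_eq_one.1 h5
    obtain ⟨v, hv, k1, k2⟩ := S.exists_other
    obtain ⟨w, rfl⟩ := (T.mem_iff' v).1 hv
    have e4 : w = a := ha.le k1
    have e5 : vdec 11 1024 = a := ha.le (show IsConj z _ from T.ιv_z.symm ▸ IsConj.refl z)
    exact k2 (by rw [e4, ← e5, T.ιv_z])
  rw [h6.1, h6.2.1, h6.2.2] at h3 h5
  exact ⟨h5, h3⟩

theorem χz_mul_z {a : ℕ} (h0 : a ≠ 0) (ha : a < 16) : χz z (σ a) + χz z (σ a * z) = 1 := by
  have h1 : ∀ a < 16, a ≠ 0 → vmk 0 a 0 < 1024 ∧ lget [1, 2, 0, 1, 2] (tz (vmk 0 a 0)) = 1 := by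
    decide +kernel
  have h2 := T.classes.2 _ (h1 a ha h0).1
  rwa [(h1 a ha h0).2, sz, T.ιc_σ ha, pow_zero, mul_one] at h2

theorem dB4_iff {c : ℕ} (hc : c < 2048) :
    dB4 (sg4 z σ) c = 1 ↔ c ≠ 0 ∧ ¬ IsConj z (S.ιc σ c) := by
  have h1 := (T.sz_mod c).trans (T.classes.2 _ (Nat.mod_lt c (by norm_num)))
  have h2 := χz_lt z (S.ιc σ c * z)
  have h3 := χz_lt z (σ (va c))
  rw [dB4, bit_sg4 z σ (va_lt c), ← χz_zero]
  rw [sz] at h1
  rcases tb_cases hc with ⟨e, h | h | h⟩ | ⟨e, h, k⟩ | ⟨h, h', ⟨e, k⟩ | ⟨e, k⟩⟩ <;> rw [e]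
  · exact iff_of_false Nat.zero_ne_one fun k => k.1 h
  · exact iff_of_false Nat.zero_ne_one fun k => χz_zero.1 k.2 (by rw [h, T.ιc_z])
  · exact iff_of_false Nat.zero_ne_one fun k => by omega
  · exact iff_of_true rfl ⟨h, by omega⟩
  · rw [T.χz_MA hc (by norm_num) k, pow_zero, mul_one]
    change 1 - _ = 1 ↔ _
    omega
  · have := T.χz_mul_z h' (va_lt c)
    rw [T.χz_MA hc (by norm_num) k, pow_one]
    change χz z _ = 1 ↔ _
    omega

theorem conj_sg {c : G} {A P : ℕ} (h : S.Jt c A P) (hP : μ ⟨c, h.1.1⟩ ∈ Stab) {a : ℕ} (ha : a < 16) :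
    c * σ a * c⁻¹ = σ (cjo P a) * z ^ (bit (sg4 z σ) a ^^^ bit (sg4 z σ) (cjo P a)) := by
  obtain ⟨e, he⟩ := T.conj_σ h hP ha
  have hb := (cjo_spec hP h.1.2.2 ha).1
  have h1 := χz_conj z c (σ a)
  rw [bit_sg4 z σ ha, bit_sg4 z σ hb, ← h1, he]
  rcases S.z_pow_cases e with k | k <;> rw [k]
  · rw [mul_one, Nat.xor_self, pow_zero, mul_one]
  by_cases h0 : cjo P a = 0
  · rw [h0, T.zero, one_mul, χz_one.2 (IsConj.refl z),
      χz_zero.2 (by rw [isConj_one_left]; exact S.lx.z_ne)]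
    simp
  · have h2 := T.χz_mul_z h0 hb
    rw [show χz z (σ (cjo P a) * z) ^^^ χz z (σ (cjo P a)) = 1 by
      rcases (by omega : χz z (σ (cjo P a)) = 0 ∨ χz z (σ (cjo P a)) = 1) with e | e <;>
        rw [show χz z (σ (cjo P a) * z) = 1 - χz z (σ (cjo P a)) by omega, e] <;> rfl, pow_one]

theorem invB4_sg {j : ℕ} (hj : j < 2) : invB4 (sg4 z σ) (lget PG4 j) = true := by
  obtain ⟨c, h, hP⟩ := S.exists_cg hj
  refine allLt_iff.2 fun a ha => allLt_iff.2 fun b hb => Nat.beq_eq ▸ ?_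
  have hk := xor_lt16 ha hb
  have h1 := T.conj_sg h hP hk
  have h2 := fun a ha => (cjo_spec hP h.1.2.2 (a := a) ha).1
  rw [T.mul a ha b hb, ← conj_mul, T.conj_sg h hP ha, T.conj_sg h hP hb, ← T.ιc_σ (h2 _ ha),
    ← T.ιc_σ (h2 _ hb), ← T.ιc_σ (h2 _ hk), ← T.ιc_xor] at h1
  have h3 := congrArg ve (T.ιc_inj (xor_lt2048 (vmk_spec (by norm_num) (h2 _ ha) _).2.2.2
    (vmk_spec (by norm_num) (h2 _ hb) _).2.2.2) (vmk_spec (by norm_num) (h2 _ hk) _).2.2.2 h1)
  have h4 : ∀ a b, (bit (sg4 z σ) a ^^^ bit (sg4 z σ) b) % 2 = bit (sg4 z σ) a ^^^ bit (sg4 z σ) b :=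
    fun a b => Nat.mod_eq_of_lt (Nat.xor_lt_two_pow (n := 1) (by rw [bit_eq]; split <;> decide)
      (by rw [bit_eq]; split <;> decide))
  rw [ve_xor, (vmk_spec (by norm_num) (h2 _ ha) _).2.2.1, (vmk_spec (by norm_num) (h2 _ hb) _).2.2.1,
    (vmk_spec (by norm_num) (h2 _ hk) _).2.2.1, h4, h4, h4, (CG_chk hj).2.2 _ ha,
    (CG_chk hj).2.2 _ hb, (CG_chk hj).2.2 _ hk] at h3
  exact h3

theorem cnt4_eq {y : ℕ} (hy : y < 2048) : cnt4 (sg4 z σ) y =
    {v | (v ≠ 0 ∧ ¬ IsConj z (S.ιv σ v)) ∧ v + vdec 11 y ≠ 0 ∧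
      ¬ IsConj z (S.ιv σ (v + vdec 11 y))}.ncard := by
  have h0 : ∀ c < 2048, vdec 11 c ≠ 0 ↔ c ≠ 0 := fun c hc => not_congr
    ⟨fun e => eq_of_vdec (n := 11) hc (by decide) (e.trans vdec_zero.symm), fun e => e ▸ vdec_zero⟩
  have hl : ∀ c, dB4 (sg4 z σ) c < 2 := fun c => by
    have h1 : bit (sg4 z σ) (va c) < 2 := by rw [bit_eq]; split <;> decide
    unfold dB4
    generalize bit (sg4 z σ) (va c) = b, tb c = t at *
    rcases t with _ | _ | _ | _ | t
    exacts [Nat.two_pos, Nat.one_lt_two, Nat.lt_succ_of_le (Nat.sub_le _ _), h1, Nat.two_pos]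
  rw [cnt4, sumLt2_eq]
  refine (ncard_eq_sum fun c hc => ?_).symm
  have hk := xor_lt2048 hc hy
  rw [← vdec_xor, h0 c hc, h0 _ hk, T.ιv_vdec hc, T.ιv_vdec hk, ← T.dB4_iff hc, ← T.dB4_iff hk,
    force_eq]
  change (_ → dB4 _ c * dB4 _ (c ^^^ y) = 1) ∧ (_ → dB4 _ c * dB4 _ (c ^^^ y) = 0)
  have h1 := hl c
  have h2 := hl (c ^^^ y)
  generalize dB4 _ c = s, dB4 _ (c ^^^ y) = t at *
  interval_cases s <;> interval_cases t <;> simp

theorem sg_eq (h1 : ¬ IsConj z (σ 1)) (h2 : ¬ IsConj z (σ 2)) (h4 : ¬ IsConj z (σ 4))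
    (h8 : ¬ IsConj z (σ 8)) : sg4 z σ = GQ := by
  obtain ⟨ν, hν⟩ := CoRec.exists_mu _ T.ιv_add T.ιv_inj T.mem_iff'
  refine eq_GQ (Nat.ofBits_lt_two_pow _) (by
    rw [bit_sg4 z σ (by norm_num), bit_sg4 z σ (by norm_num), bit_sg4 z σ (by norm_num),
      bit_sg4 z σ (by norm_num), bit_sg4 z σ (by norm_num), χz_zero.2 h1, χz_zero.2 h2, χz_zero.2 h4,
      χz_zero.2 h8, T.zero, χz_zero.2 (by rw [isConj_one_left]; exact S.lx.z_ne)])
    (fun j hj => T.invB4_sg hj) ?_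
  have h3 : vdec 11 1088 ∈ orbit ν.range (vdec 11 1024) := by
    have := T.χz_mul_z one_ne_zero (by norm_num)
    rw [χz_zero.2 h1, zero_add, χz_one, ← pow_one z, ← T.ιc_σ (by norm_num), pow_one] at this
    rw [T.orbit_z hν, Set.mem_ofPred_eq, T.ιv_vdec (by norm_num)]
    exact this
  obtain ⟨⟨_, g, rfl⟩, e⟩ := h3
  have e' : ν g • vdec 11 1024 = vdec 11 1088 := e
  rw [T.cnt4_eq (by decide), T.cnt4_eq (by decide), ← e',
    ← Set.ncard_preimage_of_injective_subset_range (MulAction.injective (ν g))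
      (by rw [(MulAction.surjective (ν g)).range_eq]; exact Set.subset_univ _)]
  congr 1
  ext v
  simp only [Set.mem_preimage, Set.mem_ofPred_eq, ← smul_add, ← hν, isConj_conj, ne_eq,
    smul_eq_zero_iff_eq]

theorem card_N : 244823040 * 2 ^ 11 ≤ Nat.card (Subgroup.normalizer (S.VV : Set G)) := by
  obtain ⟨ν, hν⟩ := CoRec.exists_mu _ T.ιv_add T.ιv_inj T.mem_iff'
  have h1 : ((stabilizer GL11 (vdec 11 1024)).comap ν).index = 1771 := by
    rw [Subgroup.index_comap, ← T.classes.1, ← T.orbit_z hν, ← index_stabilizer]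
    rfl
  have h2 := S.card_pre (K := Stab) inf_le_left
  rw [← Nat.card_congr (Subgroup.subgroupOfEquivOfLe
    fun c hc => (mem_pre_Stab.1 hc).2).toEquiv, card_Stab] at h2
  have h3 := h2.ge.trans (Subgroup.card_le_of_le (K := (stabilizer GL11 (vdec 11 1024)).comap ν)
    fun g hg => T.ιv_inj (by
      rw [← hν, T.ιv_z]
      exact mul_inv_eq_iff_eq_mul.2 ((mem_pre_Stab (S := S)).1 hg).1))
  rw [← Subgroup.index_mul_card ((stabilizer GL11 (vdec 11 1024)).comap ν), h1]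
  exact le_trans (by norm_num) (Nat.mul_le_mul_left _ h3)

end VS

/-- the normaliser of `V` -/
structure PK (S : HS z Q κ ρ μ x) (σ : ℕ → G) (ψ : Subgroup.normalizer (S.VV : Set G) →* M24) :
    Prop extends S.VS σ where
  cls : ∀ {v}, v < 2048 → (IsConj z (S.ιc σ v) ↔ v ≠ 0 ∧ TM.testBit v = false)
  act : ∀ {c A P} (h : S.Jt c A P), μ ⟨c, h.1.1⟩ ∈ Stab → ∀ v,
    c * S.ιc σ v * c⁻¹ = S.ιc σ (actL A P v)
  surj : Function.Surjective ψ
  ker : ∀ g, ψ g = 1 ↔ (g : G) ∈ S.VV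
  conj : ∀ (g : Subgroup.normalizer (S.VV : Set G)) s, Even s.card →
    g * S.θ σ s * (g : G)⁻¹ = S.θ σ ((ψ g : Pm) • s)

theorem exists_pk [Finite G] [IsSimpleGroup G] (S : HS z Q κ ρ μ x) : ∃ σ ψ, S.PK σ ψ := by
  obtain ⟨σ0, T0⟩ := S.exists_vs'
  have h0 : ∀ a < 16, a ≠ 0 → ∃ s, S.Jt s (om a) (ol a) ∧ ¬ IsConj z s := fun a ha h => by
    have := T0.χz_mul_z h ha
    by_cases e : IsConj z (σ0 a)
    · exact ⟨_, (T0.jt a ha).mul_z, χz_zero.1 (by rw [χz_one.2 e] at this; omega)⟩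
    · exact ⟨_, T0.jt a ha, e⟩
  obtain ⟨s1, a1, b1⟩ := h0 1 (by norm_num) (by norm_num)
  obtain ⟨s2, a2, b2⟩ := h0 2 (by norm_num) (by norm_num)
  obtain ⟨s4, a4, b4⟩ := h0 4 (by norm_num) (by norm_num)
  obtain ⟨s8, a8, b8⟩ := h0 8 (by norm_num) (by norm_num)
  obtain ⟨σ, T, rfl, rfl, rfl, rfl⟩ := exists_vs a1 a2 a4 a8
  have h1 := T.sg_eq b1 b2 b4 b8
  have h2 : ∀ v < 2048, TM.testBit v = true ↔ v ≠ 0 ∧ ¬ IsConj z (S.ιc σ v) := fun v hv => by
    rw [← T.dB4_iff hv, h1, dB4_GQ hv, bit_eq_one_iff]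
  have h3 : ∀ s, S.ιv σ (∑ a ∈ s, pq a) = S.θ σ s := fun s => by rw [ιv, sum_pq, θ]
  obtain ⟨ψ, h4, h5⟩ := CoRec.exists_psi _ T.ιv_add T.ιv_inj T.mem_iff' co_pq surj_pq S.cent_VV
    fun g _ v hv w e => by
      rw [mem_Du_pq, h2 _ (vcode_lt _)] at hv ⊢
      refine ⟨fun h => hv.1 (T.ιc_inj (vcode_lt v) (by norm_num) ?_), fun h => hv.2 ?_⟩
      · rw [ιv, ιv, h, T.ιc_zero, conj_eq_one_iff] at e
        rw [e, T.ιc_zero]
      · exact isConj_conj.1 (show IsConj z (g * S.ιv σ v * g⁻¹) from e ▸ h)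
  refine ⟨σ, ψ, T, fun {v} hv => ?_, fun {c A P} h hP v => ?_,
    MonoidHom.range_eq_top.1 (Subgroup.eq_top_of_le_card _ ?_),
    fun g => by rw [← MonoidHom.mem_ker, h4, Subgroup.mem_subgroupOf],
    fun g s hs => by rw [← h3, ← h3, h5 g s hs]⟩
  · rw [← Bool.not_eq_true, h2 v hv, not_and, not_not]
    refine ⟨fun h => ⟨fun e => ?_, fun _ => h⟩, fun h => h.2 h.1⟩
    rw [e, T.ιc_zero, isConj_one_left] at h
    exact S.lx.z_ne h
  · rw [actL, force_eq, force_eq, ← h1]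
    exact T.conj_jt h hP v (T.conj_sg h hP (va_lt v))
  · have h6 := T.card_N
    rw [← Subgroup.index_mul_card ψ.ker, Subgroup.index_ker, h4,
      Nat.card_congr (Subgroup.subgroupOfEquivOfLe Subgroup.le_normalizer).toEquiv, T.card] at h6
    rw [card_M24]
    exact Nat.le_of_mul_le_mul_right h6 (by norm_num)

end HS

end CL.J4
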