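import Cfsg.Agent.SPOR.J4.Five
import Cfsg.Agent.REC.Basic
import Cfsg.Agent.SOLV.CoprimeSylow

/-!
General lemmas on centralisers of elements of odd prime order.
-/

set_option autoImplicit false

namespace CL.J4

open Cfsg CL.Golay CL.MAut CL.Orb Subgroup

variable {G : Type*} [Group G]

/-- a free action on the complement of an invariant subgroup -/
theorem free_dvd [Finite G] {S P F : Subgroup G} (hF : F ≤ P) (hP : S ≤ normalizer (P : Set G))
    (hF' : S ≤ normalizer (F : Set G)) (h : ∀ s ∈ S, s ≠ 1 → ∀ x ∈ P, s * x = x * s → x ∈ F) :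
    Nat.card S ∣ Nat.card P - Nat.card F := by
  let : MulAction G G := MulAction.compHom G MulAut.conj
  let T : SubMulAction S G := ⟨(P : Set G) \ F, fun g x hx =>
    ⟨(hP g.2 x).1 hx.1, fun e => hx.2 ((hF' g.2 x).2 e)⟩⟩
  have e := MulAction.selfEquivOrbitsQuotientProd (G := S) (X := T) fun b => eq_bot_iff.2 fun g hg =>
    mem_bot.2 (Subtype.ext (by_contra fun h1 => b.2.2
      (h g g.2 h1 b b.2.1 (mul_inv_eq_iff_eq_mul.1 (congrArg Subtype.val hg)))))
  rw [← SetLike.coe_sort_coe P, ← SetLike.coe_sort_coe F, Nat.card_coe_set_eq, Nat.card_coe_set_eq,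
    ← Set.ncard_sdiff hF, ← Nat.card_coe_set_eq]
  exact Dvd.intro_left _ ((Nat.card_prod _ _).symm.trans (Nat.card_congr e).symm)

theorem mem_zpowers_of_coprime {a : G} {n : ℕ} (h : n.Coprime (orderOf a)) : a ∈ zpowers (a ^ n) :=
  mem_zpowers_pow_iff.2 h

theorem comm_of_pow {a x : G} {n : ℕ} (h : n.Coprime (orderOf a)) (e : x * a ^ n = a ^ n * x) :
    x * a = a * x := by
  obtain ⟨k, hk⟩ := mem_zpowers_of_coprime h
  exact hk ▸ Commute.zpow_right e k

theorem comm_of_mem_zpowers [Finite G] {u s x : G} {p : ℕ} (hp : p.Prime) (hu : orderOf u = p)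
    (hs : s ∈ zpowers u) (h1 : s ≠ 1) (e : x * s = s * x) : x * u = u * x := by
  have := Fact.mk hp
  obtain ⟨k, hk⟩ := mem_zpowers_of_prime_card ((Nat.card_zpowers u).trans hu)
    (g := ⟨s, hs⟩) (g' := ⟨u, mem_zpowers u⟩) fun e => h1 (congrArg Subtype.val e)
  exact (show s ^ k = u from congrArg Subtype.val hk) ▸ Commute.zpow_right e k

theorem prime_dvd_card_sub_one [Finite G] {u : G} {p : ℕ} (hp : p.Prime) (hu : orderOf u = p)
    {T : Subgroup G} (hT : u ∈ normalizer (T : Set G)) (h : ∀ x ∈ T, x * u = u * x → x = 1) :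
    p ∣ Nat.card T - 1 := by
  have := free_dvd (S := zpowers u) (F := ⊥) bot_le (zpowers_le.2 hT) (by
    rw [normalizer_eq_top]; exact le_top) fun s hs h1 x hx e =>
      h x hx (comm_of_mem_zpowers hp hu hs h1 e.symm)
  rwa [Nat.card_zpowers, hu, card_bot] at this

theorem exists_inv_sylow [Finite G] {A K : Subgroup G} (hA : A ≤ normalizer (K : Set G))
    (hc : (Nat.card A).Coprime (Nat.card K)) (hs : Group.IsSolvable A) {p : ℕ} (hp : p.Prime) :
    ∃ T : Subgroup G, T ≤ K ∧ A ≤ normalizer (T : Set G) ∧ ∃ n m, Nat.card T = p ^ n ∧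
      Nat.card K = p ^ n * m ∧ ¬ p ∣ m := by
  have := Fact.mk hp
  obtain ⟨P, hP⟩ := CL.coprime_exists_invariant_sylow A K hA hc (Or.inl hs) p
  obtain ⟨n, hn⟩ := P.2.exists_card_eq
  exact ⟨_, map_subtype_le _, hP, n, _, (card_map_of_injective K.subtype_injective).trans hn,
    by rw [← hn, card_mul_index], P.not_dvd_index⟩

theorem norm_pow_comm [Finite G] {u x : G} {p : ℕ} (hp : p.Prime) (hu : orderOf u = p)
    (hx : x ∈ normalizer (zpowers u : Set G)) : x ^ (p - 1) * u = u * x ^ (p - 1) := by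
  obtain ⟨k, hk, e⟩ := exists_pow_of_norm hx
  have h0 : k ≠ 0 := by
    rintro rfl
    rw [pow_zero, mul_inv_eq_one, mul_eq_left] at e
    exact hp.one_lt.ne' (hu.symm.trans (e ▸ orderOf_one))
  have := Nat.ModEq.pow_totient (Nat.coprime_of_lt_prime h0 (hu ▸ hk) hp).symm
  rw [Nat.totient_prime hp, ← hu, ← pow_eq_pow_iff_modEq, pow_one, hu] at this
  rw [← mul_inv_eq_iff_eq_mul, conj_pow_pow e, this]

theorem exists_core [Finite G] {x w : G} (hw : orderOf w = 2) (e : w * x = x * w)
    (hx : Odd (orderOf x)) (h : ∀ y ∈ centralizer ({w, x} : Set G), orderOf y = 2 → y = w) :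
    ∃ O : Subgroup G, O ≤ centralizer {x} ∧ Odd (Nat.card O) ∧ x ∈ O ∧
      normalizer (zpowers x : Set G) ≤ normalizer (O : Set G) ∧
      centralizer {w, x} ⊔ O = centralizer {x} := by
  let w' : centralizer {x} := ⟨w, mem_centralizer_singleton_iff.2 e⟩
  let x' : centralizer {x} := ⟨x, mem_centralizer_singleton_iff.2 rfl⟩
  have h1 := Rec.cent_sup_core_of_isolated (z := w') ⟨(orderOf_mk _ _).trans hw, fun g hg =>
    Subtype.ext (h _ (mem_C2.2 ⟨congrArg Subtype.val hg.eq.symm,
      mem_centralizer_singleton_iff.1 (g * w' * g⁻¹).2⟩) ((Inv.orderOf_conj' _ _).trans hw))⟩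
  refine ⟨(oddCore _).map (centralizer {x}).subtype, map_subtype_le _, by
    rw [card_map_of_injective Subtype.val_injective]; exact Rec.odd_card_oddCore, ⟨x', ?_, rfl⟩,
    le_trans (fun n hn => ?_) (CL.normalizer_le_normalizer_map_subtype _ _), ?_⟩
  · have : (zpowers x').Normal := normal_of_le_center (zpowers_le.2 (mem_center_iff.2 fun g =>
      Subtype.ext (mem_centralizer_singleton_iff.1 g.2)))
    exact CL.le_pPrimeCore (N := zpowers x') (by
      rw [Nat.card_zpowers, orderOf_mk]; exact Nat.coprime_two_right.2 hx) (mem_zpowers x')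
  · refine mem_normalizer_fintype fun y hy => ?_
    obtain ⟨k, -, e⟩ := exists_pow_of_norm (inv_mem hn)
    rw [SetLike.mem_coe, mem_centralizer_singleton_iff, ← comm_conj_iff (g := n⁻¹), e,
      show n⁻¹ * (n * y * n⁻¹) * n⁻¹⁻¹ = y by group]
    exact Commute.pow_right (mem_centralizer_singleton_iff.1 hy) k
  · have := congrArg (map (centralizer {x}).subtype) h1
    rw [Subgroup.map_sup, ← MonoidHom.range_eq_map, range_subtype] at this
    refine Eq.trans (congrArg (· ⊔ _) (le_antisymm (fun y hy => ⟨⟨y, mem_centralizer_singleton_iff.2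
      (mem_C2.1 hy).2⟩, mem_centralizer_singleton_iff.2 (Subtype.ext (mem_C2.1 hy).1), rfl⟩) ?_)) this
    rintro _ ⟨y, hy, rfl⟩
    exact mem_C2.2 ⟨congrArg Subtype.val (mem_centralizer_singleton_iff.1 hy),
      mem_centralizer_singleton_iff.1 y.2⟩

/-- lifting a pair that commutes modulo a normalised cyclic group -/
theorem exists_comm_mul [Finite G] {u a d : G} {r : ℕ} (hr : r.Prime) (hd : orderOf d = r)
    (hu : ¬ r ∣ orderOf u) (ha : a ∈ normalizer (zpowers u : Set G))
    (hd' : d ∈ normalizer (zpowers u : Set G)) (e : d⁻¹ * a⁻¹ * d * a ∈ zpowers u) :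
    ∃ b ∈ zpowers u, a * b * d = d * (a * b) := by
  have := Fact.mk hr
  obtain ⟨m, h1, h2⟩ := exists_lift_comm (QuotientGroup.mk' ((zpowers u).subgroupOf
    (normalizer (zpowers u : Set G)))) (y := ⟨d, hd'⟩) ((orderOf_mk _ _).trans hd) (by
      rwa [QuotientGroup.ker_mk', Nat.card_congr (subgroupOfEquivOfLe le_normalizer).toEquiv,
        Nat.card_zpowers]) (n := ⟨a, ha⟩) (by
      rw [← map_mul, ← map_mul, eq_comm]
      exact QuotientGroup.eq.2 (by rwa [mem_subgroupOf, coe_mul, coe_inv, coe_mul, coe_mul, mul_inv_rev,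
        ← mul_assoc]))
  exact ⟨a⁻¹ * m, mem_subgroupOf.1 (QuotientGroup.eq.1 h1.symm), by
    rw [mul_inv_cancel_left]; exact congrArg Subtype.val h2⟩

theorem card_mul_le_inf [Finite G] (A B : Subgroup G) :
    Nat.card G ≤ Nat.card (A ⊓ B : Subgroup G) * (A.index * B.index) :=
  (A ⊓ B).card_mul_index ▸ Nat.mul_le_mul_left _ index_inf_le

theorem dvd_card_cent [Finite G] {a d : G} (e : a * d = d * a) :
    orderOf a ∣ Nat.card (centralizer ({d} : Set G)) :=
  (centralizer {d}).orderOf_dvd_natCard (mem_centralizer_singleton_iff.2 e)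

end CL.J4
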