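import Cfsg.Agent.SPOR.J4.Elev0

/-!
Intersections of two conjugates of `2^11 : M24` that contain an element of order 11.
-/

set_option autoImplicit false

namespace CL.J4

open Cfsg CL.K CL.Golay CL.MAut CL.Orb Subgroup

/-- an element of order 11 fixing the standard duad -/
def P11 : ℕ := 961251459776646755392470988269005920

theorem P11_in : I M24 P11 := I.of_okM (by decide +kernel)

theorem orderOf_P11 : orderOf (toM P11) = 11 := by
  have : Fact (Nat.Prime 11) := ⟨by decide⟩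
  rw [← orderOf_coe]
  exact R.orderOf_eq_prime (R_toM P11_in) (by decide +kernel)

theorem cent_P11 : zpowers (toM P11) = centralizer {toM P11} :=
  eq_of_le_of_card_ge (zpowers_le.2 (mem_centralizer_singleton_iff.2 rfl)) (by
    rw [Nat.card_zpowers, orderOf_P11, Orb.card_of_mem_iff (H := Cent (toM P11)) (Cent_le _) fun a => by
      rw [mem_centralizer_singleton_iff, mem_Cent, and_iff_right a.2, Subtype.ext_iff]; rfl,
      card_eq_ncard fun _ => mem_Cent, ncard_cent lvl0 (R_toM P11_in)]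
    decide +kernel)

theorem M24_two {T : Subgroup M24} (hT : IsPGroup 2 T) {y : M24} (hy : orderOf y = 11)
    (hn : y ∈ normalizer (T : Set M24)) : T = ⊥ := by
  obtain ⟨k, j, -, -, hk⟩ := sylow_conj (p := 11) (by decide) (by rw [card_M24]; decide) hy orderOf_P11
  obtain ⟨n, hc⟩ := hT.exists_card_eq
  have h1 := prime_dvd_card_sub_one (by decide) hy hn fun x hx e => by
    have h2 : k⁻¹ * x * k⁻¹⁻¹ ∈ zpowers (toM P11) := by
      rw [cent_P11, mem_centralizer_singleton_iff, ← comm_conj_iff (g := k), hk,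
        show k * (k⁻¹ * x * k⁻¹⁻¹) * k⁻¹ = x by group]
      exact Commute.pow_right e j
    have h3 := orderOf_dvd_of_mem_zpowers h2
    rw [Inv.orderOf_conj', orderOf_P11] at h3
    exact orderOf_eq_one_iff.1 (Nat.eq_one_of_dvd_coprimes
      (Nat.Coprime.pow_right n (by decide : Nat.Coprime 11 2)) h3 (hc ▸ T.orderOf_dvd_natCard hx))
  have h2 : ¬ 2 ^ 11 ∣ Nat.card M24 := by rw [card_M24]; decide
  have h3 : n < 11 := lt_of_not_ge fun e =>
    h2 ((pow_dvd_pow 2 e).trans (hc ▸ card_subgroup_dvd_card T))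
  rw [hc] at h1
  obtain rfl | rfl : n = 0 ∨ n = 10 := by interval_cases n <;> simp_all
  · exact card_eq_one.1 hc
  have h4 := normalizer_sylow_two (hT.toSylow fun e => h2 (by
    rw [← T.index_mul_card, hc, pow_succ' 2 10]; exact Nat.mul_dvd_mul_right e _))
  have := T.orderOf_dvd_natCard (h4.le hn)
  rw [hy, hc] at this
  exact absurd this (by decide)

variable {G : Type*} [Group G] {z : G} {V : Subgroup G} {θ : Finset GolayPt → G} {χ : M24 →* G}

namespace MS

variable (h : MS z V θ χ)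
include h

theorem exists_proj : ∃ π : normalizer (V : Set G) →* M24,
    ∀ x : normalizer (V : Set G), ∃ s, Even s.card ∧ (x : G) = θ s * χ (π x) := by
  choose s g hs e using fun x : normalizer (V : Set G) => (h.mem_N x).1 x.2
  refine ⟨MonoidHom.mk' g fun a b => (h.decomp (hs (a * b))
    (even_symmDiff (hs a) (even_smul (g a : Pm) (hs b))) ?_).2,
    fun x => ⟨s x, hs x, e x⟩⟩
  rw [← e, ← h.mul_mul (hs a) _ (hs b), ← e, ← e, coe_mul]

variable [Finite G]

theorem two_le {T : Subgroup G} (hT : IsPGroup 2 T) (hM : T ≤ normalizer (V : Set G)) {y : G}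
    (hy : orderOf y = 11) (hy' : y ∈ normalizer (V : Set G)) (hn : y ∈ normalizer (T : Set G)) :
    T ≤ V := fun x hx => by
  obtain ⟨π, hπ⟩ := h.exists_proj
  have k : ∀ x, π x = 1 → (x : G) ∈ V := fun x e => by
    obtain ⟨s, hs, e'⟩ := hπ x
    rw [e', e, map_one, mul_one]; exact h.θ_mem hs
  have := M24_two (T := (T.subgroupOf _).map π) (hT.comap_subtype.map π) (y := π ⟨y, hy'⟩)
    (((Nat.dvd_prime (p := 11) (by decide)).1 ((orderOf_map_dvd π _).trans
      ((orderOf_mk _ _).trans hy).dvd)).resolve_left fun e => by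
        have := V.orderOf_dvd_natCard (k _ (orderOf_eq_one_iff.1 e))
        rw [hy, h.card_V] at this
        exact absurd this (by decide))
    (le_normalizer_map π ⟨_, mem_normalizer_fintype fun a ha => (hn (a : G)).1 ha, rfl⟩)
  exact k ⟨x, hM hx⟩ (this.le ⟨_, hx, rfl⟩)

theorem mem_of_big {T : Subgroup G} {a : G} (h1 : T ≤ V) (h2 : T ≤ V.map (MulAut.conj a).toMonoidHom)
    (hc : 2 ^ 10 ≤ Nat.card T) : a ∈ normalizer (V : Set G) := by
  obtain ⟨d, hd, hT⟩ : ∃ d : Finset GolayPt, d.card = 2 ∧ θ d ∈ T := by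
    have e := (T.subgroupOf V).index_mul_card
    rw [Nat.card_congr (subgroupOfEquivOfLe h1).toEquiv, h.card_V] at e
    have c3 : (E.setOf 3).card = 2 := by decide +kernel
    have c5 : (E.setOf 5).card = 2 := by decide +kernel
    obtain e1 | e1 : (T.subgroupOf V).index = 1 ∨ (T.subgroupOf V).index = 2 := by
      have : (T.subgroupOf V).index ≠ 0 := index_ne_zero_of_finite
      have : (T.subgroupOf V).index < 3 := by nlinarith
      omega
    · exact ⟨_, c3, (index_eq_one.1 e1).ge (mem_top ⟨_, h.θ_mem (even_of_two c3)⟩)⟩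
    by_contra! hn
    refine hn (E.setOf (3 ^^^ 5)) (by decide +kernel) ?_
    rw [E.setOf_xor, h.θ_mul _ _ (even_of_two c3) (even_of_two c5)]
    exact (mul_mem_iff_of_index_two e1 (a := ⟨_, h.θ_mem (even_of_two c3)⟩)
      (b := ⟨_, h.θ_mem (even_of_two c5)⟩)).2 (iff_of_false (hn _ c3) (hn _ c5))
  have e := h.uniq _ (le_trans (fun v hv => mem_centralizer_singleton_iff.2
    ((h.map _).comm_V hv (h2 hT))) (h.cent_duad_le hd)) (elemAb_map _ h.elemAb)
    ((card_map_equiv _ _).trans h.card_V)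
  exact mem_normalizer_fintype fun v hv => e.le ⟨v, hv, rfl⟩

omit [Finite G] in
theorem u_ord : orderOf (χ (toM P11)) = 11 := by rw [orderOf_injective χ h.χ_inj, orderOf_P11]

omit [Finite G] in
theorem u_t : χ (toM P11) * θ (E.setOf D2) = θ (E.setOf D2) * χ (toM P11) :=
  h.χ_comm (toM_mem inf_le_left (I.stab_set P11_in (by decide +kernel)))

theorem fix_u : zpowers (θ (E.setOf D2)) = V ⊓ centralizer {χ (toM P11)} :=
  eq_of_le_of_card_ge (zpowers_le.2 ⟨h.t_mem, mem_centralizer_singleton_iff.2 h.u_t.symm⟩)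
    ((h.card_fix_le P11_in).trans (by rw [Nat.card_zpowers, h.orderOf_t]; decide +kernel))

theorem memK {x : G} (hx : x ∈ normalizer (V : Set G)) (e : x * χ (toM P11) = χ (toM P11) * x) :
    ∃ τ ∈ zpowers (θ (E.setOf D2)), ∃ b ∈ zpowers (χ (toM P11)), x = τ * b := by
  obtain ⟨s, g, hs, rfl⟩ := (h.mem_N x).1 hx
  obtain ⟨e1, e2⟩ := (h.comm_χ_iff hs g _).1 e
  refine ⟨_, h.fix_u ▸ ⟨h.θ_mem hs, mem_centralizer_singleton_iff.2 e1.symm⟩, _, ?_, rfl⟩
  rw [← MonoidHom.map_zpowers, cent_P11]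
  exact ⟨g, mem_centralizer_singleton_iff.2 e2, rfl⟩

omit [Finite G] in
theorem τ_comm {τ b : G} (hτ : τ ∈ zpowers (θ (E.setOf D2))) (hb : b ∈ zpowers (χ (toM P11))) :
    Commute τ b := by
  obtain ⟨k, rfl⟩ := hτ
  obtain ⟨j, rfl⟩ := hb
  exact Commute.zpow_zpow h.u_t.symm k j

theorem mem_u_of_odd {x : G} (hx : x ∈ normalizer (V : Set G))
    (e : x * χ (toM P11) = χ (toM P11) * x) (ho : Odd (orderOf x)) : x ∈ zpowers (χ (toM P11)) := by
  obtain ⟨τ, hτ, b, hb, rfl⟩ := h.memK hx e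
  have h1 : (τ * b) ^ 11 = τ ^ 11 := by
    rw [(h.τ_comm hτ hb).mul_pow, orderOf_dvd_iff_pow_eq_one.1
      ((orderOf_dvd_of_mem_zpowers hb).trans h.u_ord.dvd), mul_one]
  have h2 := orderOf_dvd_of_mem_zpowers (pow_mem hτ 11)
  rw [h.orderOf_t, ← h1] at h2
  have h3 : (τ * b) ^ 11 = 1 := orderOf_eq_one_iff.1 (Nat.eq_one_of_dvd_coprimes
    (Nat.coprime_two_left.2 ho) h2 (orderOf_pow_dvd 11))
  rw [h1] at h3
  rwa [show τ = 1 from orderOf_eq_one_iff.1 (Nat.eq_one_of_dvd_coprimes (by decide : Nat.Coprime 2 11)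
    (h.orderOf_t ▸ orderOf_dvd_of_mem_zpowers hτ) (orderOf_dvd_of_pow_eq_one h3)), one_mul]

theorem norm_u_t {d : G} (hd : d ∈ normalizer (V : Set G))
    (hd' : d ∈ normalizer (zpowers (χ (toM P11)) : Set G)) :
    d * θ (E.setOf D2) = θ (E.setOf D2) * d := by
  classical
  obtain ⟨k, -, e⟩ := exists_pow_of_norm (inv_mem hd')
  have : d * θ (E.setOf D2) * d⁻¹ ∈ zpowers (θ (E.setOf D2)) := h.fix_u ▸ ⟨(hd _).1 h.t_mem,
    mem_centralizer_singleton_iff.2 <| by
    rw [← comm_conj_iff (g := d⁻¹), e,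
      show d⁻¹ * (d * θ (E.setOf D2) * d⁻¹) * d⁻¹⁻¹ = θ (E.setOf D2) by group]
    exact Commute.pow_right h.u_t.symm k⟩
  obtain ⟨j, hj, e'⟩ := Finset.mem_image.1 (mem_zpowers_iff_mem_range_orderOf.1 this)
  rw [h.orderOf_t, Finset.mem_range] at hj
  interval_cases j
  · rw [pow_zero, eq_comm, mul_inv_eq_one, mul_eq_left] at e'
    exact absurd (h.orderOf_t.symm.trans (e' ▸ orderOf_one)) (by decide)
  · exact mul_inv_eq_iff_eq_mul.1 (e'.symm.trans (pow_one _))

end MS

theorem JS.exists_d [Finite G] (h : JS z V θ χ) {a : G} (ha : a ∉ normalizer (V : Set G))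
    (hu : χ (toM P11) ∈ normalizer (V.map (MulAut.conj a).toMonoidHom : Set G)) :
    ∃ d ∈ normalizer (V : Set G) ⊓ normalizer (V.map (MulAut.conj a).toMonoidHom : Set G),
      d ∈ normalizer (zpowers (χ (toM P11)) : Set G) ∧ (orderOf d = 2 ∨ orderOf d = 5) := by
  by_contra! hn
  have : Fact (Nat.Prime 11) := ⟨by decide⟩
  set S := normalizer (V : Set G) ⊓ normalizer (V.map (MulAut.conj a).toMonoidHom : Set G)
  have uS : χ (toM P11) ∈ S := ⟨h.χ_mem_N _, hu⟩
  have k1 : ∀ x ∈ S, x ∈ normalizer (zpowers (χ (toM P11)) : Set G) → x ∈ zpowers (χ (toM P11)) :=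
    fun x hx hx' => by
      have k : ∀ p, p.Prime → p ∣ orderOf x → p ≠ 2 ∧ p ≠ 5 := fun p hp e => by
        have := hn _ (pow_mem hx (orderOf x / p)) (pow_mem hx' _)
        rwa [orderOf_pow_orderOf_div (orderOf_pos x).ne' e] at this
      have k2 : ¬ 2 ∣ orderOf x := fun e => (k 2 (by decide) e).1 rfl
      have k5 : ¬ 5 ∣ orderOf x := fun e => (k 5 (by decide) e).2 rfl
      refine h.mem_u_of_odd hx.1 (comm_of_pow (n := 10) (Nat.Coprime.mul_left (m := 2) (n := 5)
        ((Nat.Prime.coprime_iff_not_dvd (by decide)).2 k2)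
        ((Nat.Prime.coprime_iff_not_dvd (by decide)).2 k5))
        (norm_pow_comm (by decide) h.u_ord hx').symm).symm (Nat.odd_iff.2 (by omega))
  have dS : Nat.card S ∣ 2 ^ 11 * 244823040 := h.card_N ▸ card_dvd_of_le inf_le_left
  have cP : Nat.card (zpowers (⟨_, uS⟩ : S)) = 11 := by rw [Nat.card_zpowers, orderOf_mk, h.u_ord]
  let P : Sylow 11 S := (IsPGroup.of_card (n := 1) cP).toSylow fun e => by
    rw [← (zpowers (⟨_, uS⟩ : S)).index_mul_card, cP] at dS
    exact absurd ((Nat.mul_dvd_mul_right e 11).trans dS) (by decide)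
  obtain ⟨K, hN, hK⟩ : ∃ K : Subgroup S, K.Normal ∧ K.IsComplement' P :=
    ⟨_, inferInstance, MonoidHom.ker_transferSylow_isComplement' P fun x hx => by
      obtain ⟨j, e⟩ := mem_normalizer_zpowers_iff.1 hx
      obtain ⟨k, e'⟩ := k1 x x.2 (mem_normalizer_zpowers_iff.2 ⟨j, congrArg Subtype.val e⟩)
      exact mem_centralizer_zpowers_iff.2 (Subtype.ext (show (x : G) * _ = _ * x from
        e' ▸ Commute.zpow_self _ k))⟩
  have cK : Nat.card (K.map S.subtype) * 11 = Nat.card S := by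
    rw [card_map_of_injective S.subtype_injective, ← cP]; exact hK.card_mul_card
  have n11 : ¬ 11 ∣ Nat.card (K.map S.subtype) := fun e =>
    absurd ((Nat.mul_dvd_mul_right e 11).trans (cK ▸ dS)) (by decide)
  have key : ∀ {p : ℕ}, p.Prime → ∃ T : Subgroup G, T ≤ S ∧ χ (toM P11) ∈ normalizer (T : Set G) ∧
      ∃ n m, Nat.card T = p ^ n ∧ Nat.card (K.map S.subtype) = p ^ n * m ∧ ¬ p ∣ m ∧ 11 ∣ p ^ n - 1 :=
    fun hp => by
      obtain ⟨T, t1, t2, n, m, t3, t4, t5⟩ := exists_inv_sylow (A := zpowers (χ (toM P11)))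
        (K := K.map S.subtype) (zpowers_le.2 (mem_normalizer_fintype (by
          rintro _ ⟨y, hy, rfl⟩; exact ⟨_, hN.conj_mem y hy ⟨_, uS⟩, rfl⟩)))
        (by rw [Nat.card_zpowers, h.u_ord]; exact (Nat.Prime.coprime_iff_not_dvd (by decide)).2 n11)
        inferInstance hp
      refine ⟨T, t1.trans (map_subtype_le _), t2 (mem_zpowers _), n, m, t3, t4, t5, t3 ▸
        prime_dvd_card_sub_one (by decide) h.u_ord (t2 (mem_zpowers _)) fun x hx e => ?_⟩
      obtain ⟨y, hy, rfl⟩ := t1 hx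
      obtain ⟨k, e'⟩ := k1 y y.2 (mem_normalizer_zpowers_iff.2
        ((mul_inv_eq_iff_eq_mul.2 e).symm ▸ mem_zpowers _ : S.subtype y * _ * _ ∈ _))
      exact congrArg Subtype.val (disjoint_def.1 hK.disjoint hy ⟨k, Subtype.ext e'⟩)
  have dK : Nat.card (K.map S.subtype) ∣ 2 ^ 11 * 244823040 := (Dvd.intro _ cK).trans dS
  have np : ∀ {p : ℕ}, p.Prime → ¬ p ^ 4 ∣ 2 ^ 11 * 244823040 → (∀ n < 4, 11 ∣ p ^ n - 1 → n = 0) →
      ¬ p ∣ Nat.card (K.map S.subtype) := fun {p} hp h1 h2 => by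
    obtain ⟨T, -, -, n, m, -, t4, t5, t6⟩ := key hp
    obtain rfl := h2 n (lt_of_not_ge fun e => h1
      ((pow_dvd_pow p e).trans ((Dvd.intro _ t4.symm).trans dK))) t6
    rwa [t4, pow_zero, one_mul]
  obtain ⟨T, t1, t2, n, m, t3, t4, t5, t6⟩ := key Nat.prime_two
  have cp : ∀ {p : ℕ}, p.Prime → ¬ p ∣ Nat.card (K.map S.subtype) → m.Coprime p := fun hp e =>
    ((Nat.Prime.coprime_iff_not_dvd hp).2 fun e' => e (e'.trans (Dvd.intro_left _ t4.symm))).symm
  have hm : m ∣ 23 := Nat.Coprime.dvd_of_dvd_mul_left (m := 2 ^ 21 * 3 ^ 3 * 5 * 7 * 11)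
    ((((Nat.Coprime.pow_right _ ((Nat.Prime.coprime_iff_not_dvd Nat.prime_two).2 t5).symm).mul_right
      (Nat.Coprime.pow_right _ (cp (by decide) (np (by decide) (by decide) (by decide))))).mul_right
      (cp (by decide) (np (by decide) (by decide) (by decide)))).mul_right
      (cp (by decide) (np (by decide) (by decide) (by decide))) |>.mul_right (cp (by decide) n11))
    ((Dvd.intro_left _ t4.symm).trans (dK.trans (by decide)))
  have hT : IsPGroup 2 T := IsPGroup.of_card t3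
  refine ha (h.mem_of_big (h.two_le hT (t1.trans inf_le_left) h.u_ord uS.1 t2)
    ((h.map _).two_le hT (t1.trans inf_le_right) h.u_ord hu t2) ?_)
  have i1 := (normalizer (V : Set G)).index_mul_card
  have i2 := (normalizer (V.map (MulAut.conj a).toMonoidHom : Set G)).index_mul_card
  have b := card_mul_le_inf (normalizer (V : Set G))
    (normalizer (V.map (MulAut.conj a).toMonoidHom : Set G))
  rw [h.card_N, h.card_G] at i1
  rw [(h.map _).card_N, h.card_G] at i2
  rw [show (normalizer (V : Set G)).index = 173067389 by omega,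
    show (normalizer (V.map (MulAut.conj a).toMonoidHom : Set G)).index = 173067389 by omega,
    h.card_G, ← cK, t4] at b
  have := Nat.le_of_dvd (by decide) hm
  rw [t3]
  by_contra! hlt
  have : n < 10 := (Nat.pow_lt_pow_iff_right (by decide)).1 hlt
  interval_cases n <;> omega

end CL.J4
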