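import Cfsg.Agent.SPOR.J4.Elev1

/-!
Centralisers of the elements of order 11.
-/

set_option autoImplicit false

namespace CL.J4

open Cfsg CL.K CL.Golay CL.MAut CL.Orb Subgroup
open scoped Pointwise

variable {G : Type*} [Group G] {z : G} {V : Subgroup G} {θ : Finset GolayPt → G} {χ : M24 →* G}

theorem dvd_of_not_dvd {m n : ℕ} (L : List (ℕ × ℕ)) (hL : ∀ x ∈ L, x.1.Prime ∧ ¬ x.1 ∣ m)
    (h : m ∣ (L.map fun x => x.1 ^ x.2).prod * n) : m ∣ n :=
  Nat.Coprime.dvd_of_dvd_mul_left (Nat.coprime_list_prod_right_iff.2 fun y hy => by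
    obtain ⟨x, hx, rfl⟩ := List.mem_map.1 hy
    exact Nat.Coprime.pow_right _ ((hL x hx).1.coprime_iff_not_dvd.2 (hL x hx).2).symm) h

theorem eq_of_mem_zpowers {t τ : G} (ht : orderOf t = 2) (h : τ ∈ zpowers t) : τ = 1 ∨ τ = t := by
  classical
  obtain ⟨j, hj, rfl⟩ := Finset.mem_image.1 ((isOfFinOrder_iff_pow_eq_one.2
    ⟨2, two_pos, ht ▸ pow_orderOf_eq_one t⟩).mem_zpowers_iff_mem_range_orderOf.1 h)
  rw [ht, Finset.mem_range] at hj
  interval_cases j <;> simp

theorem exists_orderOf [Finite G] {K : Subgroup G} {p : ℕ} (hp : p.Prime) (h : p ∣ Nat.card K) :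
    ∃ a ∈ K, orderOf a = p := by
  have := Fact.mk hp
  obtain ⟨a, ha⟩ := exists_prime_orderOf_dvd_card' p h
  exact ⟨a, a.2, (orderOf_coe a).trans ha⟩

theorem conj_in [Finite G] {K : Subgroup G} {p : ℕ} (hp : p.Prime) (hc : ¬ p ^ 2 ∣ Nat.card K) {a b : G}
    (ha : a ∈ K) (hb : b ∈ K) (oa : orderOf a = p) (ob : orderOf b = p) :
    ∃ k ∈ K, ∃ j, j.Coprime p ∧ k * b * k⁻¹ = a ^ j := by
  obtain ⟨k, j, h1, h2, e⟩ := sylow_conj (K := K) hp hc (a := ⟨a, ha⟩) (b := ⟨b, hb⟩)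
    ((orderOf_mk _ _).trans oa) ((orderOf_mk _ _).trans ob)
  exact ⟨k, k.2, j, (Nat.coprime_of_lt_prime h1.ne' h2 hp).symm, congrArg Subtype.val e⟩

theorem conj_mul_conj (a g x : G) : a * g * x * (a * g)⁻¹ = a * (g * x * g⁻¹) * a⁻¹ := by group

/-- the special linear group of order 24 -/
abbrev SL23 : Type := Matrix.SpecialLinearGroup (Fin 2) (ZMod 3)

/-- an element of order 11 in the centraliser of `z` -/
structure Ele (z c : G) (φ : GL (Fin 2) (ZMod 3) →* G) : Prop where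
  ord : orderOf c = 11
  cz : c * z = z * c
  cK : Nat.card (centralizer ({z, c} : Set G)) = 264
  cN : Nat.card (centralizer ({z} : Set G) ⊓ normalizer (zpowers c : Set G) : Subgroup G) = 2640
  inj : Function.Injective φ
  neg : φ (-1) = z
  act : ∀ k, φ k * c * (φ k)⁻¹ = if Matrix.GeneralLinearGroup.det k = 1 then c else c⁻¹

theorem JS.exists_ele (h : JS z V θ χ) : ∃ c φ, Ele z c φ := by
  obtain ⟨c, h1, h2, h3, h4, φ, h5, h6, h7⟩ := h.eleven
  exact ⟨c, φ, h1, h2, h3, h4, h5, h6, h7⟩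

namespace Ele

variable {c : G} {φ : GL (Fin 2) (ZMod 3) →* G} (e : Ele z c φ)
include e

variable (φ) in
omit e in
/-- the restriction to determinant one -/
abbrev ψ : SL23 →* G := φ.comp Matrix.SpecialLinearGroup.toGL

theorem ψ_inj : Function.Injective (ψ φ) := e.inj.comp Matrix.SpecialLinearGroup.toGL_injective

theorem ψ_neg : ψ φ (-1) = z := (congrArg φ (by decide)).trans e.neg

theorem ψ_mem (k : SL23) : ψ φ k ∈ centralizer ({z, c} : Set G) := mem_C2.2
  ⟨by rw [← e.ψ_neg, ← map_mul, ← map_mul, mul_neg_one, neg_one_mul],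
    mul_inv_eq_iff_eq_mul.1 ((e.act _).trans (if_pos (by simp)))⟩

variable [Finite G]

theorem φ_mem (k) : φ k ∈ normalizer (zpowers c : Set G) := mem_normalizer_zpowers_iff.2 (by
  rw [e.act]
  split_ifs
  exacts [mem_zpowers c, inv_mem (mem_zpowers c)])

theorem memK {x : G} (hx : x ∈ centralizer ({z, c} : Set G)) : ∃ b ∈ zpowers c, ∃ k, x = b * ψ φ k := by
  let F : zpowers c × SL23 →* G := (zpowers c).subtype.noncommCoprod (ψ φ) (by
    rintro ⟨_, n, rfl⟩ k; exact Commute.zpow_left (mem_C2.1 (e.ψ_mem k)).2.symm n)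
  have hF : Function.Injective F := (injective_iff_map_eq_one _).2 fun ⟨b, k⟩ h => by
    have h1 : (b : G) = ψ φ k⁻¹ := by rw [map_inv]; exact eq_inv_of_mul_eq_one_left h
    have h2 := orderOf_dvd_natCard k⁻¹
    rw [← orderOf_injective _ e.ψ_inj, ← h1, Nat.card_eq_fintype_card,
      show Fintype.card SL23 = 24 by decide +kernel] at h2
    have h3 : (b : G) = 1 := orderOf_eq_one_iff.1 (Nat.eq_one_of_dvd_coprimes
      (by decide : Nat.Coprime 11 24) (e.ord ▸ orderOf_dvd_of_mem_zpowers b.2) h2)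
    exact Prod.ext (Subtype.ext h3) (inv_eq_one.1 (e.ψ_inj (h1.symm.trans (h3.trans (map_one _).symm))))
  have : F.range = centralizer ({z, c} : Set G) := eq_of_le_of_card_ge (by
    rintro _ ⟨⟨⟨_, n, rfl⟩, k⟩, rfl⟩
    exact mul_mem (zpow_mem (mem_C2.2 ⟨e.cz, rfl⟩) n) (e.ψ_mem k)) (by
    rw [e.cK, ← Nat.card_congr (MonoidHom.ofInjective hF).toEquiv, Nat.card_prod, Nat.card_zpowers,
      e.ord, Nat.card_eq_fintype_card, show Fintype.card SL23 = 24 by decide +kernel])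
  obtain ⟨⟨b, k⟩, rfl⟩ := this.ge hx
  exact ⟨b, b.2, k, rfl⟩

theorem uniq : ∀ y ∈ centralizer ({z, c} : Set G), orderOf y = 2 → y = z := fun y hy o => by
  obtain ⟨_, ⟨n, rfl⟩, k, rfl⟩ := e.memK hy
  have h1 : (c ^ n * ψ φ k) ^ 11 = ψ φ (k ^ 11) := by
    rw [(Commute.zpow_left (mem_C2.1 (e.ψ_mem k)).2.symm n).mul_pow, map_pow,
      orderOf_dvd_iff_pow_eq_one.1 (e.ord ▸ orderOf_dvd_of_mem_zpowers ⟨n, rfl⟩), one_mul]
  rw [← pow_mod_orderOf, o, pow_one] at h1
  rw [h1, orderOf_injective _ e.ψ_inj] at o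
  rw [h1, ((by decide +kernel : ∀ k : SL23, k * k = 1 → k = 1 ∨ k = -1) _
    (Inv.mul_self_of_orderOf_two o)).resolve_left fun e' => absurd (o.symm.trans (e' ▸ orderOf_one))
      (by decide), e.ψ_neg]

theorem orbit : {v : G | ∃ n ∈ normalizer (zpowers c : Set G), n * c * n⁻¹ = v} =
    (zpowers c : Set G) \ {1} := by
  have h1 := card_eq_orbit_mul (centralizer ({z} : Set G) ⊓ normalizer (zpowers c : Set G)) c
  rw [e.cN, show centralizer ({z} : Set G) ⊓ normalizer (zpowers c : Set G) ⊓ centralizer {c} =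
    centralizer {z, c} from Subgroup.ext fun x => by
      rw [mem_C2, mem_inf, mem_inf, mem_centralizer_singleton_iff, mem_centralizer_singleton_iff]
      exact ⟨fun h => ⟨h.1.1, h.2⟩, fun h => ⟨⟨h.1, centralizer_le_normalizer _
        (mem_centralizer_zpowers_iff.2 h.2)⟩, h.2⟩⟩, e.cK] at h1
  refine Set.eq_of_subset_of_ncard_le ?_ ?_
  · rintro _ ⟨n, hn, rfl⟩
    refine ⟨mem_normalizer_zpowers_iff.1 hn, fun h => ?_⟩
    rw [Set.mem_singleton_iff, mul_inv_eq_one, mul_eq_left] at h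
    exact absurd (e.ord.symm.trans (h ▸ orderOf_one)) (by decide)
  · rw [Set.ncard_sdiff_singleton_of_mem (one_mem _), ← Nat.card_coe_set_eq, SetLike.coe_sort_coe,
      Nat.card_zpowers, e.ord]
    exact le_trans (by omega) (Set.ncard_le_ncard (s := {v : G | ∃ n ∈ centralizer ({z} : Set G) ⊓
      normalizer (zpowers c : Set G), n * c * n⁻¹ = v}) fun _ ⟨n, hn, h⟩ => ⟨n, hn.2, h⟩)

variable (h : JS z V θ χ)
include h

theorem no_t {w : G} (hw : IsConj (θ (E.setOf D2)) w) : w * c ≠ c * w := fun hc => by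
  have h1 := Inv.mul_self_of_orderOf_two h.orderOf_z
  have h2 := sq_of_isConj hw (h.θ_sq even_D2)
  have hn : ¬ IsConj z w := fun e' => h.not_conj (e'.trans hw.symm)
  obtain ⟨m, hm⟩ := Inv.even_orderOf_of_not_isConj h1 h2 hn
  have := orderOf_pos (z * w)
  obtain ⟨k1, k2, k3⟩ := Inv.central_involution_of_even h1 h2 (m := m) (by omega) (by omega)
  rw [e.uniq _ (mem_C2.2 ⟨k2.symm, Commute.pow_left (Commute.mul_left e.cz.symm hc) m⟩) k1] at k3
  obtain ⟨g, hg⟩ := isConj_iff.1 hw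
  exact hn (e.uniq w (mem_C2.2 ⟨k3, hc⟩) (by rw [← hg, Inv.orderOf_conj', h.orderOf_t]) ▸ IsConj.refl w)

theorem three_c {y x : G} (hy : orderOf y = 3) (hx : orderOf x = 11) (hc : x * y = y * x) :
    ∃ m k j, m * ψ φ k * m⁻¹ = y ∧ j.Coprime 11 ∧ m * c * m⁻¹ = x ^ j := by
  let k : SL23 := ⟨!![1, 1; 0, 1], by decide⟩
  have : Fact (Nat.Prime 3) := ⟨by decide⟩
  obtain ⟨g, hg⟩ := isConj_iff.1 (h.three_conj (ψ φ k) y (by
    rw [orderOf_injective _ e.ψ_inj]; exact orderOf_eq_prime (by decide) fun e => absurd (congrArg Subtype.val e) (by decide)) hy)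
  obtain ⟨a, ha, j, hj, e'⟩ := conj_in (K := centralizer {y}) (p := 11) (by decide)
    (by rw [h.three y hy]; decide) (mem_centralizer_singleton_iff.2 hc) (b := g * c * g⁻¹)
    (mem_centralizer_singleton_iff.2 (hg ▸ comm_conj_iff.2 (mem_C2.1 (e.ψ_mem k)).2.symm)) hx
    ((Inv.orderOf_conj' _ _).trans e.ord)
  exact ⟨a * g, k, j, by rw [conj_mul_conj, hg, mem_centralizer_singleton_iff.1 ha, mul_inv_cancel_right],
    hj, (conj_mul_conj _ _ _).trans e'⟩

theorem exists_O : ∃ O : Subgroup G, Nat.card O = 11 ^ 3 ∧ c ∈ O ∧ O ≤ centralizer {c} ∧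
    normalizer (zpowers c : Set G) ≤ normalizer (O : Set G) ∧ Nat.card (centralizer {c}) = 24 * 11 ^ 3 := by
  have : Fact (Nat.Prime 11) := ⟨by decide⟩
  obtain ⟨O, o1, o2, o3, o4, o5⟩ := exists_core h.orderOf_z e.cz.symm (by rw [e.ord]; decide) e.uniq
  have l1 : centralizer {c} ≤ normalizer (zpowers c : Set G) := cent_zpowers c ▸ centralizer_le_normalizer _
  have l2 : centralizer ({z, c} : Set G) ≤ centralizer {c} := o5 ▸ le_sup_left
  have kO : ∀ k, ψ φ k ∈ O → k = 1 := fun k hk => by_contra fun h1 => by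
    obtain ⟨g, n, h2⟩ : ∃ g : SL23, ∃ n < 4, k ^ n = -1 ∨ (k * (g * k * g⁻¹)) ^ n = -1 := by
      clear hk; revert k; decide +kernel
    have : z ∈ O := by
      rcases h2.2 with h3 | h3 <;> rw [← e.ψ_neg, ← h3, map_pow]
      · exact pow_mem hk n
      · rw [map_mul, map_mul, map_mul, map_inv]
        exact pow_mem (mul_mem hk ((o4 (l1 (l2 (e.ψ_mem g))) _).1 hk)) n
    exact o2.not_two_dvd_nat (h.orderOf_z ▸ O.orderOf_dvd_natCard this)
  have i1 : centralizer ({z, c} : Set G) ⊓ O = zpowers c := le_antisymm (fun x hx => by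
    obtain ⟨b, hb, k, rfl⟩ := e.memK hx.1
    rwa [kO k ((mul_mem_cancel_left (zpowers_le.2 o3 hb)).1 hx.2), map_one, mul_one])
    (zpowers_le.2 ⟨mem_C2.2 ⟨e.cz, rfl⟩, o3⟩)
  have c1 := CL.card_sup_mul_card_inf_of_le_normalizer (l2.trans (l1.trans o4))
  rw [o5, i1, Nat.card_zpowers, e.ord, e.cK] at c1
  obtain ⟨S', hS⟩ := Sylow.exists_subgroup_card_pow_prime (G := centralizer ({z, c} : Set G)) 2 (n := 3)
    (by rw [e.cK]; decide)
  rw [← card_map_of_injective (subtype_injective _)] at hS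
  have l3 := map_subtype_le S'
  generalize S'.map (centralizer ({z, c} : Set G)).subtype = S at hS l3
  have fr : ∀ s ∈ S, s ≠ 1 → ∀ x ∈ O, s * x = x * s → x ∈ zpowers c := fun s hs h1 x hx hc => by
    have h2 := (Nat.dvd_prime_pow Nat.prime_two).1 (hS ▸ S.orderOf_dvd_natCard hs)
    have h3 : 2 ∣ orderOf s := by
      obtain ⟨n, -, h3⟩ := h2
      rw [h3]
      exact dvd_pow_self 2 fun h0 => h1 (orderOf_eq_one_iff.1 (by rw [h3, h0, pow_zero]))
    rw [← i1]
    refine ⟨mem_C2.2 ⟨?_, mem_centralizer_singleton_iff.1 (o1 hx)⟩, hx⟩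
    rw [← e.uniq _ (pow_mem (l3 hs) _) (orderOf_pow_orderOf_div (orderOf_pos s).ne' h3)]
    exact Commute.pow_right hc.symm _
  have np : ∀ {p : ℕ}, p.Prime → ¬ p ^ 2 ∣ 86775571046077562880 → ¬ 8 ∣ p - 1 → ¬ p ∣ Nat.card O :=
    fun {p} hp h1 h2 h3 => by
      obtain ⟨T, t1, t2, n, m, t3, t4, t5⟩ := exists_inv_sylow (l3.trans (l2.trans (l1.trans o4)))
        (hS ▸ Nat.Coprime.pow_left 3 (Nat.coprime_two_left.2 o2))
        (have := (IsPGroup.of_card hS).isNilpotent; inferInstance) hp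
      have h4 := free_dvd (F := ⊥) bot_le t2 (by rw [normalizer_eq_top]; exact le_top)
        fun s hs h5 x hx hc => mem_bot.2 (orderOf_eq_one_iff.1 (Nat.eq_one_of_dvd_coprimes
          (Nat.Coprime.pow_left n ((Nat.coprime_primes hp (by decide : Nat.Prime 11)).2
            (by rintro rfl; exact h1 (by decide)))) (t3 ▸ T.orderOf_dvd_natCard hx)
          (e.ord ▸ orderOf_dvd_of_mem_zpowers (fr s hs h5 x (t1 hx) hc))))
      have : n < 2 := lt_of_not_ge fun h5 => h1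
        ((pow_dvd_pow p h5).trans (t3 ▸ h.card_G ▸ card_subgroup_dvd_card T))
      rw [hS, t3, card_bot] at h4
      interval_cases n
      · exact t5 (by simpa [t4] using h3)
      · exact h2 (pow_one p ▸ h4)
  have n3 : ¬ 3 ∣ Nat.card O := fun h3 => by
    obtain ⟨y, hy, oy⟩ := exists_orderOf (by decide) h3
    obtain ⟨m, k, j, rfl, -, h5⟩ := e.three_c h oy e.ord (mem_centralizer_singleton_iff.1 (o1 hy)).symm
    rw [kO k ((o4 (mem_normalizer_zpowers_iff.2 (h5 ▸ npow_mem_zpowers c j)) _).2 hy), map_one, mul_one,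
      mul_inv_cancel, orderOf_one] at oy
    exact absurd oy (by decide)
  have d1 : Nat.card O ∣ 11 ^ 3 := dvd_of_not_dvd [(2, 21), (3, 3), (5, 1), (7, 1), (23, 1), (29, 1),
    (31, 1), (37, 1), (43, 1)] (by
      simp only [List.forall_mem_cons, List.not_mem_nil, false_imp_iff, implies_true, and_true]
      refine ⟨⟨by decide, o2.not_two_dvd_nat⟩, ⟨by decide, n3⟩, ?_, ?_, ?_, ?_, ?_, ?_, ?_⟩ <;>
        exact ⟨by decide, np (by decide) (by decide) (by decide)⟩)
    ((card_subgroup_dvd_card O).trans (h.card_G ▸ by decide))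
  have d2 := free_dvd (zpowers_le.2 o3) (l3.trans (l2.trans (l1.trans o4))) (l3.trans (l2.trans l1)) fr
  obtain ⟨Y, y1, y2⟩ := Sylow.exists_subgroup_card_pow_succ (p := 11) (n := 1) (H := zpowers c)
    (by rw [h.card_G]; decide) (by rw [Nat.card_zpowers, e.ord, pow_one])
  have d3 := card_dvd_of_le (show Y ≤ centralizer {c} from fun x hx => mem_centralizer_singleton_iff.2
    (congrArg Subtype.val ((IsPGroup.isMulCommutative_of_card_eq_prime_sq y1).1.1 ⟨x, hx⟩
      ⟨c, y2 (mem_zpowers c)⟩)))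
  rw [hS, Nat.card_zpowers, e.ord] at d2
  rw [y1] at d3
  obtain ⟨n, hn, d4⟩ := (Nat.dvd_prime_pow (by decide)).1 d1
  rw [d4] at c1 d2
  interval_cases n
  · omega
  · omega
  · omega
  · exact ⟨O, d4, o3, o1, o4, by omega⟩

end Ele

end CL.J4
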