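import Cfsg.Agent.SPOR.J4.Big
import Cfsg.Agent.PLOC.FpfLine

/-!
Counting conjugacy classes prime by prime.
-/

set_option autoImplicit false

namespace CL.J4

open Subgroup

variable {G : Type*} [Group G]

/-- `v` is conjugate to `u` under `H` -/
def Cj (H : Subgroup G) (u v : G) : Prop := ∃ n ∈ H, n * u * n⁻¹ = v

/-- the number of `H`-classes that meet `S` -/
noncomputable def kc (H : Subgroup G) (S : Set G) : ℕ := ((fun u => {v | Cj H u v}) '' S).ncard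

namespace Cj

variable {H : Subgroup G} {u v w : G}

theorem refl (H : Subgroup G) (u : G) : Cj H u u := ⟨1, one_mem _, by group⟩

theorem symm (h : Cj H u v) : Cj H v u := by
  obtain ⟨n, hn, rfl⟩ := h
  exact ⟨n⁻¹, inv_mem hn, by group⟩

theorem trans (h : Cj H u v) (k : Cj H v w) : Cj H u w := by
  obtain ⟨n, hn, rfl⟩ := h
  obtain ⟨m, hm, rfl⟩ := k
  exact ⟨m * n, mul_mem hm hn, by group⟩

theorem isConj (h : Cj H u v) : IsConj u v := by
  obtain ⟨n, -, e⟩ := h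
  exact isConj_iff.2 ⟨n, e⟩

theorem top : Cj ⊤ u v ↔ IsConj u v :=
  ⟨isConj, fun h => (isConj_iff.1 h).imp fun _ e => ⟨mem_top _, e⟩⟩

theorem mono {K : Subgroup G} (hK : H ≤ K) (h : Cj H u v) : Cj K u v :=
  h.imp fun _ e => ⟨hK e.1, e.2⟩

theorem pow (h : Cj H u v) (k : ℕ) : Cj H (u ^ k) (v ^ k) := by
  obtain ⟨n, hn, rfl⟩ := h
  exact ⟨n, hn, (conj_pow ..).symm⟩

theorem orderOf_eq (h : Cj H u v) : orderOf u = orderOf v := by
  obtain ⟨n, -, rfl⟩ := h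
  exact (Inv.orderOf_conj' ..).symm

theorem set_eq : {x | Cj H u x} = {x | Cj H v x} ↔ Cj H u v :=
  ⟨fun e => e.ge (refl H v), fun h => Set.ext fun _ => ⟨h.symm.trans, h.trans⟩⟩

end Cj

theorem kc_congr {A : Type*} [Group A] {H : Subgroup G} {K : Subgroup A} {S : Set G} {T : Set A}
    (f : G → A) (h1 : ∀ u ∈ S, f u ∈ T) (h2 : ∀ u ∈ S, ∀ v ∈ S, Cj H u v ↔ Cj K (f u) (f v))
    (h3 : ∀ g ∈ T, ∃ u ∈ S, Cj K (f u) g) : kc H S = kc K T := by
  have : (fun u => {v | Cj K u v}) '' T = (fun u => {v | Cj K (f u) v}) '' S := by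
    ext X
    refine ⟨?_, fun ⟨u, hu, e⟩ => ⟨f u, h1 u hu, e⟩⟩
    rintro ⟨g, hg, rfl⟩
    obtain ⟨u, hu, e⟩ := h3 g hg
    exact ⟨u, hu, Cj.set_eq.2 e⟩
  rw [kc, kc, this]
  exact ncard_image_congr fun a ha b hb => by rw [Cj.set_eq, Cj.set_eq, h2 a ha b hb]

theorem kc_eq_of_reps {H : Subgroup G} {S : Set G} {n : ℕ} (r : Fin n → G) (h1 : ∀ i, r i ∈ S)
    (h2 : ∀ i j, Cj H (r i) (r j) → i = j) (h3 : ∀ g ∈ S, ∃ i, Cj H (r i) g) : kc H S = n := by
  have : (fun u => {v | Cj H u v}) '' S = Set.range fun i => {v | Cj H (r i) v} := by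
    ext X
    refine ⟨?_, fun ⟨i, e⟩ => ⟨r i, h1 i, e⟩⟩
    rintro ⟨g, hg, rfl⟩
    obtain ⟨i, e⟩ := h3 g hg
    exact ⟨i, Cj.set_eq.2 e⟩
  rw [kc, this, Set.ncard_range_of_injective fun i j e => h2 i j (Cj.set_eq.1 e), Nat.card_eq_fintype_card,
    Fintype.card_fin]

theorem kc_top [Finite G] : kc ⊤ (Set.univ : Set G) = Nat.card (ConjClasses G) := by
  rw [kc, ncard_image_congr (g := ConjClasses.mk) fun a _ b _ => by
    rw [Cj.set_eq, Cj.top, ConjClasses.mk_eq_mk_iff_isConj], Set.image_univ,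
    ConjClasses.mk_surjective.range_eq, Set.ncard_univ]

theorem kc_union [Finite G] {H : Subgroup G} {S T : Set G} (h : ∀ u ∈ S, ∀ v ∈ T, ¬ Cj H u v) :
    kc H (S ∪ T) = kc H S + kc H T := by
  rw [kc, Set.image_union, Set.ncard_union_eq]
  · rfl
  · rw [Set.disjoint_left]
    rintro _ ⟨u, hu, rfl⟩ ⟨v, hv, e⟩
    exact h u hu v hv (Cj.set_eq.1 e).symm

/-- classes of equal weight -/
theorem kc_mul [Finite G] {H K : Subgroup G} {S T : Set G} (f : G → G) (h1 : ∀ g ∈ T, f g ∈ S)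
    (h2 : ∀ u ∈ T, ∀ v ∈ T, Cj K u v → Cj H (f u) (f v)) {n : ℕ}
    (h3 : ∀ y ∈ S, kc K {g ∈ T | Cj H y (f g)} = n) : kc K T = kc H S * n := by
  classical
  let F : Set G → Set G := fun X => {v | ∃ g ∈ X, g ∈ T ∧ Cj H (f g) v}
  have hF : ∀ g ∈ T, F {v | Cj K g v} = {v | Cj H (f g) v} := fun g hg => Set.ext fun v =>
    ⟨fun ⟨u, e, hu, e'⟩ => (h2 g hg u hu e).trans e', fun e => ⟨g, Cj.refl _ _, hg, e⟩⟩
  rw [kc, CL.Orb.ncard_fibres (S := ((fun u => {v | Cj H u v}) '' S).toFinite.toFinset)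
    (Set.toFinite _) F (by
      rintro _ ⟨g, hg, rfl⟩
      exact (Set.Finite.mem_toFinset _).2 ⟨_, h1 g hg, (hF g hg).symm⟩), Finset.sum_congr rfl
        (g := fun _ => n) fun X hX => ?_, Finset.sum_const, smul_eq_mul, kc,
          Set.ncard_eq_toFinset_card _ (Set.toFinite _)]
  obtain ⟨y, hy, rfl⟩ := (Set.Finite.mem_toFinset _).1 hX
  rw [← h3 y hy, kc]
  congr 1
  ext X
  constructor
  · rintro ⟨⟨g, hg, rfl⟩, e⟩
    exact ⟨g, ⟨hg, (Cj.set_eq.1 ((hF g hg).symm.trans e)).symm⟩, rfl⟩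
  · rintro ⟨g, ⟨hg, e⟩, rfl⟩
    exact ⟨⟨g, hg, rfl⟩, (hF g hg).trans (Cj.set_eq.2 e.symm)⟩

theorem kc_bot (S : Set G) : kc ⊥ S = S.ncard := by
  rw [kc, ncard_image_congr (g := id) fun a _ b _ => ?_, Set.image_id]
  rw [Cj.set_eq]
  exact ⟨fun ⟨n, hn, e⟩ => by simpa [mem_bot.1 hn] using e, fun e => (show a = b from e) ▸ Cj.refl _ _⟩

/-- the number of classes of elements of prime order -/
theorem kc_prime [Finite G] {p e : ℕ} (hp : p.Prime) (hc : ¬ p ^ 2 ∣ Nat.card G) {a : G}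
    (ha : orderOf a = p)
    (he : Nat.card (normalizer (zpowers a : Set G)) = e * Nat.card (centralizer ({a} : Set G))) :
    kc ⊤ {y : G | orderOf y = p} * e = p - 1 := by
  have := Fact.mk hp
  have h0 : ∀ y ∈ zpowers a, y ≠ 1 → zpowers y = zpowers a ∧ orderOf y = p := fun y hy h1 => by
    have o : orderOf y = p := ((Nat.dvd_prime hp).1 (ha ▸ orderOf_dvd_of_mem_zpowers hy)).resolve_left
      fun e => h1 (orderOf_eq_one_iff.1 e)
    exact ⟨eq_of_le_of_card_ge (zpowers_le.2 hy) (by rw [Nat.card_zpowers, Nat.card_zpowers, ha, o]), o⟩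
  have h1 : kc (normalizer (zpowers a : Set G)) ((zpowers a : Set G) \ {1}) =
      kc ⊤ {y : G | orderOf y = p} := kc_congr id (fun u hu => (h0 u hu.1 hu.2).2)
    (fun u hu v hv => ⟨Cj.mono le_top, fun ⟨n, _, e⟩ => ⟨n, by
      rw [← (h0 u hu.1 hu.2).1, CL.Orb.mem_normalizer_zpowers_iff, (h0 u hu.1 hu.2).1]
      exact (show n * u * n⁻¹ = v from e) ▸ hv.1, e⟩⟩) fun g hg => by
    obtain ⟨k, e⟩ := exists_zpowers hp hc ((Nat.card_zpowers a).trans ha) hg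
    refine ⟨k * g * k⁻¹, ⟨e ▸ mem_zpowers _, fun e1 => ?_⟩, k⁻¹, mem_top _, by simp [mul_assoc]⟩
    have := Inv.orderOf_conj' k g
    rw [Set.mem_singleton_iff.1 e1, orderOf_one, hg] at this
    exact hp.one_lt.ne this
  rw [← h1, ← kc_mul (K := ⊥) (T := (zpowers a : Set G) \ {1}) id (fun _ h => h)
    (fun u _ v _ => Cj.mono bot_le) fun y hy => ?_, kc_bot,
    Set.ncard_sdiff_singleton_of_mem (one_mem _), ← Nat.card_coe_set_eq]
  · exact congrArg (· - 1) ((Nat.card_zpowers a).trans ha)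
  · have h2 := card_eq_orbit_mul (normalizer (zpowers a : Set G)) y
    have h3 : centralizer {y} = centralizer {a} := by
      rw [← cent_zpowers, ← cent_zpowers, (h0 y hy.1 hy.2).1]
    rw [h3, inf_of_le_right ((cent_zpowers a).ge.trans (centralizer_le_normalizer _)), he] at h2
    rw [kc_bot, ← Nat.eq_of_mul_eq_mul_right Nat.card_pos h2.symm]
    congr 1
    ext v
    refine ⟨fun h => h.2, fun h => ⟨?_, h⟩⟩
    obtain ⟨n, hn, rfl⟩ := h
    exact ⟨(mem_normalizer_iff.1 hn y).1 hy.1, fun e1 => hy.2 (by simpa using e1)⟩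

/-- the elements of order prime to `m` -/
def Tm (G : Type*) [Group G] (m : ℕ) : Set G := {g | (orderOf g).Coprime m}

/-- a generator of the `p`-part -/
noncomputable def pp (p : ℕ) (g : G) : G :=
  g ^ (orderOf g / p) ^ (p - 1)

theorem pp_mul {p : ℕ} (hp : p.Prime) {y u : G} (hy : orderOf y = p) (e : y * u = u * y)
    (hu : (orderOf u).Coprime p) : pp p (y * u) = y := by
  have c : Commute y u := e
  have h1 : orderOf u ^ (p - 1) ≡ 1 [MOD p] := by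
    rw [← Nat.totient_prime hp]; exact Nat.ModEq.pow_totient hu
  rw [pp, c.orderOf_mul_eq_mul_orderOf_of_coprime (hy ▸ hu.symm), hy, Nat.mul_div_cancel_left _ hp.pos,
    c.mul_pow, orderOf_dvd_iff_pow_eq_one.1 (dvd_pow_self _ (Nat.sub_ne_zero_of_lt hp.one_lt)),
    mul_one]
  conv_rhs => rw [← pow_one y]
  rwa [pow_eq_pow_iff_modEq, hy]

theorem exists_split [Finite G] {p : ℕ} (hp : p.Prime) {g : G} (h1 : p ∣ orderOf g)
    (h2 : ¬ p ^ 2 ∣ orderOf g) : ∃ y u, orderOf y = p ∧ y * u = u * y ∧ (orderOf u).Coprime p ∧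
      orderOf u ∣ orderOf g ∧ g = y * u := by
  obtain ⟨n, hn⟩ := h1
  have c : p.Coprime n := (Nat.Prime.coprime_iff_not_dvd hp).2 fun h => h2 (by
    rw [hn, pow_two]; exact Nat.mul_dvd_mul_left _ h)
  have n0 : n ≠ 0 := fun e => (orderOf_pos g).ne' (by rw [hn, e, mul_zero])
  obtain ⟨a, b, e⟩ := Nat.isCoprime_iff_coprime.2 c
  have o1 : orderOf (g ^ n) = p := by
    rw [orderOf_pow_of_dvd n0 (hn ▸ dvd_mul_left _ _), hn, Nat.mul_div_cancel _ (Nat.pos_of_ne_zero n0)]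
  have o2 : orderOf (g ^ p) = n := by
    rw [orderOf_pow_of_dvd hp.ne_zero (hn ▸ dvd_mul_right _ _), hn, Nat.mul_div_cancel_left _ hp.pos]
  have d2 : orderOf ((g ^ p) ^ a) ∣ n := o2 ▸ orderOf_dvd_of_mem_zpowers (zpow_mem_zpowers _ _)
  have e1 : g = (g ^ n) ^ b * (g ^ p) ^ a := by
    rw [← zpow_natCast, ← zpow_natCast, ← zpow_mul, ← zpow_mul, ← zpow_add,
      show (n : ℤ) * b + p * a = 1 by rw [← e]; ring, zpow_one]
  refine ⟨(g ^ n) ^ b, (g ^ p) ^ a, ((Nat.dvd_prime hp).1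
    (o1 ▸ orderOf_dvd_of_mem_zpowers (zpow_mem_zpowers _ _))).resolve_left fun e2 => ?_,
    (((Commute.refl g).pow_pow n p).zpow_zpow b a).eq, Nat.Coprime.coprime_dvd_left d2 c.symm,
    d2.trans (hn ▸ dvd_mul_left _ _), e1⟩
  rw [orderOf_eq_one_iff.1 e2, one_mul] at e1
  rw [← e1, hn] at d2
  exact hp.one_lt.not_ge (Nat.le_of_mul_le_mul_right
    ((Nat.le_of_dvd (Nat.pos_of_ne_zero n0) d2).trans (one_mul n).ge) (Nat.pos_of_ne_zero n0))

theorem pp_conj (p : ℕ) (n g : G) : pp p (n * g * n⁻¹) = n * pp p g * n⁻¹ := by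
  rw [pp, pp, Inv.orderOf_conj', conj_pow]

/-- the elements of order divisible by `p` and prime to `m` -/
def Pm' (G : Type*) [Group G] (p m : ℕ) : Set G := {g | p ∣ orderOf g ∧ (orderOf g).Coprime m}

theorem kc_Tm [Finite G] {p : ℕ} (hp : p.Prime) (m : ℕ) :
    kc ⊤ (Tm G m) = kc ⊤ (Tm G (p * m)) + kc ⊤ (Pm' G p m) := by
  rw [← kc_union (S := Tm G (p * m)) (T := Pm' G p m) fun u hu v hv e => (Nat.Prime.coprime_iff_not_dvd hp).1
    (Nat.Coprime.coprime_mul_right_right hu).symm (e.orderOf_eq ▸ hv.1)]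
  congr 1
  ext g
  refine ⟨fun h => ?_, fun h => h.elim Nat.Coprime.coprime_mul_left_right fun h => h.2⟩
  by_cases e : p ∣ orderOf g
  · exact Or.inr ⟨e, h⟩
  · exact Or.inl (Nat.Coprime.mul_right ((Nat.Prime.coprime_iff_not_dvd hp).2 e).symm h)

theorem kc_fibre [Finite G] {p m : ℕ} (hp : p.Prime) (hm : p.Coprime m)
    (h2 : ∀ g : G, ¬ p ^ 2 ∣ orderOf g) {y : G} (hy : orderOf y = p) :
    kc ⊤ {g ∈ Pm' G p m | Cj ⊤ y (pp p g)} =
      kc (centralizer {y}) ((centralizer {y} : Set G) ∩ Tm G (p * m)) := by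
  have k : ∀ u ∈ (centralizer {y} : Set G) ∩ Tm G (p * m), y * u = u * y ∧ pp p (y * u) = y :=
    fun u hu => by
      have := (mem_centralizer_singleton_iff.1 hu.1).symm
      exact ⟨this, pp_mul hp hy this (Nat.Coprime.coprime_mul_right_right hu.2)⟩
  symm
  refine kc_congr (y * ·) (fun u hu => ⟨?_, (k u hu).2.symm ▸ Cj.refl _ _⟩) (fun u hu v hv => ⟨?_, ?_⟩)
    fun g ⟨hg, n, _, e⟩ => ?_
  · have := Commute.orderOf_mul_eq_mul_orderOf_of_coprime (k u hu).1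
      (hy ▸ (Nat.Coprime.coprime_mul_right_right hu.2).symm)
    rw [Pm', Set.mem_ofPred_eq, this, hy]
    exact ⟨dvd_mul_right _ _, hm.mul_left (Nat.Coprime.coprime_mul_left_right hu.2)⟩
  · rintro ⟨n, hn, rfl⟩
    refine ⟨n, mem_top _, ?_⟩
    rw [← mul_assoc, mem_centralizer_singleton_iff.1 hn]; group
  · rintro ⟨n, -, e⟩
    have e1 := pp_conj p n (y * u)
    rw [e, (k u hu).2, (k v hv).2] at e1
    refine ⟨n, mem_centralizer_singleton_iff.2 (mul_inv_eq_iff_eq_mul.1 e1.symm), ?_⟩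
    rw [← conj_mul, ← e1] at e
    exact mul_left_cancel e
  · obtain ⟨y', u, o1, c, o2, o3, rfl⟩ := exists_split hp hg.1 (h2 g)
    rw [pp_mul hp o1 c o2] at e
    subst e
    refine ⟨n⁻¹ * u * n⁻¹⁻¹, ⟨mem_centralizer_singleton_iff.2 ?_, ?_⟩, n, mem_top _, by group⟩
    · rw [← comm_conj_iff (g := n)]
      simpa [mul_assoc] using c.symm
    · rw [Tm, Set.mem_ofPred_eq, Inv.orderOf_conj']
      exact o2.mul_right (Nat.Coprime.coprime_dvd_left o3 hg.2)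

theorem orderOf_pp [Finite G] {p m : ℕ} (hp : p.Prime) (h2 : ∀ g : G, ¬ p ^ 2 ∣ orderOf g) {g : G}
    (hg : g ∈ Pm' G p m) : orderOf (pp p g) = p := by
  obtain ⟨y', u, o1, c, o2, -, rfl⟩ := exists_split hp hg.1 (h2 g)
  rwa [pp_mul hp o1 c o2]

/-- all centralisers contribute equally -/
theorem kc_step [Finite G] {p m n : ℕ} (hp : p.Prime) (hm : p.Coprime m)
    (h2 : ∀ g : G, ¬ p ^ 2 ∣ orderOf g) (h : ∀ y : G, orderOf y = p →
      kc (centralizer {y}) ((centralizer {y} : Set G) ∩ Tm G (p * m)) = n) :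
    kc ⊤ (Tm G m) = kc ⊤ (Tm G (p * m)) + kc ⊤ {y : G | orderOf y = p} * n := by
  rw [kc_Tm hp, kc_mul (H := ⊤) (S := {y : G | orderOf y = p}) (pp p) (fun g hg => orderOf_pp hp h2 hg)
    (fun u _ v _ ⟨k, _, e⟩ => ⟨k, mem_top _, by rw [← e, pp_conj]⟩)
    fun y hy => (kc_fibre hp hm h2 hy).trans (h y hy)]

/-- two classes of elements of order `p` -/
theorem kc_step2 [Finite G] {p m : ℕ} (hp : p.Prime) (hm : p.Coprime m)
    (h2 : ∀ g : G, ¬ p ^ 2 ∣ orderOf g) {a b : G} (ha : orderOf a = p) (hb : orderOf b = p)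
    (hab : ¬ IsConj a b) (h : ∀ y : G, orderOf y = p → IsConj y a ∨ IsConj y b) :
    kc ⊤ (Tm G m) = kc ⊤ (Tm G (p * m)) +
      (kc (centralizer {a}) ((centralizer {a} : Set G) ∩ Tm G (p * m)) +
        kc (centralizer {b}) ((centralizer {b} : Set G) ∩ Tm G (p * m))) := by
  rw [kc_Tm hp, ← kc_fibre hp hm h2 ha, ← kc_fibre hp hm h2 hb,
    ← kc_union (S := {g ∈ Pm' G p m | Cj ⊤ a (pp p g)})]
  · congr 2
    ext g
    refine ⟨fun hg => (h _ (orderOf_pp hp h2 hg)).imp (fun e => ⟨hg, Cj.top.2 e.symm⟩)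
      fun e => ⟨hg, Cj.top.2 e.symm⟩, fun hg => hg.elim And.left And.left⟩
  · rintro u ⟨-, e1⟩ _ ⟨-, e2⟩ ⟨k, -, rfl⟩
    rw [pp_conj] at e2
    exact hab (e1.trans (Cj.symm (e2.trans ⟨k⁻¹, mem_top _, by group⟩))).isConj

/-- classes of elements of coprime order in a split extension -/
theorem kc_split [Finite G] {A : Type*} [Group A] {H O : Subgroup G} (s : A →* G)
    (hs : Function.Injective s) (h1 : s.range ≤ H) (h2 : H ≤ normalizer (O : Set G)) (h3 : O ≤ H)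
    (h4 : ∀ a, s a ∈ O → a = 1) (h5 : ∀ g ∈ H, ∃ a, g * (s a)⁻¹ ∈ O) {m : ℕ}
    (hm : ∀ r : ℕ, r.Coprime m → (Nat.card O).Coprime r) :
    kc H ((H : Set G) ∩ Tm G m) = kc ⊤ (Tm A m) := by
  symm
  refine kc_congr s (fun u hu => ⟨h1 ⟨u, rfl⟩, show (orderOf (s u)).Coprime m from
    (orderOf_injective s hs u).symm ▸ hu⟩) (fun u _ v _ => ⟨?_, ?_⟩) fun g hg => ?_
  · rintro ⟨n, -, rfl⟩
    exact ⟨s n, h1 ⟨n, rfl⟩, by simp⟩
  · rintro ⟨n, hn, e⟩
    obtain ⟨a, ha⟩ := h5 n hn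
    refine ⟨a, mem_top _, (mul_inv_eq_one.1 (h4 _ ?_)).symm⟩
    have := mul_mem ha ((mem_normalizer_iff.1 (h2 (h1 ⟨a * u * a⁻¹, rfl⟩)) _).1 (inv_mem ha))
    rw [map_mul, ← e]
    convert this using 1
    simp only [map_mul, map_inv]
    group
  · obtain ⟨a, ha⟩ := h5 g hg.1
    have n1 := h2 (h1 ⟨a, rfl⟩)
    have e : ∀ k : ℕ, g ^ k * (s a ^ k)⁻¹ ∈ O := fun k => by
      induction k with
      | zero => simp
      | succ k ih =>
        have := mul_mem ((mem_normalizer_iff.1 (h2 hg.1) _).1 ih) ha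
        convert this using 1
        rw [pow_succ' g, pow_succ (s a)]
        have c : s a ^ k * s a = s a * s a ^ k := (Commute.refl _).pow_left k
        rw [c]; group
    have e1 := e (orderOf g)
    rw [pow_orderOf_eq_one, one_mul, ← map_pow, inv_mem_iff] at e1
    have e2 := h4 _ e1
    obtain ⟨y, hy, e3⟩ := CL.Fpf.exists_conj_of_coset (β := s a) (r := orderOf g)
      (by rw [← map_pow, e2, map_one]) (hm _ hg.2) n1 (pow_orderOf_eq_one g) ha
    exact ⟨a, Nat.Coprime.coprime_dvd_left (orderOf_dvd_of_pow_eq_one e2) hg.2, y, h3 hy, e3.symm⟩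

end CL.J4
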