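import Cfsg.Agent.SPOR.J4.Kc

/-!
The classes of an extension of the natural module by `L_3(2)`.
-/

set_option autoImplicit false

namespace CL.J4

open Subgroup CL.K CL.F2M CL.CG

/-- a transvection -/
def gτ : G3 := ⟨!![1, 1, 0; 0, 1, 0; 0, 0, 1], !![1, 1, 0; 0, 1, 0; 0, 0, 1], by decide, by decide⟩
/-- a transvection with the same centre -/
def gτ' : G3 := ⟨!![1, 0, 1; 0, 1, 0; 0, 0, 1], !![1, 0, 1; 0, 1, 0; 0, 0, 1], by decide, by decide⟩
/-- a transvection with the same axis -/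
def gυ : G3 := ⟨!![1, 0, 0; 0, 1, 0; 0, 1, 1], !![1, 0, 0; 0, 1, 0; 0, 1, 1], by decide, by decide⟩
/-- an element of order 3 -/
def gρ : G3 := ⟨!![1, 0, 0; 0, 1, 1; 0, 1, 0], !![1, 0, 0; 0, 0, 1; 0, 1, 1], by decide, by decide⟩
/-- a permutation matrix -/
def gκ : G3 := ⟨!![0, 1, 0; 1, 0, 0; 0, 0, 1], !![0, 1, 0; 1, 0, 0; 0, 0, 1], by decide, by decide⟩

theorem ok3 : OK 3 73 7 := ⟨by decide, by decide, by decide +kernel⟩

theorem G3_cover (A : G3) (h : A ≠ 1 → A ^ 7 ≠ 1) :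
    IsConj 1 A ∨ IsConj gτ A ∨ IsConj gρ A ∨ IsConj (gτ' * gυ) A := by
  have C := ok3.isCode
  have k : ∀ {T : G3} {t : ℕ}, gcode T = t → anyLt (fun b => Nat.beq (mulC 3 73 7 b t)
      (mulC 3 73 7 (gcode A) b) && anyLt (fun c => unitB 3 73 7 b c) 512) 512 = true → IsConj T A := by
    intro T t ht e
    obtain ⟨b, -, e⟩ := anyLt_iff.1 e
    rw [Bool.and_eq_true, anyLt_iff, Nat.beq_eq] at e
    obtain ⟨e, c, -, hc⟩ := e
    obtain ⟨B, -, rfl⟩ := ok3.mem_of_unitB hc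
    rw [← ht, C.map_mul, C.map_mul] at e
    exact isConj_iff.2 ⟨B, mul_inv_eq_iff_eq_mul.2 (C.inj e)⟩
  have := allLt_iff.1 (show allLt (fun a => anyLt (fun v => Nat.beq (act 3 7 a (Nat.succ v)) 0) 7 ||
    Nat.beq a 273 || force (mulC 3 73 7 a a) fun a2 => force (mulC 3 73 7 a2 a) fun a3 =>
      Nat.beq (mulC 3 73 7 (mulC 3 73 7 a3 a3) a) 273 ||
        force (cond (Nat.beq a2 273) 281 (cond (Nat.beq a3 273) 177 377)) fun t =>
          anyLt (fun b => Nat.beq (mulC 3 73 7 b t) (mulC 3 73 7 a b) &&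
            anyLt (fun c => unitB 3 73 7 b c) 512) 512) 512 = true by decide +kernel) (gcode A)
    (mcode_lt _)
  have e1 : gcode (1 : G3) = 273 := by decide +kernel
  simp only [force_eq, Bool.or_eq_true, Nat.beq_eq] at this
  rcases this with (e | e) | e | e
  · obtain ⟨v, hv, e⟩ := anyLt_iff.1 e
    rw [Nat.beq_eq, ← vcode_vdec (n := 3) (c := v.succ) (by omega), ok3.act_gcode, ← vcode_zero (n := 3),
      vcode_injective.eq_iff, smul_eq_zero_iff_eq, ← vcode_injective.eq_iff,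
      vcode_vdec (by omega), vcode_zero] at e
    exact absurd e (Nat.succ_ne_zero v)
  · exact Or.inl (C.inj (e.trans e1.symm) ▸ IsConj.refl _)
  · by_cases e2 : A = 1
    · exact Or.inl (e2 ▸ IsConj.refl _)
    simp only [C.map_mul, ← e1] at e
    exact absurd (by rw [← C.inj e]; simp only [pow_succ, pow_zero, one_mul, mul_assoc]) (h e2)
  · revert e
    cases Nat.beq (mulC 3 73 7 (gcode A) (gcode A)) 273
    · cases Nat.beq (mulC 3 73 7 (mulC 3 73 7 (gcode A) (gcode A)) (gcode A)) 273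
      · exact fun e => Or.inr (Or.inr (Or.inr (k (t := 377) (by decide +kernel) e)))
      · exact fun e => Or.inr (Or.inr (Or.inl (k (t := 177) (by decide +kernel) e)))
    · exact fun e => Or.inr (Or.inl (k (t := 281) (by decide +kernel) e))

theorem G3_cent {T : G3} {L : List G3} (h : ∀ a b c : F3, Matrix.of ![a, b, c] * T.1 =
    T.1 * Matrix.of ![a, b, c] → (∃ v : F3, v ≠ 0 ∧ (Matrix.of ![a, b, c]).mulVec v = 0) ∨
      ∃ B ∈ L, Matrix.of ![a, b, c] = B.1) {A : G3} (e : A * T = T * A) : A ∈ L := by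
  rcases forall_mat3 (p := fun A => A * T.1 = T.1 * A → (∃ v : F3, v ≠ 0 ∧ A.mulVec v = 0) ∨
    ∃ B ∈ L, A = B.1) h A.1 (congrArg Units.val e) with ⟨v, h1, h2⟩ | ⟨B, h1, h2⟩
  · exact absurd ((smul_eq_zero_iff_eq A).1 h2) h1
  · exact Units.ext h2 ▸ h1

variable {J : Type*} [Group J]

/-- an extension of the natural module -/
structure Xt (ι : F3 → J) (μ : J →* G3) : Prop where
  add : ∀ u v, ι (u + v) = ι u * ι v
  inj : Function.Injective ι
  ker : ∀ x, μ x = 1 ↔ ∃ v, ι v = x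
  act : ∀ g v, g * ι v * g⁻¹ = ι (μ g • v)
  surj : Function.Surjective μ

namespace Xt

variable {ι : F3 → J} {μ : J →* G3} (X : Xt ι μ)
include X

theorem zero : ι 0 = 1 := mul_eq_left.1 (X.add 0 0).symm

theorem μι (v : F3) : μ (ι v) = 1 := (X.ker _).2 ⟨v, rfl⟩

theorem inv (v : F3) : (ι v)⁻¹ = ι v :=
  inv_eq_of_mul_eq_one_left (by rw [← X.add, CharTwo.add_self_eq_zero, X.zero])

theorem mul_ι (g : J) (v : F3) : ι v * g = g * ι ((μ g)⁻¹ • v) := by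
  rw [← map_inv, ← X.act]; group

theorem exists_ι {x y : J} (e : μ y = μ x) : ∃ v, y = x * ι v := by
  obtain ⟨v, hv⟩ := (X.ker (x⁻¹ * y)).1 (by rw [map_mul, map_inv, e, inv_mul_cancel])
  exact ⟨v, by rw [hv, mul_inv_cancel_left]⟩

theorem conj_ι (x : J) (w v : F3) : ι w * (x * ι v) * (ι w)⁻¹ = x * ι ((μ x)⁻¹ • w + w + v) := by
  rw [X.inv, ← mul_assoc, X.mul_ι, mul_assoc, mul_assoc, ← X.add, ← X.add, add_comm v, add_assoc]

theorem cmul {c x : J} {b : F3} (e : c * x * c⁻¹ = x * ι b) (v : F3) :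
    c * (x * ι v) * c⁻¹ = x * ι (b + μ c • v) := by
  rw [← conj_mul, e, X.act, mul_assoc, ← X.add]

theorem fib {x : J} {n : ℕ} (r : Fin n → F3) (h1 : ∀ u, ∃ i, Cj ⊤ (x * ι (r i)) (x * ι u))
    (h2 : ∀ i j c, μ c * μ x = μ x * μ c → c * (x * ι (r i)) * c⁻¹ = x * ι (r j) → i = j) :
    kc ⊤ {g | IsConj (μ x) (μ g)} = n := by
  have k : ∀ v, μ (x * ι v) = μ x := fun v => by rw [map_mul, X.μι, mul_one]
  refine kc_eq_of_reps (fun i => x * ι (r i)) (fun i => (k _).symm ▸ IsConj.refl _)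
    (fun i j ⟨c, _, e⟩ => h2 i j c ?_ e) fun g hg => ?_
  · have := congrArg μ e
    rwa [map_mul, map_mul, k, k, map_inv, mul_inv_eq_iff_eq_mul] at this
  · obtain ⟨B, e⟩ := isConj_iff.1 hg
    obtain ⟨c, rfl⟩ := X.surj B
    obtain ⟨v, e1⟩ := X.exists_ι (x := x) (y := c⁻¹ * g * c) (by
      rw [map_mul, map_mul, ← e, map_inv]; group)
    obtain ⟨i, e2⟩ := h1 v
    exact ⟨i, e2.trans ⟨c, mem_top _, by rw [← e1]; group⟩⟩

theorem over_one : kc ⊤ {g | IsConj 1 (μ g)} = 2 := by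
  rw [← map_one μ]
  refine X.fib ![0, ![1, 0, 0]] (fun u => ?_) fun i j c _ e => ?_
  · by_cases hu : u = 0
    · exact ⟨0, hu ▸ Cj.refl _ _⟩
    obtain ⟨A, e⟩ : ∃ A ∈ [1, gκ], ∃ B ∈ [1, gρ, gρ * gρ],
      ∃ C ∈ [1, gτ, gτ'], (C * B * A) • (![1, 0, 0] : F3) = u := by
      revert u; decide +kernel
    obtain ⟨-, B, -, C, -, e⟩ := e
    obtain ⟨c, hc⟩ := X.surj (C * B * A)
    exact ⟨1, c, mem_top _, by rw [one_mul, one_mul, X.act, hc, ← e]; rfl⟩
  · rw [one_mul, one_mul, X.act, X.inj.eq_iff] at e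
    fin_cases i <;> fin_cases j
    · rfl
    · exact absurd ((smul_zero _).symm.trans e) (by decide)
    · exact absurd ((smul_eq_zero_iff_eq _).1 e) (by decide)
    · rfl

theorem over_two {A : G3} (h : ∀ B, B * A = A * B → ∃ k : ℕ, B = A ^ k) (f : F3)
    (h1 : ∀ v, ∃ w : F3, A⁻¹ • w + w + 0 = v ∨ A⁻¹ • w + w + f = v) (h2 : ∀ w : F3, A⁻¹ • w + w ≠ f) :
    kc ⊤ {g | IsConj A (μ g)} = 2 := by
  obtain ⟨x, rfl⟩ := X.surj A
  have k : ∀ c, μ c * μ x = μ x * μ c → c * (x * ι 0) * c⁻¹ ≠ x * ι f := fun c hc e => by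
    obtain ⟨k, e1⟩ := h _ hc
    obtain ⟨w, rfl⟩ := X.exists_ι (x := x ^ k) (e1.trans (map_pow ..).symm)
    rw [conj_mul_conj, X.conj_ι, X.cmul (b := 0) (by rw [X.zero]; group), mul_right_inj,
      X.inj.eq_iff, zero_add, add_zero, smul_add, ← mul_smul, map_pow,
      ((Commute.refl (μ x)).inv_right.pow_left k).eq, mul_smul] at e
    exact h2 _ e
  refine X.fib ![0, f] (fun u => ?_) fun i j c hc e => ?_
  · obtain ⟨w, e | e⟩ := h1 u
    exacts [⟨0, ι w, mem_top _, e ▸ X.conj_ι ..⟩, ⟨1, ι w, mem_top _, e ▸ X.conj_ι ..⟩]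
  · fin_cases i <;> fin_cases j
    · rfl
    · exact absurd e (k c hc)
    · refine absurd ?_ (k c⁻¹ (by rw [map_inv]; exact (Commute.inv_left hc).eq))
      exact (congrArg (fun y => c⁻¹ * y * c⁻¹⁻¹) e).symm.trans (by simp [mul_assoc])
    · rfl

omit X in
/-- the orbits on a coset -/
def Rl (b v v' : F3) : Prop := ∃ w : F3, gτ⁻¹ • w + w + v = v' ∨ gτ⁻¹ • w + w + (b + gυ • v) = v'

instance (b v v' : F3) : Decidable (Rl b v v') := by unfold Rl; infer_instance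

theorem over_three : kc ⊤ {g | IsConj gτ (μ g)} = 3 := by
  obtain ⟨x, hx⟩ := X.surj gτ
  obtain ⟨x', hx'⟩ := X.surj gτ'
  obtain ⟨y, hy⟩ := X.surj gυ
  obtain ⟨r, hr⟩ := X.surj gρ
  obtain ⟨c, ec⟩ := X.exists_ι (x := x) (y := x' * x * x'⁻¹) (by
    rw [map_mul, map_mul, map_inv, hx, hx']; decide +kernel)
  obtain ⟨b, eb⟩ := X.exists_ι (x := x) (y := y * x * y⁻¹) (by
    rw [map_mul, map_mul, map_inv, hx, hy]; decide +kernel)
  obtain ⟨u1, e1⟩ := X.exists_ι (x := x') (y := r * x * r⁻¹) (by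
    rw [map_mul, map_mul, map_inv, hx, hx', hr]; decide +kernel)
  obtain ⟨u2, e2⟩ := X.exists_ι (x := x * x') (y := r * x' * r⁻¹) (by
    rw [map_mul, map_mul, map_mul, map_inv, hx, hx', hr]; decide +kernel)
  obtain ⟨u3, e3⟩ := (X.ker (y * y)).1 (by rw [map_mul, hy]; decide +kernel)
  have hc : c = 0 ∨ c = ![1, 0, 0] := by
    have e4 : x * x' * x⁻¹ = x' * ι (gτ'⁻¹ • gτ • c) := by
      rw [← hx', ← X.mul_ι, ← hx, ← X.act, ← X.inv, ← inv_mul_cancel_left x (ι c), ← ec]; group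
    have e5 : r * _ * r⁻¹ = r * _ * r⁻¹ := congrArg (fun g => r * g * r⁻¹) ec
    rw [show r * (x' * x * x'⁻¹) * r⁻¹ = r * x' * r⁻¹ * (r * x * r⁻¹) * (r * x' * r⁻¹)⁻¹ by group,
      ← conj_mul (a := x), e1, e2, X.act, conj_mul_conj, conj_mul_conj, X.conj_ι,
      X.cmul (b := 0) (by rw [X.zero]; group), X.cmul e4, mul_assoc, ← X.add, mul_right_inj,
      X.inj.eq_iff, hx, hx', hr] at e5
    clear ec e1 e2 e4
    revert c u1 u2
    decide +kernel
  have hb : Rl 0 0 (b + gυ • b) := by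
    have e5 := X.cmul eb b
    have e6 := X.conj_ι x u3 0
    rw [← eb, ← conj_mul_conj, ← e3, hy] at e5
    rw [X.zero, mul_one, e5, mul_right_inj, X.inj.eq_iff, hx] at e6
    exact ⟨u3, Or.inl e6.symm⟩
  let Q : J → Prop := fun g => ∀ v, ∃ v', g * (x * ι v) * g⁻¹ = x * ι v' ∧ Rl b v v'
  have tr : ∀ u v w, Rl b u v → Rl b v w → Rl b u w := by
    clear Q eb
    revert b
    decide +kernel
  have qm : ∀ g k, Q g → Q k → Q (g * k) := fun g k hg hk v => by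
    obtain ⟨v1, f1, r1⟩ := hk v
    obtain ⟨v2, f2, r2⟩ := hg v1
    exact ⟨v2, by rw [conj_mul_conj, f1, f2], tr _ _ _ r1 r2⟩
  have q0 : ∀ w, Q (ι w) := fun w v => ⟨_, X.conj_ι .., w, Or.inl (hx ▸ rfl)⟩
  have q1 : Q x := fun v => ⟨_, X.cmul (b := 0) (by rw [X.zero]; group) v, by
    rw [hx]; clear Q qm q0 tr eb hb; revert b v; decide +kernel⟩
  have q2 : Q x' := fun v => ⟨_, X.cmul ec v, by
    rw [hx']; clear Q qm q0 q1 tr eb hb ec; revert b c v; decide +kernel⟩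
  have q3 : Q y := fun v => ⟨_, X.cmul eb v, 0, Or.inr (by rw [hy]; simp)⟩
  obtain ⟨s, s1, s2⟩ : ∃ s : Fin 3 → F3, (∀ u, ∃ i, Rl b (s i) u) ∧ ∀ i j, Rl b (s i) (s j) → i = j := by
    clear Q qm q0 q1 q2 q3 tr eb
    have : ∃ s ∈ [![![0, 0, 0], ![0, 0, 1], ![0, 1, 0]], ![![0, 0, 0], ![0, 1, 0], ![0, 1, 1]]],
      (∀ u, ∃ i : Fin 3, Rl b (s i) u) ∧ ∀ i j, Rl b (s i) (s j) → i = j := by
      revert b; decide +kernel
    exact this.imp fun _ => And.right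
  rw [← hx]
  refine X.fib s (fun u => ?_) fun i j g hg e => s2 i j ?_
  · obtain ⟨i, w, e | e⟩ := s1 u
    · exact ⟨i, ι w, mem_top _, by rw [X.conj_ι, hx, e]⟩
    · exact ⟨i, ι w * y, mem_top _, by rw [conj_mul_conj, X.cmul eb, X.conj_ι, hx, hy, e]⟩
  · have : ∀ k ∈ [1, x, x', x * x', y, x * y, x' * y, x * x' * y], Q k := by
      simp only [List.forall_mem_cons]
      exact ⟨X.zero ▸ q0 0, q1, q2, qm _ _ q1 q2, q3, qm _ _ q1 q3, qm _ _ q2 q3,
        qm _ _ (qm _ _ q1 q2) q3, by simp⟩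
    obtain ⟨k, hk, e1⟩ := List.mem_map.1 (show μ g ∈ [1, x, x', x * x', y, x * y, x' * y,
      x * x' * y].map μ by
        simp only [List.map, map_mul, map_one, hx, hx', hy]
        exact G3_cent (by decide +kernel) (hx ▸ hg))
    obtain ⟨w, rfl⟩ := X.exists_ι e1.symm
    obtain ⟨v', f1, r1⟩ := qm _ _ (this k hk) (q0 w) (s i)
    rwa [← X.inj (mul_left_cancel (f1.symm.trans e))]

theorem kc_Tm [Finite J] {m : ℕ} (h7 : 7 ∣ m) (hm : Nat.Coprime 24 m) : kc ⊤ (Tm J m) = 9 := by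
  have o : ∀ {A B : G3} {g k : J}, IsConj A (μ g) → IsConj B (μ k) → Cj ⊤ g k → ∀ n : ℕ,
      A ^ n = 1 → B ^ n = 1 := fun h1 h2 e n hn =>
    isConj_one_right.1 (hn ▸ ((h1.trans (μ.map_isConj e.isConj)).trans h2.symm).pow n)
  have k : ∀ {A : G3} {g : J}, A ^ 12 = 1 → IsConj A (μ g) → g ∈ Tm J m := fun {A g} h1 h2 => by
    obtain ⟨v, e⟩ := (X.ker (g ^ 12)).1 (by rw [map_pow]; exact isConj_one_right.1 (h1 ▸ h2.pow 12))
    refine Nat.Coprime.coprime_dvd_left (orderOf_dvd_of_pow_eq_one ?_) hm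
    rw [show 24 = 12 * 2 from rfl, pow_mul, ← e, pow_two, ← X.add, CharTwo.add_self_eq_zero, X.zero]
  have e : Tm J m = {g | IsConj 1 (μ g)} ∪ ({g | IsConj gτ (μ g)} ∪ ({g | IsConj gρ (μ g)} ∪
      {g | IsConj (gτ' * gυ) (μ g)})) := by
    ext g
    refine ⟨fun hg => G3_cover _ fun h1 h2 => h1 (orderOf_eq_one_iff.1 (Nat.eq_one_of_dvd_coprimes
      (Nat.Coprime.coprime_dvd_right h7 hg) (orderOf_map_dvd μ g) (orderOf_dvd_of_pow_eq_one h2))), ?_⟩
    rintro (h | h | h | h) <;> exact k (by decide +kernel) h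
  rw [e, kc_union, kc_union, kc_union, X.over_one, X.over_three,
    X.over_two (A := gρ) (fun B hB => ?_) ![1, 0, 0] (by decide +kernel) (by decide +kernel),
    X.over_two (A := gτ' * gυ) (fun B hB => ?_) ![0, 1, 0] (by decide +kernel) (by decide +kernel)]
  · obtain ⟨k, -, e⟩ := List.mem_map.1 (G3_cent (L := [0, 1, 2, 3].map ((gτ' * gυ) ^ ·))
      (by decide +kernel) hB)
    exact ⟨k, e.symm⟩
  · obtain ⟨k, -, e⟩ := List.mem_map.1 (G3_cent (L := [0, 1, 2].map (gρ ^ ·)) (by decide +kernel) hB)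
    exact ⟨k, e.symm⟩
  · exact fun u hu v hv e => absurd (o hu hv e 3 (by decide +kernel)) (by decide +kernel)
  · rintro u hu v (hv | hv) e <;> exact absurd (o hu hv e 2 (by decide +kernel)) (by decide +kernel)
  · rintro u hu v (hv | hv | hv) e <;> exact absurd (o hu hv e 1 (by decide +kernel)) (by decide +kernel)

end Xt

end CL.J4
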