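import Cfsg.Agent.SPOR.J4.KcBig
import Cfsg.Agent.SPOR.J4.UMain
import Cfsg.Agent.SPOR.J4.MSyl
import Cfsg.Agent.SPOR.J4.Cnt

/-!
The classes of 2-elements of `M24`, and chains of conjugations.
-/

set_option autoImplicit false

namespace CL.J4.Uq

open Cfsg CL.K CL.Golay CL.MAut CL.F2M CL.Orb Subgroup Ten

/-- representatives of the classes of 2-elements -/
def KL : List ℕ := [984818244535754528103549039458486304, 984452831863584656304555517315912739,
  944407521785337508492023060291272036, 811344211168927660200266064041033356,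
  141023167554131716687670870503295150, 719481112362572409272159319283031493,
  917029982560651415404750040387141269]

/-- representatives of the classes of the Sylow subgroup -/
def SP : List ℕ := [5442866626970047753050151986694199, 5447382388983081592886053788877911,
  5495518024292395953547195890304087, 5498568589679924833575667697682487,
  5989235823820259689967313196876887, 6057601526503618116306465909212247,
  10632068623317489125245659322483799, 10647834794078946113787988000475191,
  10675139845455015775387687127942231, 10681993389825168598708525836961847,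
  11248128902479604807982773002864695, 11258785284352645131211999286690903,
  17163484415615086638714852219684919, 17184519787777121035013027289728087,
  17739009920735306807106826245014615, 28854523491105362182008475499005015,
  46978710720159042765042691771882498, 46999706481866609773835742131356386,
  47513657792358304912259763912868578, 52178614475038274462820775309564930,
  52184398402361163473841087298437858, 52698362595813354380970027300225762,
  52781941305048326885816791918412514, 58676030656508056853854093711016674,
  58679120839603632610715032204336130, 59291320357593944927018385712546530,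
  70351105155508323366877919011341026, 130175855463613680339094957334968869,
  130181797719884013879278761735701957, 130213677742811739108079108508793381,
  130240060517242686214977958336021957, 130440781391912463799410936884479429,
  130626932833625708457803144537097669, 135367753191337798495555895159932357,
  135374487351682444492422417928501797, 135407018752905152479319404207261125,
  135430074224615331826122157117717029, 135616197697653820811025435911535141,
  135838008040821717173000977985026597, 135840781723913534375686693627545029,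
  140624898152737860805620161665055269, 141897622022923607972590099844676133,
  141920201763860484320909899279156677, 142125990378017748801428405390230981,
  142310863491912077641898275295479237, 145799205271457233535977606117836229,
  146001204860780912661141788052964805, 154011290965101378516425393633478085,
  254428934241934684584668955091967667, 254466929291148920830641002041188019,
  254522348345863562841211045891514035, 255377188845279953855539393228775091,
  259618730459172380561171770587469043, 259674082858577825300013105627321587,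
  259702338414967446991879842233472243, 263575003888894980040991926420348595,
  263611751004606236075123353307108595, 266167339561515608816700472255028915,
  266193615883775737923865591419641523, 277846216548556559563915367368924851,
  984818244535754528103549039458486304]

/-- conjugating elements -/
def SC : List ℕ := [964996868099196026224739434877332611, 975391958560432287519489110382693558,
  978919941919398101156539075167472822, 977044327584285479138897613257616515,
  13854646426413239832810984707564963, 16290109234752851818387541033264547,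
  967172261600093706428735298341081555, 981881953708456079485897515374554243,
  969160091342396773194188331628770614, 17532521952239529884744294426066467,
  982736882172941197807059833197997187, 982731375915152637474680293807085955,
  25084437419601771893063130477674019, 7290590931633583543144197725922723,
  13151191134786129802890785274045859, 6046992404576096699006225478952355,
  56481813325965407012852641987319429, 13526560594976986638727755317005419,
  969057612621752700924163132210892485, 71857466993580472799207058307372677,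
  969151424806489956060598067769447104, 962052311844401969408908185848495714,
  980748746562894228133461185003729014, 967557705911178872560711672893886149,
  30724815373912211044211043915339201, 11742432372436752509701195011673195,
  26516179619426270056225914496437355, 968956673043525959081493226387621024,
  30233718325495382834002679052043951, 969784815624195614729257892143745550,
  60089862379975224672021613271194021, 974221544172038511391099301887954464,
  42075480637937675315037199806382250, 983319323327249259405341797622786502,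
  976772151122505087762780223405853870, 963481775531763082285164901519897870,
  979132595804408043097485785638147182, 52549674926402750789591472412429861,
  967939099108097760676655824770895493, 44364409448425589644479536030177482,
  61342275292182661682241342181871141, 28974732112242280192798833731116463,
  15994477025303129454567744553309231, 66919397331515025944020295036311050,
  57565932876015958590477006213355941, 972707018543134037259780198687781509,
  16249163341505685357588219484913313, 5445418834818681595624528900371723,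
  42272718950241441323085706884748810, 958758545680724140093856311347008672,
  41835842655800045018748177619196325, 15793165590638487260652006633853999,
  980091690077552539234456541071643758, 60612292824206155003575258739707429,
  963360550201817004365327739843164162, 21529269042689663201386110763119883,
  975351418325003886381604179666800261, 963739749843792055514620726990680709,
  4714604645261568169058003092848289, 30606936285573756221329419413107979,
  984818244535754528103549039458486304]

/-- the classes -/
def SI : List ℕ := [4, 2, 2, 4, 1, 1, 3, 4, 2, 1, 4, 4, 1, 1, 1, 1, 3, 1, 2, 3, 2, 3, 4, 2, 4, 1, 1, 6, 4, 5, 3,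
  2, 3, 5, 5, 5, 5, 3, 2, 3, 3, 4, 4, 3, 3, 2, 4, 1, 3, 2, 3, 4, 5, 3, 3, 1, 2, 2, 4, 1, 0]

theorem KL_in : AllI M24 KL := AllI.ofM (by decide +kernel)

theorem SP_in : AllI Syl2 SP :=
  (((AllI.ofM (by decide +kernel)).cent R_2A (by decide +kernel)).sex (Cent_le _) T4
    (by decide +kernel)).tri (inf_le_left.trans (Cent_le _)) Tr2 (by decide +kernel)

/-- moves inside the Sylow subgroup -/
noncomputable def mvS (j c : ℕ) : ℕ := cond (Nat.blt j 5) (conj24 (lget gSyl2 j) c)
  (cond (Nat.beq c one24) (comp24 (lget SP (Nat.sub j 5)) one24) c)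

theorem two_M24 {k : M24} (hk : IsPGroup 2 (zpowers k)) :
    ∃ i < 7, IsConj (toM (lget KL i)) k := by
  have : Fact (Nat.Prime 2) := ⟨Nat.prime_two⟩
  let Q : Pm → Prop := fun g => g ∈ Syl2 ∧ ∃ i < 7, ∃ n ∈ M24, n * g * n⁻¹ = pm (lget KL i)
  have h1 : ∀ c, Reach mvS 66 one24 c → c ∈ E.code 5 '' {g | Q g} := fun c hc => by
    induction hc with
    | base => exact ⟨1, ⟨one_mem _, 0, by decide, 1, one_mem _,
        (by simp : _ = (1 : Pm)).trans (R.eq_one (KL_in _ (lget_mem (j := 0) (by decide))).rep).symm⟩,
        one24_eq ▸ Enc.one_eq_code.symm⟩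
    | step c j _ hj ih =>
      obtain ⟨g, ⟨h1, i, hi, n, hn, e⟩, rfl⟩ := ih
      have r := Enc.rep_code (E := E) fmt g
      unfold mvS
      cases h5 : Nat.blt j 5
      · cases Nat.beq (E.code 5 g) one24
        · exact ⟨g, ⟨h1, i, hi, n, hn, e⟩, rfl⟩
        have h6 : j - 5 < 61 := by omega
        have h7 := SP_in _ (lget_mem (j := j - 5) h6)
        have h8 := allLt_iff.1 (show allLt (fun j => Nat.blt (lget SI j) 7 && okM (lget SC j) &&
          Nat.beq (comp24 (lget SC j) (lget SP j)) (comp24 (lget KL (lget SI j)) (lget SC j))) 61 = true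
          by decide +kernel) _ h6
        simp only [Bool.and_eq_true, Nat.blt_eq, Nat.beq_eq] at h8
        have h9 := I.of_okM h8.1.2
        exact ⟨_, ⟨h7.permOf_mem, _, h8.1.1, _, h9.permOf_mem, mul_inv_eq_iff_eq_mul.2
          ((R.comp24_eq_iff h9.rep h7.rep (KL_in _ (lget_mem h8.1.1)).rep h9.rep).1 h8.2)⟩,
          (congrArg _ (mul_one _).symm).trans (h7.rep.comp_eq_code R.one).symm⟩
      · have h7 := gSyl2_in _ (lget_mem (j := j) (Nat.blt_eq ▸ h5))
        have h8 := h7.permOf_mem
        refine ⟨_, ⟨mul_mem (mul_mem h8 h1) (inv_mem h8), i, hi, _,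
          mul_mem hn (inv_mem (Syl2_le h8)), by rw [← e]; group⟩, ?_⟩
        rw [cond_true, conj24, force_eq, force_eq]
        exact ((R.mul h7.rep r).comp_eq_code (R.inv h7.rep)).symm
  obtain ⟨A, S, n, a1, a2, -⟩ := orb_spec (show orb mvS (fun c => Nat.mod c 55619) 66 one24 1100
    (fun _ n => Nat.ble 1024 n) = true by decide +kernel)
  have h2 : {g | Q g} = Syl2 := Set.eq_of_subset_of_ncard_le (fun _ h => h.1) (by
    rw [← Nat.card_coe_set_eq, SetLike.coe_sort_coe, card_Syl2]
    refine (Nat.le_of_ble_eq_true a2).trans (a1.card.trans_le (Finset.card_image_le.trans ?_))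
    rw [← Set.ncard_coe_finset]
    exact (Set.ncard_le_ncard fun c hc => h1 c (a1.reach c hc)).trans (Set.ncard_image_le (Set.toFinite _)))
  have hc : Nat.card (Syl2.subgroupOf M24) = 2 ^ (Nat.card M24).factorization 2 := by
    rw [Nat.card_congr (subgroupOfEquivOfLe Syl2_le).toEquiv, card_Syl2,
      factorization_card_M24.2.2.2.2.2]; rfl
  obtain ⟨P, hP⟩ := hk.exists_le_sylow
  obtain ⟨g, rfl⟩ := MulAction.exists_smul_eq M24 (Sylow.ofCard _ hc) P
  obtain ⟨y, hy, e⟩ := hP (mem_zpowers k)
  obtain ⟨-, i, hi, n, hn, e1⟩ := h2.ge hy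
  refine ⟨i, hi, (isConj_iff.2 ⟨⟨n, hn⟩, Subtype.ext ?_⟩ : IsConj y _).symm.trans (isConj_iff.2 ⟨g, e⟩)⟩
  rw [coe_toM (KL_in _ (lget_mem hi))]
  exact e1

variable {G : Type*} [Group G] {z : G} {V : Subgroup G} {θ : Finset GolayPt → G} {χ₀ χ : M24 →* G}

/-- `c a = b c` -/
noncomputable def cjB (c a b : ℕ) : Bool := eqS (mu c a) (mu b c)

/-- conjugate -/
noncomputable def cjS (c a : ℕ) : ℕ := mu (mu c a) (ivS c)

theorem MW.cj (h : MW θ χ) {c a b : ℕ} (hc : Ok c) (ha : Ok a) (hb : Ok b) (e : cjB c a b = true) :
    evS θ χ c * evS θ χ a * (evS θ χ c)⁻¹ = evS θ χ b := by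
  rw [mul_inv_eq_iff_eq_mul, ← h.evS_mu hc ha, ← h.evS_mu hb hc, h.evS_eq (hc.mu ha) (hb.mu hc) e]

/-- conjugating element and the data for the conjugation by `t` -/
abbrev Stq : Type := ℕ × ℕ × ℕ × ℕ

/-- the pair `a`, `x` is conjugate to the pair `r`, `y` -/
noncomputable def chain (r y c : ℕ) (L : List Stq) : ℕ → ℕ → Bool :=
  List.rec (motive := fun _ => ℕ → ℕ → Bool) (fun a x => okS c && cjB c a r && cjB c x y)
    (fun s _ ih a x => force (cjS s.1 a) fun b => force (cjS s.1 x) fun x' =>
      okS s.1 && cjB s.1 a b && cjB s.1 x x' && isT x' && isT (ch (sp b)) &&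
        repOK (mkS (sn b) one24) s.2.1 s.2.2.1 &&
        repOK s.2.2.2 (0 ^^^ ac T0 s.2.1 ^^^ ac (mm10 T0 s.2.2.1) 0) (mm10 (mm10 T0 s.2.2.1) T0) &&
        force (mu s.2.2.2 (ch (sp b))) fun b' => ih b' x') L

theorem chain_cons (r y c : ℕ) (s : Stq) (L : List Stq) (a x : ℕ) : chain r y c (s :: L) a x =
    force (cjS s.1 a) fun b => force (cjS s.1 x) fun x' =>
      okS s.1 && cjB s.1 a b && cjB s.1 x x' && isT x' && isT (ch (sp b)) &&
        repOK (mkS (sn b) one24) s.2.1 s.2.2.1 &&
        repOK s.2.2.2 (0 ^^^ ac T0 s.2.1 ^^^ ac (mm10 T0 s.2.2.1) 0) (mm10 (mm10 T0 s.2.2.1) T0) &&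
        force (mu s.2.2.2 (ch (sp b))) fun b' => chain r y c L b' x' := rfl

/-- the data that are used below -/
structure Cx (z : G) (V : Subgroup G) (θ : Finset GolayPt → G) (χ₀ χ : M24 →* G) (B : Subgroup G)
    (t : G) : Prop where
  ms : MS z V θ χ₀
  ud : UD θ χ B t
  tr : ∀ g : M24, (g : Pm) ∈ Trio → χ g * t = t * χ g

theorem _root_.CL.J4.JS.exists_cx [Finite G] (h : JS z V θ χ₀) : ∃ χ B t, Cx z V θ χ₀ χ B t := by
  obtain ⟨χ', B, t, u⟩ := exists_ud h.toMS
    (h.ten_seven _ h.toMS.ten_A (h.toMS.α_34 ▸ h.toMS.α_mem (by decide)))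
  obtain ⟨f, hf, hr⟩ := exists_S5 h ((orderOf_injective χ' u.χ_inj _).trans orderOf_σ7)
  exact ⟨χ', B, t, h.toMS, u, u.comm_trio (u.comm_r2 hf hr)⟩

namespace Cx

variable {B : Subgroup G} {t : G} (h : Cx z V θ χ₀ χ B t)
include h

theorem mw : MW θ χ := h.ud.toMW

theorem of_isT {m : ℕ} (hm : Ok m) (e : isT m = true) : t * evS θ χ m * t⁻¹ = evS θ χ m := by
  obtain ⟨e1, e2⟩ := Bool.and_eq_true_iff.1 e
  rw [h.mw.evS_eq hm (Ok.ch hm.2) e1, h.mw.evS_ch, ← h.tr _ (toM_mem' (I.stab_tri le_rfl hm.2 isTri_Tr0
    (Nat.eq_of_beq_eq_true e2))), mul_inv_cancel_right]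

theorem chain_spec {r y c : ℕ} (hr : Ok r) (hy : Ok y) {L : List Stq} {a x : ℕ} (ha : Ok a) (hx : Ok x)
    (e : chain r y c L a x = true) :
    ∃ g, g * evS θ χ a * g⁻¹ = evS θ χ r ∧ g * evS θ χ x * g⁻¹ = evS θ χ y := by
  induction L generalizing a x with
  | nil =>
    simp only [chain, Bool.and_eq_true] at e
    exact ⟨_, h.mw.cj (Ok.of_okS e.1.1) ha hr e.1.2, h.mw.cj (Ok.of_okS e.1.1) hx hy e.2⟩
  | cons s L ih =>
    simp only [chain_cons, force_eq, Bool.and_eq_true] at e
    obtain ⟨⟨⟨⟨⟨⟨⟨e1, e2⟩, e3⟩, e4⟩, e5⟩, e6⟩, e7⟩, e8⟩ := e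
    have hs := Ok.of_okS e1
    have hb : Ok (cjS s.1 a) := (hs.mu ha).mu hs.ivS
    have hx' : Ok (cjS s.1 x) := (hs.mu hx).mu hs.ivS
    have k := h.mw.cj hs ha hb e2
    generalize cjS s.1 a = b at *
    obtain ⟨g, g1, g2⟩ := ih ((ok_of_repOK e7).mu (Ok.ch hb.2)) hx' e8
    have e9 := h.ud.rp_unique (h.ud.rp_mul (h.ud.rp_mul h.ud.rp_t (h.ud.rp_of_repOK e6)) h.ud.rp_t)
      (h.ud.rp_of_repOK e7)
    refine ⟨g * t * evS θ χ s.1, ?_, ?_⟩
    · rw [conj_mul_conj, conj_mul_conj, k, ← g1, h.mw.evS_mu (ok_of_repOK e7) (Ok.ch hb.2), ← e9,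
        ← h.of_isT (Ok.ch hb.2) e5, evS_mkS hb.1, MS.el_one, h.mw.evS_ch, mul_assoc _ t, mul_assoc t (χ _),
        ← mul_assoc t t, h.ud.t_sq, one_mul, ← mul_assoc _ (χ _), mul_assoc t (θ _)]
      rfl
    · rw [conj_mul_conj, conj_mul_conj, h.mw.cj hs hx hx' e3, h.of_isT hx' e4, g2]

theorem mem_V (g : M24) : (χ₀ g)⁻¹ * χ g ∈ V := h.ms.cent_V.le (mem_centralizer_iff.2 fun v hv => by
  obtain ⟨s, hs, rfl⟩ := (h.ms.mem_V v).1 hv
  have e := (h.ms.χ_conj g s hs).trans (h.mw.χ_conj g s hs).symm
  calc _ = (χ₀ g)⁻¹ * (χ₀ g * θ s * (χ₀ g)⁻¹) * χ g := by group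
    _ = _ := by rw [e]; group)

theorem mem_N (g : M24) : χ g ∈ normalizer (V : Set G) :=
  mul_inv_cancel_left (χ₀ g) (χ g) ▸ mul_mem (h.ms.χ_mem_N g) (le_normalizer (h.mem_V g))

theorem exists_of_mem {m : G} (hm : m ∈ normalizer (V : Set G)) :
    ∃ v ∈ V, ∃ g, m = v * χ g := by
  obtain ⟨s, g, hs, rfl⟩ := (h.ms.mem_N m).1 hm
  exact ⟨_, mul_mem (h.ms.θ_mem hs) ((mem_normalizer_iff.1 (h.mem_N g) _).1 (inv_mem (h.mem_V g))), g,
    by group⟩

theorem evS_inj {a b : ℕ} (ha : Ok a) (hb : Ok b) (e : evS θ χ a = evS θ χ b) :
    syn (sn a) = syn (sn b) ∧ comp24 (sp a) one24 = comp24 (sp b) one24 := by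
  have h1 := (okN_iff.1 ha.1).2
  have h2 := (okN_iff.1 hb.1).2
  have e1 : toM (sp a) = toM (sp b) := mul_inv_eq_one.1 (h.mw.inj _ _ (even_symmDiff h2 h1) (by
    rw [h.mw.θ_mul _ _ h2 h1, map_mul, mul_assoc, ← mul_assoc (θ _) (χ _)]
    change _ * (evS θ χ a * _) = 1
    rw [e, map_inv, evS, el, mul_inv_cancel_right, h.mw.θ_sq h2]))
  refine ⟨(h.ms.θ_set_iff ha.1 hb.1).1 ?_, (R.comp24_eq_iff (R_toM ha.2) R.one (R_toM hb.2) R.one).2
    (by rw [e1])⟩
  rw [evS, evS, el, el, e1] at e
  exact mul_right_cancel e

end Cx

end CL.J4.Uq
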