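import Cfsg.Agent.SPOR.J4.KcCh

/-!
Every 2-element is conjugate to one of ten representatives.
-/

set_option autoImplicit false

namespace CL.J4.Uq

open Cfsg CL.K CL.Golay CL.MAut CL.F2M CL.Orb CL.CG Subgroup Ten

/-- the representatives -/
def GR : List ℕ := [16522508409317173440971312601587547755249664, 16516377801987042313107289698000808259354624,
  16516377801987042313107289698000808259403776, 15844528985017313012872505159487693862744064,
  13612097081130711843554467013886249476816896, 13612097081130711843554467013886249476890624,
  13612097081130711843554467013886249476829184, 2365976143059859503319858731341811443314688,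
  12070890030027147625999419686024384492875776, 15385210095896281896951218853583792692539392]

theorem GR_ok {i : ℕ} (hi : i < 10) : Ok (lget GR i) :=
  Ok.of_okS (allLt_iff.1 (show allLt (fun i => okS (lget GR i)) 10 = true by decide +kernel) i hi)

theorem ok_one : Ok (ch one24) := Ok.of_okS (by decide +kernel)

/-- moves on a coset -/
noncomputable def mvF (D P C : List ℕ) (j σ : ℕ) : ℕ := cond (Nat.blt j (llen P))
  (syn (Nat.xor (lget D j) (img24 (lget P j) (Nat.shiftLeft σ 12)))) (lget C (Nat.sub j (llen P)))

/-- the elements of the coset of `k` are conjugate to representatives -/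
noncomputable def fibOK (k : ℕ) (W D P : List ℕ) (C : List (ℕ × ℕ × ℕ × List Stq)) : Bool :=
  okM k && Nat.blt 0 (llen C) && allLt (fun j => okN (lget W j) && okM (lget P j) &&
    Nat.beq (comp24 (lget P j) k) (comp24 k (lget P j)) &&
      Nat.beq (lget D j) (lget W j ^^^ img24 k (lget W j))) (llen P) &&
  lall (fun c => Nat.blt c.1 4096 && okN (c.1 <<< 12) && Nat.blt c.2.1 10 &&
    chain (lget GR c.2.1) (ch one24) c.2.2.1 c.2.2.2 (mkS (c.1 <<< 12) k) (ch one24)) C &&
  orb (mvF D P (C.map Prod.fst)) (fun c => c) (llen P + llen C) (lget (C.map Prod.fst) 0) 2100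
    (fun S _ => allN (fun c => !okN (c <<< 12) || inMask S c) 4096)

theorem fib0 : fibOK (lget KL 0) [0, 0, 0] [0, 0, 0]
  [956302485175575353788796878166559809, 1795248432537898728475572672376535,
  974380510768821363662145534143076928]
  [(0, 0, 16522508409317173440971312601587547755249664, []),
  (3, 2, 16233916835354304619725479672492665790758912, [(12908026064905283031917775011795354586710016, 49, 634134936313486520338360567809,
    16501209337419579502540880413508438718701568)]),
  (15, 1, 1459539891816237962147315552228613623504896, [(315327517166587832126814810971364923539456, 369, 678703206207029868958993876993,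
    472548905292244073781519897566787653816320)])] = true := by decide +kernel

theorem fib1 : fibOK (lget KL 1) [6365184, 15962112] [2176512, 66560]
  [933584104905563412237665656353861066, 651732670425816989905799408539156611]
  [(0, 1, 16522508409317173440971312601587547755249664, []),
  (3, 4, 12787558222483966829004176138866351675875328, [(7696511012020275774656926534290356303159296, 392, 693565739053933420820027148289,
    1647423621842948790057870944412047029084160)]),
  (5, 5, 7955338142525645317862633659791413755166720, [(7108757420691465495535145137270375895592960, 579, 639127820023164177044316620801,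
    12100897905137127197032375624061142575845376)]),
  (12, 2, 16522508409317173440971312601587547755249664, []),
  (15, 3, 5130821012170269344694594793318631515484160, [(6438327260455576793407596796528114548994048, 374, 678703206207029868958993876993,
    334930566327167495625602515826546847694848)])] = true := by decide +kernel

theorem fib2 : fibOK (lget KL 2) [503808, 2113536] [2273804, 3293184]
  [391059462673707091807684686262645382, 5464259070878804975789349988896391]
  [(0, 2, 1655329920993851681347110791142627826327552, [(8807266174224034761190008005102008971350016, 805, 673787731537962783514235504641,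
    3738118253655102309140903558105950181588992)]),
  (3, 3, 16522508409317173440971312601587547755249664, []),
  (5, 4, 16098932370921132034038912682028931843964928, [(11970241824467331008869563501619434003558400, 433, 693565739053933420820027148289,
    1866345229550348048354503803259351690174464)]),
  (71, 1, 13581797601893275197292038884828726433845248, [(7366119718895284272691257052465811896434688, 623, 639127820023164177044316620801,
    12319819637337958459564532662388528062427136)])] = true := by decide +kernel

theorem fib3 : fibOK (lget KL 3) [7700480, 9695232] [7570470, 10483893]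
  [512318463811240139563570218874264623, 967540160616550229206040209923575904]
  [(0, 4, 16522508409317173440971312601587547755249664, []),
  (3, 6, 16522508409317173440971312601587547755249664, []),
  (5, 3, 3209358899461454947306590120519297580666880, [(11392977362568974552029190610962293744713728, 800, 673787731537962783514235504641,
    3901267261841715193383303244331448984780800)]),
  (18, 5, 16522508409317173440971312601587547755249664, [])] = true := by decide +kernel

theorem fib4 : fibOK (lget KL 4) [4640768, 11100160, 1175552] [835714, 10052170, 5861954]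
  [502557597315312855689237318952758931, 943717921674582301441264226703650293,
  984204442416254811130457383075163410]
  [(0, 3, 70197303041412054943258130558093560057856, [(5109002873962139215055514554479068256677888, 693, 653990352870067728905349892097,
    1113674017103990748962129075132496837693440)]),
  (3, 7, 16522508409317173440971312601587547755249664, []),
  (6, 8, 15490473551961601394391575254152438014767104, [(12719533879027631563732524940488735014641664, 653, 653990352870067728905349892097,
    1113674017103990748962129075132496826757120)]),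
  (12, 5, 16237073387291530887527925058400409716948992, [(5737184057142863125697875180941116495015936, 679, 653990352870067728905349892097,
    1140421968314207457677579089455815294939136)]),
  (78, 3, 1014050357696986152565946795587418174279680, [(1426001571228809452341632613916432990920704, 795, 673787731537962783514235504641,
    3819421937842031423211023046660954921754624)])] = true := by decide +kernel

theorem fib5 : fibOK (lget KL 5) [2252800, 10440704] [2253081, 14172233]
  [334092531050447404993882199639250404, 842096794790148242431883622263498960]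
  [(0, 5, 14266764444949549820608739554041406149869568, [(4268835946436153809606682491024089937805312, 790, 673787731537962783514235504641,
    3738118253655102309140903558105950183194624)]),
  (3, 8, 16522508409317173440971312601587547755249664, []),
  (10, 3, 10206820233822944251719395939414004917911552, [(11985772655602085203203018599793969960329216, 386, 693565739053933420820027148289,
    1866345229550348048354503803259351686471680)])] = true := by decide +kernel

theorem fib6 : fibOK (lget KL 6) [12828672, 413696] [9097221, 9322752]
  [167573835943424439833700160028168691, 67973191037518858825514735311242243]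
  [(0, 8, 13546068226131512320808589354463358871207936, [(6338804761027976353100451205744772468649984, 369, 678703206207029868958993876993,
    472548905292244073781519897566787653816320)]),
  (3, 9, 16522508409317173440971312601587547755249664, []),
  (33, 6, 7296446302100720168992786969764631863205888, [(12994117534550349300356923632348175071477760, 820, 673787731537962783514235504641,
    3756454268495319675589438912720151534542848)])] = true := by decide +kernel

theorem okN_syn {n : ℕ} (h : okN n = true) : syn n < 4096 ∧ okN (syn n <<< 12) = true := by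
  have h1 := okN_iff.1 h
  have h2 := shift_lt (syn_lt h1.1)
  exact ⟨syn_lt h1.1, okN_iff.2 ⟨h2, even_of_Syn_eq (by
    rw [Syn_setOf h1.1, Syn_setOf h2, syn_shiftLeft]) h1.2⟩⟩

variable {G : Type*} [Group G] {z : G} {V : Subgroup G} {θ : Finset GolayPt → G} {χ₀ χ : M24 →* G}

namespace Cx

variable {B : Subgroup G} {t : G} (h : Cx z V θ χ₀ χ B t)
include h

theorem isConj_of_chain {i c a : ℕ} {L : List Stq} (hi : i < 10) (ha : Ok a)
    (e : chain (lget GR i) (ch one24) c L a (ch one24) = true) :
    IsConj (evS θ χ (lget GR i)) (evS θ χ a) :=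
  (isConj_iff.2 ((h.chain_spec (GR_ok hi) ok_one ha ok_one e).imp fun _ => And.left)).symm

theorem fib_spec {k : ℕ} {W D P : List ℕ} {C : List (ℕ × ℕ × ℕ × List Stq)}
    (e : fibOK k W D P C = true) {v : G} (hv : v ∈ V) :
    ∃ i < 10, IsConj (evS θ χ (lget GR i)) (v * χ (toM k)) := by
  simp only [fibOK, Bool.and_eq_true, allLt_iff, lall_iff, Nat.blt_eq, Nat.beq_eq] at e
  obtain ⟨⟨⟨⟨e1, e2⟩, e3⟩, e4⟩, e5⟩ := e
  have hk := I.of_okM e1
  let Q : ℕ → Prop := fun σ => σ < 4096 ∧ okN (σ <<< 12) = true ∧
    ∃ i < 10, IsConj (evS θ χ (lget GR i)) (evS θ χ (mkS (σ <<< 12) k))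
  have h1 : ∀ j < llen C, Q (lget (C.map Prod.fst) j) := fun j hj => by
    obtain ⟨c, hc, e⟩ := List.mem_map.1 (lget_mem (L := C.map Prod.fst) (j := j)
      (by rwa [List.length_map, ← llen_eq]))
    obtain ⟨⟨⟨c1, c2⟩, c3⟩, c4⟩ := e4 c hc
    exact e ▸ ⟨c1, c2, _, c3, h.isConj_of_chain c3 (Ok.mkS c2 hk) c4⟩
  have h2 : ∀ σ, Reach (mvF D P (C.map Prod.fst)) (llen P + llen C) (lget (C.map Prod.fst) 0) σ →
      Q σ := fun σ hσ => by
    induction hσ with
    | base => exact h1 0 e2
    | step σ j _ hj ih =>
      unfold mvF
      cases h5 : Nat.blt j (llen P)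
      · refine h1 _ ?_
        rw [← Bool.not_eq_true, Nat.blt_eq] at h5
        show j - _ < _
        omega
      obtain ⟨⟨⟨p1, p2⟩, p3⟩, p4⟩ := e3 j (Nat.blt_eq ▸ h5)
      obtain ⟨-, q2, i, hi, q3⟩ := ih
      have p5 := I.of_okM p2
      have p6 := okN_syn (okN_xor (p4 ▸ okN_xor p1 (okN_img hk p1) : okN (lget D j) = true) (okN_img p5 q2))
      show Q (syn (lget D j ^^^ img24 (lget P j) (σ <<< 12)))
      refine ⟨p6.1, p6.2, i, hi, q3.trans (isConj_iff.2 ⟨_, h.mw.cj (Ok.mkS p1 p5) (Ok.mkS q2 hk)
        (Ok.mkS p6.2 hk) ?_⟩)⟩
      have l1 := (okN_iff.1 p1).1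
      have l2 := (okN_iff.1 q2).1
      have l3 := (okN_iff.1 p6.2).1
      rw [cjB, eqS, force_eq, force_eq, mu_eq, mu_eq, sn_mkS l1, sp_mkS l1, sn_mkS l2, sp_mkS l2,
        sn_mkS l3, sp_mkS l3, sn_mkS (okN_iff.1 (okN_xor p1 (okN_img p5 q2))).1,
        sp_mkS (okN_iff.1 (okN_xor p1 (okN_img p5 q2))).1,
        sn_mkS (okN_iff.1 (okN_xor p6.2 (okN_img hk p1))).1,
        sp_mkS (okN_iff.1 (okN_xor p6.2 (okN_img hk p1))).1, p3, p4]
      simp only [syn_xor, syn_shiftLeft, Nat.beq_refl, Bool.and_true, Nat.beq_eq]
      rw [Nat.xor_assoc, Nat.xor_assoc, Nat.xor_comm (syn (img24 (lget P j) _)), ← Nat.xor_assoc (syn (img24 k _)),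
        Nat.xor_self, Nat.zero_xor]
  obtain ⟨s, hs, rfl⟩ := (h.ms.mem_V v).1 hv
  obtain ⟨σ, s1, s2, s3⟩ := h.ms.exists_θ hs
  obtain ⟨-, -, i, hi, e⟩ := h2 σ (reach_of_orb (p := fun c => okN (c <<< 12)) e5 s1 s2)
  exact ⟨i, hi, by rwa [evS_mkS s2, el, s3] at e⟩

theorem two_cover [Finite G] {g : G} (hg : IsPGroup 2 (zpowers g)) :
    ∃ i < 10, IsConj (evS θ χ (lget GR i)) g := by
  have : Fact (Nat.Prime 2) := ⟨Nat.prime_two⟩
  obtain ⟨T, -, hT⟩ := h.ms.exists_sylow
  obtain ⟨P, hP⟩ := hg.exists_le_sylow
  obtain ⟨a, rfl⟩ := MulAction.exists_smul_eq G T P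
  obtain ⟨y, hy, e⟩ := hP (mem_zpowers g)
  obtain ⟨v, hv, k, rfl⟩ := h.exists_of_mem (hT hy)
  obtain ⟨n, hn⟩ := T.2 ⟨_, hy⟩
  have h1 : ∀ m : ℕ, ∃ w ∈ V, (v * χ k) ^ m = w * χ (k ^ m) := fun m => by
    induction m with
    | zero => exact ⟨1, one_mem _, by simp⟩
    | succ m ih =>
      obtain ⟨w, hw, e⟩ := ih
      exact ⟨_, mul_mem hv ((mem_normalizer_iff.1 (h.mem_N k) _).1 hw), by
        rw [pow_succ', e, pow_succ' k, map_mul]; group⟩
  obtain ⟨w, hw, e1⟩ := h1 (2 ^ n)
  obtain ⟨s, hs, rfl⟩ := (h.ms.mem_V w).1 hw
  have e2 := h.mw.inj s _ hs (e1.symm.trans (congrArg Subtype.val hn))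
  obtain ⟨j, -, e4⟩ := (Nat.dvd_prime_pow Nat.prime_two).1 (orderOf_dvd_of_pow_eq_one e2)
  obtain ⟨i, hi, e3⟩ := two_M24 (k := k) (IsPGroup.of_card ((Nat.card_zpowers k).trans e4))
  obtain ⟨c, rfl⟩ := isConj_iff.1 e3
  have h2 : ∃ j < 10, IsConj (evS θ χ (lget GR j)) ((χ c)⁻¹ * v * (χ c)⁻¹⁻¹ * χ (toM (lget KL i))) := by
    have := (mem_normalizer_iff.1 (inv_mem (h.mem_N c)) _).1 hv
    interval_cases i
    exacts [h.fib_spec fib0 this, h.fib_spec fib1 this, h.fib_spec fib2 this, h.fib_spec fib3 this,
      h.fib_spec fib4 this, h.fib_spec fib5 this, h.fib_spec fib6 this]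
  refine h2.imp fun j e5 => ⟨e5.1, e5.2.trans (isConj_iff.2 ⟨a * χ c, Eq.trans ?_ e⟩)⟩
  simp [mul_assoc]

end Cx

end CL.J4.Uq
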