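import Cfsg.Agent.SPOR.J4.Setup

/-!
Calculus of codes for the centraliser `H` of `z`: every element is `sc u * c` with `c` normalising
`x`; `c` is known up to `z` from its matrix and its permutation.
-/

set_option autoImplicit false
set_option maxRecDepth 100000
set_option linter.unusedSectionVars false
set_option linter.unusedVariables false

namespace CL.J4

open Finset CL.K CL.CG CL.F2M CL.LX CL.MSS Cfsg CL.Golay CL.MAut MulAction
open CL.F24 hiding qf bf qf_add bf_add_left bf_comm bf_add_right bf_self qf_zero bf_zero_left bf_zero_right bf_eq qC bC qC_code bC_code Z0 code_Z0 code_Z0_inv Z0_sq Z0_cube Z0_sum add_Z0 eq_zero_of_Z0 qf_Z0 qf_Z0_inv bf_smul bf_Z0_self eq_zero_of_bf Frame cw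

attribute [local irreducible] gcode vcode

def tabs : List (ℕ × List ℕ) := [
  (0, [0xbdab49ca307b9ac5a928398a418820800400200100080040020010008004002001, 0, 0, 0, 0, 0, 0, 0, 0, 0, 0, 0, 0, 0, 0, 0, 0, 0, 0, 0, 0, 0, 0, 0x112e7c6429d02728ea662176541b7924e1c4518b3e4678de3691b9d37a13c528a]),
  (1, [0, 0xbdab49ca307b9ac5a928398a418820800400200100080040020010008004002001, 0xb9dd5905764458a78c9469a658244002903e94f7c57cfe85bcfd4ac484848dfc7a, 0xb96a981844a2d8a0c6c874df23b460a9a56f626d3b67cdd43551bf2123310c8044, 0xb8a0a92de3b1d2d73291998b50a0808a74793e02b08d74a9998ef40740ac918e34, 0xba9eb4928c72216a9e51198416cca0ef499876befd02503a5ffa6aa78fa4b68d94, 0xb8d4e9127442e01496b179ec26b0c0331212203101013021f5d5bbbfdd6bde765e, 0xbd1c9919f56114d858519ad03094e038024002603b03601b03402c7009007c0940, 0xbd04652df19b2a51c89671d216c100ee59ba9a2773762ef3662b91a01f0305e0b9, 0xbc5f352c66749956d905a0a0438520f40ac09807409407c0eec7581dd27b989ec7,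 0xba121619e2958f19d49458db02b940451ce240fc0514f3c500f00ad756af806c0d, 0xbaa6c38da6784488523693924a9560ec09809407c0dc0b80957ebe7519b303402c, 0xbc26772c6855925a1a51112ad0bd80fd1aa23d92ae8c44889aced83861cd6afbda, 0xb96837ca299a8283c1d63118b155a0a525e3927739d2fb351202108f6c6df4e589, 0xbc66f81c4454914096cc1d52b335c0a9a56f0440c865ede7537a2e221313d3b626, 0xba14314a04a98b36b2d14d1c7585e064bdcd758eec8d34a19abed62d437cedf77a, 0xbc66f712874c8a20a196a8d465b600e2893ca2e5379cb78d0c8044e727a1d3b626, 0xbd612999cca154879c964ac6d08a207ddea6222133aa257302201100a005031023, 0xbbe6a21c438ae8da95368198e0a240408c0c80840cc0d806998ef421233144c888, 0xbc4ed7052441acc80a8a5c9f519660ab7559ebe957589f4e03b026625b1f952eb1, 0xb953579e7282ece6a22c1286620680da3b7177aedf3e52ba740980bfdd6b9abed6, 0xbda029adf2511090b2251ba87336a0e409c01bf35596c7f4537a2e700900cc0440, 0xb8ea481e717a28c14965519cd0a6c08484cce2a93fea697b99fefa6fcb682f0360, 0]),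
  (2, [0, 0, 0xbdab49ca307b9ac5a928398a418820800400200100080040020010008004002001, 0xbd4d26ba963ad828c1254288f98c201af3752761dbeac9743961fdf3d52b3bd1eb, 0xbbd828a968b4cf5741b23268519020e97969e809407fbe9d240380d6b696500a00, 0xbdaa45c1d27c4cc9a0ea4b45419420c618f294a7cfcf889c02601d00c00803e029, 0xb9076509eca393339655436115982000400849fc65c7e8d7da36d2803c0240680d, 0xbadc5a24517cd5092083636b631c20197369f8ba4d24b1cd64bb86201303fff56a, 0xb946b35664158f1832545352f72020bda6afe749d8bae677808c042fe369f6459c, 0xb946f812d514db13514c91d0b72420d6bbfd7b5e5ade7bb9c0a405369197595aff, 0xba1c2aaca34c1b63be91249869a82037c2d4c92863c658fa06a0957ca94572d91b, 0xb8a29b50cc2c2439d5a43a9e872c2063cd14cc48880400c0c0c40837c1a85a7ade, 0xba1c638e0b49656ac48fa35429b020023031302203202103e02701e8f7ca95debb, 0xbc56429a93b3a4a44043aa58f3b420c028032ae1773ad2761bf2eac0f40a80cc08, 0xbb169846ad42a821da65798879382063fd15c0680b96c7f440780ef4e58940e809,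 0xb8a289b21429943b10f56c96973c20b1f625475cda0a00704018031a82d4ad9f77, 0xb90713b1c2a3db355505924d65c020d75bda8b34517d7ea95a7ade401803b76dad, 0xbb26793aa6520851d9627b689844203602f0c7a8df2201304b68ed1502b048c8c8, 0xbc174644833292f6d8b3122a774820d15b2abf269356afffc09407d806c02ce349, 0xbd5cd42d87940441be34b24a654c201a837ccfc89409906e0950ff0e705ee68794, 0xbbd857226ab2d358c8d069c821d0203312123322131113223ab1d6696bfda16f3d, 0xbc16768d513110f64c562a65475420680d40b37619924738807c0eb40d801802c0, 0xbd2707554521e43789ac4a2265d820b8664b78de462ba15fd2f61a63fb2aa4df8b, 0]),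
  (3, [0, 0, 0, 0xbdab49ca307b9ac5a928398a418820800400200100080040020010008004002001, 0xb9a2f2adb34daac42a921ba07208205c6f8b232113d61bf2100200573aa2122211, 0xbd0cc9b62990df682164a9dca288201ed3b6112323b406c003102302d01b020010, 0xb96505a8e3b5634791a94326e30820409c0e001002405c0a2233124798a7210330, 0xbb9a9822a5a1a2c929eb25a633882038b24d0100203bd256113232559ab7131223, 0xbd62d1a653830f4512cf71566408203e52ba2231315aef77110230ce645d101203, 0xbb56391a842bed53ba3362150488206dbdad233111e689fc220310dd9677202301, 0xb9e32741f35d0d62218d28d3550820b37619330210e6e9f7231323dd9677213332, 0xbbe0569d8a74a86a8e33b110958820f1aa2f130310595f6a123212ce645d132221, 0xbd1d51c24a3ad2db1a642c50f608201af37520210390070010120356fa9a123212, 0xb9e9278ec6612ae8ad055261368820f00a002011029697fe311133640b80300100, 0xbb0f69be2b696544920a3546870820eb495832023051cf2400200101703e031023, 0xbc647459239d1cd21ab062d45788207cfe850230317cae8f103202545a8f121213,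 0xbc92e7d6c81b58731633a288b808200440c8331212bfd696322111fd1573311133, 0xb9128a1dd660da6ac97353cb0888201f639b233111794e6802101300b006030020, 0xb9acf6b995a20e58a54324173908206fcd9430320139626b13222155cab8110230, 0xba6cc846af41e8e2ae43690ca98820d15b2a3232311ed3b6102201cde479113232, 0xbb59144d2472ac7a94665c9f0a082072de3611132237c2d4121213bbfdea112231, 0xb8deb490ce61e366a25055265a882096c7f40230319457ca33012064bb86321113, 0xbca9154e082918638dd54bdabb08208404c0212123e1e927211333a80fc0200300, 0]),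
  (5, [0, 0, 0, 0, 0, 0xbdab49ca307b9ac5a928398a418820800400200100080040020010008004002001, 0, 0, 0, 0, 0, 0, 0, 0, 0xba9b5b48a93468864ceb811cf188204adc762021032da1af030020029017021013, 0, 0, 0xba4eca91d491550b216d99a2f188209747d81033013d92ae02001000f00a031023, 0, 0, 0, 0, 0, 0]),
  (4, [0, 0, 0, 0, 0xbdab49ca307b9ac5a928398a418820800400200100080040020010008004002001, 0, 0xb9e086be3593a6952d94b10a618820406c0b13131206e0f703002000c008003002, 0xb99b28523343aaa4b16f258a71882080b40d2321130ac074020010008004002001, 0xbc92655a2c3b9706cea47d0a81882080840c230110080040020010008004002001, 0xba91094e346b9e63d8955b0a918820405c0a1303100700d003002000c008003002, 0xba64d4562f83a87312d362caa18820c078093232310ff09501003000400c001003, 0xbb1f3a4232ab916218ed4a8ab18820408c0c1233310440c803002000c008003002, 0xbae957b6289ba44b1cd0524ac188208024032031010b905e020010008004002001, 0xbc0ea332364b892451ebaccad18820c0880c3112220c808c01003000400c001003,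 0, 0xbd17661a2a23933ac1a7448af18820c028033012020d80ac01003000400c001003, 0xbb4c93ae2453ac893e8c9d4b01882080a40f2331110b905e020010008004002001, 0, 0xba1474922b3398d85676a3cb218820407c0913231305a0ef03002000c008003002, 0xbd6cb22627638cfa224a834b31882080140220110209506a020010008004002001, 0xbbd8459e29b39559b606920b41882040ac0f12133206e0f703002000c008003002, 0xbcc8cb2a265b8f47c9096c0b518820409c0e1203300700d003002000c008003002, 0xb926faa22da3a0b6255231cb618820c0d8063332110ef0b501003000400c001003, 0])]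
def tprog : List (ℕ × ℕ) := [(0, 3), (3, 2), (3, 3), (3, 4), (6, 4), (6, 5), (6, 6), (9, 6), (10, 6), (10, 7), (10, 8), (13, 8), (13, 9), (14, 9), (14, 10), (17, 10), (17, 8), (17, 8), (20, 7), (20, 20), (0, 23), (0, 23), (0, 23), (0, 26), (0, 27), (0, 26), (0, 28), (28, 29), (1, 30), (30, 3), (3, 4), (4, 4), (33, 4), (6, 4), (35, 4), (8, 5), (9, 4), (38, 3), (11, 4), (40, 4), (41, 3), (14, 4), (15, 2), (44, 2), (17, 2), (46, 47), (0, 20), (20, 49), (0, 22), (0, 51), (0, 52), (4, 5), (5, 2), (2, 3), (7, 3), (4, 4), (9, 4), (6, 5), (11, 4), (8, 4), (13, 4), (10, 5), (15, 5), (12, 6), (13, 6), (18, 5), (15, 6), (20, 6), (21, 22), (0, 19), (0, 20), (0, 25), (0, 26), (0, 23), (27, 24), (0, 29), (0, 30), (0, 27), (0, 28), (28, 33), (0, 30), (0, 35), (0, 36), (0, 10), (10, 2), (11, 3), (0, 13), (0, 5), (0, 10), (0, 7), (0, 8), (0, 13), (13, 10), (8, 10), (2, 11), (2, 12), (4, 12), (4, 13), (5, 7), (7, 6), (7, 7),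 (8, 7), (9, 6), (10, 4)]

/-- matrix part of a pair code -/
def pA (t : ℕ) : ℕ := Nat.land t (2 ^ 144 - 1)
/-- permutation part of a pair code -/
def pP (t : ℕ) : ℕ := Nat.shiftRight t 144

/-- a matrix over a permutation, by sifting; `0` on failure -/
noncomputable def sift (L : List (ℕ × List ℕ)) : ℕ → ℕ :=
  List.rec (motive := fun _ => ℕ → ℕ) (fun g => cond (Nat.beq g one24) c1 0)
    (fun bT _ ih g => force (lget bT.2 (app24 g bT.1)) fun t => cond (Nat.beq t 0) 0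
      (force (inv24 (pP t)) fun i => force (comp24 i g) fun g' => force (ih g') fun m =>
        cond (Nat.beq m 0) 0 (mm (pA t) m))) L

/-- a matrix over the permutation `P` -/
noncomputable def lift (P : ℕ) : ℕ := force P (sift tabs)

/-- `A` is one of the three matrices over `P` -/
noncomputable def jchk (A P : ℕ) : Bool :=
  force (lift P) fun m => !Nat.beq m 0 &&
    (Nat.beq A m || Nat.beq A (mm m cX) || Nat.beq A (mm m cXX))

/-- `1` for permutations outside `M22` -/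
def ob (P : ℕ) : ℕ := cond (Nat.beq (app24 P 23) 23) 0 1

theorem gcode_lt (g : GL12) : gcode g < 2 ^ 144 := by unfold gcode; exact mcode_lt _

theorem vv {u : ℕ} (hu : u < 4096) : vcode (vdec 12 u) = u := vcode_vdec (n := 12) hu

theorem pow_xor {G : Type*} [Group G] {z : G} (hz : z * z = 1) (a b : ℕ) :
    z ^ (a ^^^ b) = z ^ a * z ^ b := by
  have h2 : z ^ 2 = 1 := by rw [pow_two, hz]
  rw [← pow_add, pow_eq_pow_mod _ h2, pow_eq_pow_mod (a + b) h2, Nat.xor_mod_two_eq]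

theorem exists_R (g : Pm) : ∃ P, R g P := ⟨_, Enc.rep_code fmt g⟩

variable {G : Type*} [Group G] {z : G} {Q : Subgroup G} {κ : G → W}
  {ρ : Subgroup.centralizer ({z} : Set G) →* GL12}
  {μ : Subgroup.centralizer ({z} : Set G) →* Pm} {x : G}

theorem Jp.mul {A P B U : ℕ} (h : Jp ρ μ A P) (k : Jp ρ μ B U) : Jp ρ μ (mm A B) (comp24 P U) := by
  obtain ⟨a, a1, a2⟩ := h
  obtain ⟨b, b1, b2⟩ := k
  exact ⟨a * b, by rw [map_mul, code_mul a1 b1], map_mul μ a b ▸ a2.mul b2⟩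

theorem jp_one : Jp ρ μ c1 one24 := ⟨1, by rw [map_one, C12.map_one], map_one μ ▸ Golay.R.one⟩

theorem Jp.lt {A P : ℕ} (h : Jp ρ μ A P) : A < 2 ^ 144 := by
  obtain ⟨a, rfl, -⟩ := h; exact gcode_lt _

theorem sift_spec {L : List (ℕ × List ℕ)}
    (hL : ∀ bT ∈ L, ∀ t ∈ bT.2, t = 0 ∨ Jp ρ μ (pA t) (pP t)) {γ : Pm} {g : ℕ} (hg : R γ g)
    (h : sift L g ≠ 0) : Jp ρ μ (sift L g) g := by
  induction L generalizing γ g with
  | nil =>
    change Jp ρ μ (cond (Nat.beq g one24) c1 0) g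
    change cond (Nat.beq g one24) c1 0 ≠ 0 at h
    cases e : Nat.beq g one24
    · rw [e] at h; exact absurd rfl h
    · rw [eq_of_beq e]; exact jp_one
  | cons bT L ih =>
    have e0 : sift (bT :: L) g = force (lget bT.2 (app24 g bT.1)) fun t => cond (Nat.beq t 0) 0
      (force (inv24 (pP t)) fun i => force (comp24 i g) fun g' => force (sift L g') fun m =>
        cond (Nat.beq m 0) 0 (mm (pA t) m)) := rfl
    rewrite [e0] at h ⊢
    simp only [force_eq] at h ⊢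
    have ht : lget bT.2 (app24 g bT.1) = 0 ∨ lget bT.2 (app24 g bT.1) ∈ bT.2 := by
      generalize app24 g bT.1 = j
      generalize bT.2 = T
      induction T generalizing j with
      | nil => exact Or.inl rfl
      | cons a T ih =>
        cases j with
        | zero => exact Or.inr List.mem_cons_self
        | succ j => exact (ih j).imp id (List.mem_cons_of_mem _)
    generalize lget bT.2 (app24 g bT.1) = t at h ht ⊢
    cases e : Nat.beq t 0
    · rewrite [e, cond_false] at h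
      rewrite [cond_false]
      obtain ⟨a, a1, a2⟩ := (ht.elim Or.inl (hL bT List.mem_cons_self t)).resolve_left (ne_of_beq e)
      have h1 := a2.inv.mul hg
      generalize comp24 (inv24 (pP t)) g = g' at h h1 ⊢
      cases e' : Nat.beq (sift L g') 0
      · rewrite [cond_false]
        obtain ⟨b, b1, b2⟩ := ih (fun bT hb => hL bT (List.mem_cons_of_mem _ hb)) h1 (ne_of_beq e')
        refine ⟨a * b, by rewrite [map_mul]; exact code_mul a1 b1, ?_⟩
        rewrite [map_mul, MAut.R.eq_of b2 h1 rfl, mul_inv_cancel_left]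
        exact hg
      · rewrite [e', cond_true] at h; exact absurd rfl h
    · rewrite [e, cond_true] at h; exact absurd rfl h

namespace HS

variable (S : HS z Q κ ρ μ x)
include S

theorem jp_tabs : ∀ bT ∈ tabs, ∀ t ∈ bT.2, t = 0 ∨ Jp ρ μ (pA t) (pP t) := by
  have h0 : slp (pmul 144 (2 ^ 144 - 1) mm comp24) id (fun L => lall (fun bT : ℕ × List ℕ =>
      lall (fun t => Nat.beq t 0 || Nat.beq t (c1 + one24 * 2 ^ 144) || lmem t L) bT.2) tabs) tprog 4
      [cC + pC * 2 ^ 144, cD + pD * 2 ^ 144, cE + pE * 2 ^ 144, cF + pF * 2 ^ 144] = true := by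
    decide +kernel
  have h1 : ∀ {A P : ℕ}, Jp ρ μ A P → Jp ρ μ (pA (A + P * 2 ^ 144)) (pP (A + P * 2 ^ 144)) :=
    fun h => by rewrite [pA, pP, land_pair h.lt, shift_pair h.lt]; exact h
  obtain ⟨L, h2, -, h3⟩ := slp_spec (p := fun t => Jp ρ μ (pA t) (pP t)) (fun a b ha hb => by
    have := h1 (ha.mul hb)
    rewrite [pmul, force_eq, force_eq, shl]
    exact this) (fun _ h => h) (Nat.le_refl 4) (fun a ha => by
      simp only [List.mem_cons, List.not_mem_nil, or_false] at ha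
      rcases ha with rfl | rfl | rfl | rfl
      exacts [h1 S.jc, h1 S.jd, h1 S.je, h1 S.jf]) h0
  intro bT hb t ht
  have h4 := lall_iff.1 (lall_iff.1 h3 bT hb) t ht
  rewrite [Bool.or_eq_true, Bool.or_eq_true] at h4
  rcases h4 with (h4 | h4) | h4
  exacts [Or.inl (eq_of_beq h4), Or.inr (by rewrite [eq_of_beq h4]; exact h1 jp_one),
    Or.inr (h2 t (lmem_iff.1 h4))]

theorem jp_lift {γ : Pm} {P : ℕ} (hP : R γ P) (h : lift P ≠ 0) : Jp ρ μ (lift P) P := by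
  rewrite [lift, force_eq] at h ⊢
  exact sift_spec S.jp_tabs hP h

theorem x_mem : x ∈ Subgroup.centralizer ({z} : Set G) := S.hx.mem

theorem ρ_x : ρ ⟨x, S.x_mem⟩ = Z0 := S.hx.2

theorem μ_x : μ ⟨x, S.x_mem⟩ = 1 := (S.ker _).2 (S.ρ_x ▸ Subgroup.mem_zpowers _)

theorem jp_X : Jp ρ μ cX one24 := ⟨⟨x, S.x_mem⟩, by rw [S.ρ_x, code_Z0], S.μ_x ▸ Golay.R.one⟩

theorem jp_XX : Jp ρ μ cXX one24 :=
  ⟨⟨x, S.x_mem⟩⁻¹, by rw [map_inv, S.ρ_x, code_Z0_inv], by rw [map_inv, S.μ_x, inv_one]; exact Golay.R.one⟩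

theorem jp_mul_one {A B P : ℕ} (h : Jp ρ μ A P) (k : Jp ρ μ B one24) : Jp ρ μ (mm A B) P := by
  obtain ⟨a, a1, a2⟩ := h
  obtain ⟨b, b1, b2⟩ := k
  exact ⟨a * b, by rw [map_mul, code_mul a1 b1], by rwa [map_mul, b2.eq_one, mul_one]⟩

theorem jp_of_jchk {A P : ℕ} (hP : isPerm24 P = true) (h : jchk A P = true) : Jp ρ μ A P := by
  rewrite [jchk, force_eq, Bool.and_eq_true, Bool.or_eq_true, Bool.or_eq_true, Bool.not_eq_true'] at h
  have h1 := S.jp_lift (Golay.R.pm hP) (ne_of_beq h.1)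
  rcases h.2 with (e | e) | e <;> rewrite [eq_of_beq e]
  exacts [h1, S.jp_mul_one h1 S.jp_X, S.jp_mul_one h1 S.jp_XX]

/-- two matrices over the same permutation -/
theorem jp_cases {A B P : ℕ} (h : Jp ρ μ A P) (k : Jp ρ μ B P) :
    B = A ∨ B = mm A cX ∨ B = mm A cXX := by
  obtain ⟨a, a1, a2⟩ := h
  obtain ⟨b, b1, b2⟩ := k
  have h1 := (S.ker (a⁻¹ * b)).1 (by rw [map_mul, map_inv, MAut.R.eq_of a2 b2 rfl, inv_mul_cancel])
  rw [map_mul, map_inv] at h1
  rcases mem_zpowers_three Z0_cube h1 with e | e | e <;> rw [inv_mul_eq_iff_eq_mul] at e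
  · left; rw [← b1, e, mul_one, a1]
  · right; left; rw [← b1, e, code_mul a1 code_Z0]
  · right; right; rw [← b1, e, Z0_sq, code_mul a1 code_Z0_inv]

theorem μ_mem (h : Subgroup.centralizer ({z} : Set G)) : μ h ∈ Duad := S.range ▸ ⟨h, rfl⟩

theorem μ_Q {q : G} (hq : q ∈ Q) (h : q ∈ Subgroup.centralizer ({z} : Set G)) : μ ⟨q, h⟩ = 1 :=
  (S.ker _).2 ((S.ov_Q hq).2 ▸ one_mem _)

theorem inner_iff {h : Subgroup.centralizer ({z} : Set G)} {P : ℕ} (hP : R (μ h) P) :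
    μ h ∈ Spor.M22 ↔ ob P = 0 := by
  obtain ⟨h1, h2⟩ := mem_Duad.1 (S.μ_mem h)
  have h3 : app24 P 23 = E.enc (μ h none) := (hP none).symm
  rw [mem_M22, ob, h3]
  rcases h2 with h2 | h2 <;> rw [h2.1, h2.2]
  · exact ⟨fun _ => rfl, fun _ => ⟨h1, rfl, rfl⟩⟩
  · exact ⟨fun h => absurd h.2.1 (by simp), fun h => absurd h (by decide)⟩

/-- `c` lies in `H`, with matrix `A` and permutation `P` -/
def Jg (S : HS z Q κ ρ μ x) (c : G) (A P : ℕ) : Prop :=
  ∃ hc : c ∈ Subgroup.centralizer ({z} : Set G), gcode (ρ ⟨c, hc⟩) = A ∧ R (μ ⟨c, hc⟩) P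

/-- moreover `c` normalises `x` -/
def Jt (S : HS z Q κ ρ μ x) (c : G) (A P : ℕ) : Prop :=
  S.Jg c A P ∧ c ∈ Subgroup.normalizer (Subgroup.zpowers x : Set G)

/-- the section on codes -/
noncomputable def sc (S : HS z Q κ ρ μ x) (v : ℕ) : G := lf Q κ x (vdec 12 v)

/-- coordinates of an element of `H`, up to `z` -/
def El (S : HS z Q κ ρ μ x) (y : G) (u A P : ℕ) : Prop :=
  u < 4096 ∧ ∃ c, S.Jt c A P ∧ y = S.sc u * c

omit S in
section
variable {S : HS z Q κ ρ μ x} {c d y y' : G} {A B P U u v : ℕ}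

theorem Jg.jp (h : S.Jg c A P) : Jp ρ μ A P := let ⟨hc, h1⟩ := h; ⟨⟨c, hc⟩, h1⟩

theorem Jg.mem (h : S.Jg c A P) : c ∈ Subgroup.centralizer ({z} : Set G) := h.1

theorem Jg.comm (h : S.Jg c A P) : c * z = z * c := Subgroup.mem_centralizer_singleton_iff.1 h.1

theorem Jg.ov (h : S.Jg c A P) : ∃ γ, Ov ρ c γ ∧ gcode γ = A := ⟨_, ⟨h.1, rfl⟩, h.2.1⟩

theorem Jg.mul (h : S.Jg c A P) (k : S.Jg d B U) : S.Jg (c * d) (mm A B) (comp24 P U) := by
  obtain ⟨a, a1, a2⟩ := h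
  obtain ⟨b, b1, b2⟩ := k
  refine ⟨mul_mem a b, ?_, ?_⟩
  · rw [← code_mul a1 b1, ← map_mul]; rfl
  · have := a2.mul b2
    rwa [← map_mul] at this

theorem Jg.inv (h : S.Jg c A P) (e : mm A B = c1) (hB : Jp ρ μ B U) : S.Jg c⁻¹ B (inv24 P) := by
  obtain ⟨a, a1, a2⟩ := h
  obtain ⟨b, b1, -⟩ := hB
  refine ⟨inv_mem a, ?_, ?_⟩
  · have : ρ ⟨c, a⟩ * ρ b = 1 := C12.inj (by rw [code_mul a1 b1, e, C12.map_one])
    rw [← b1, eq_inv_of_mul_eq_one_right this, ← map_inv]; rfl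
  · have := a2.inv
    rwa [← map_inv] at this

theorem Jg.exists_inv (h : S.Jg c A P) : ∃ B, S.Jg c⁻¹ B (inv24 P) ∧ mm A B = c1 ∧ mm B A = c1 := by
  obtain ⟨a, a1, a2⟩ := h
  refine ⟨gcode (ρ ⟨c, a⟩)⁻¹, ⟨inv_mem a, by rw [← map_inv]; rfl, ?_⟩,
    by rw [← a1, C12.map_mul, mul_inv_cancel, C12.map_one],
    by rw [← a1, C12.map_mul, inv_mul_cancel, C12.map_one]⟩
  have := a2.inv
  rwa [← map_inv] at this

theorem Jg.unique (h : S.Jg c A P) (k : S.Jg c B U) : A = B := h.2.1.symm.trans k.2.1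

theorem Jg.perm (h : S.Jg c A P) (k : S.Jg c B U) : S.Jg c A U := ⟨h.1, h.2.1, k.2.2⟩

theorem Jg.cases (h : S.Jg c A P) (k : Jp ρ μ B P) : A = B ∨ A = mm B cX ∨ A = mm B cXX :=
  S.jp_cases k h.jp

theorem Jg.ac_lt (h : S.Jg c A P) : ac A u < 4096 := J4.ac_lt _ _

theorem Jg.ac_xor (h : S.Jg c A P) (hu : u < 4096) (hv : v < 4096) :
    ac A (u ^^^ v) = ac A u ^^^ ac A v := h.2.1 ▸ J4.ac_xor _ hu hv

theorem Jg.ac_mul (h : S.Jg c A P) (k : S.Jg d B U) (hu : u < 4096) :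
    ac (mm A B) u = ac A (ac B u) := by
  rw [← h.2.1, ← k.2.1, C12.map_mul, J4.ac_mul _ _ hu]

theorem Jg.mem_Q (h : S.Jg c c1 P) : c ∈ Q :=
  S.mem_of_ov ⟨h.1, C12.inj (h.2.1.trans C12.map_one.symm)⟩

theorem Jt.mul (h : S.Jt c A P) (k : S.Jt d B U) : S.Jt (c * d) (mm A B) (comp24 P U) :=
  ⟨h.1.mul k.1, mul_mem h.2 k.2⟩

theorem Jt.inv (h : S.Jt c A P) (e : mm A B = c1) (hB : Jp ρ μ B U) : S.Jt c⁻¹ B (inv24 P) :=
  ⟨h.1.inv e hB, inv_mem h.2⟩

theorem Jt.conj_x (h : S.Jt c A P) :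
    (ob P = 0 ∧ c * x = x * c) ∨ (ob P = 1 ∧ c * x * c⁻¹ = x⁻¹) := by
  obtain ⟨⟨hc, -, h2⟩, h3⟩ := h
  have h4 := (Subgroup.mem_normalizer_iff.1 h3 x).1 (Subgroup.mem_zpowers x)
  have h5 := (Ov.conj ⟨hc, rfl⟩ S.hx)
  have e2 : x * x = x⁻¹ := eq_inv_of_mul_eq_one_left (by rw [← pow_two, ← pow_succ, S.x3])
  have n1 : Z0 ≠ Z0⁻¹ := fun e => absurd (code_Z0.symm.trans (e ▸ code_Z0_inv)) (by decide +kernel)
  have n2 : (1 : GL12) ≠ Z0 := fun e =>
    absurd (C12.map_one.symm.trans (e ▸ code_Z0)) (by decide +kernel)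
  by_cases hm : μ ⟨c, hc⟩ ∈ Spor.M22
  · refine Or.inl ⟨(S.inner_iff h2).1 hm, ?_⟩
    rw [S.inner _ hm, mul_inv_cancel_right] at h5
    rcases mem_zpowers_three S.x3 h4 with e | e | e
    · exact absurd ((e ▸ h5).unique ov_one) n2.symm
    · exact mul_inv_eq_iff_eq_mul.1 e
    · exact absurd ((e ▸ h5).unique (e2 ▸ S.hx.inv)) n1
  · have h6 : ob P = 1 := by
      have := mt (S.inner_iff h2).2 hm
      revert this; unfold ob; cases Nat.beq (app24 P 23) 23 <;> simp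
    refine Or.inr ⟨h6, ?_⟩
    rw [S.outer _ hm] at h5
    rcases mem_zpowers_three S.x3 h4 with e | e | e
    · exact absurd (inv_eq_one.1 ((e ▸ h5).unique ov_one)) n2.symm
    · exact absurd ((e ▸ h5).unique S.hx) n1.symm
    · exact e.trans e2

theorem Jt.comm_x (h : S.Jt c A P) (e : ob P = 0) : c * x = x * c :=
  h.conj_x.elim (·.2) fun k => absurd (e.symm.trans k.1) (by decide)

theorem Jt.eq_or (h : S.Jt c A P) (k : S.Jt d A U) : c = d ∨ c = d * z := by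
  obtain ⟨B, k1, -, k2⟩ := k.1.exists_inv
  have h1 : S.Jt (d⁻¹ * c) c1 (comp24 (inv24 U) P) := k2 ▸ Jt.mul ⟨k1, inv_mem k.2⟩ h
  have h2 := h1.1.mem_Q
  have h3 : ob (comp24 (inv24 U) P) = 0 :=
    (S.inner_iff h1.1.2.2).1 (by rw [S.μ_Q h2]; exact one_mem _)
  rcases S.cent_Q S.hx h2 (h1.comm_x h3) with e | e
  exacts [Or.inl (inv_mul_eq_one.1 e).symm, Or.inr (inv_mul_eq_iff_eq_mul.1 e)]

theorem Jt.sq_cases (h : S.Jt c A P) (e : mm A A = c1) : c * c = 1 ∨ c * c = z := by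
  have h1 : S.Jt (c * c) c1 (comp24 P P) := e ▸ h.mul h
  have h2 := h1.1.mem_Q
  exact S.cent_Q S.hx h2 (h1.comm_x ((S.inner_iff h1.1.2.2).1 (by rw [S.μ_Q h2]; exact one_mem _)))

end

theorem jg_Q {q : G} (hq : q ∈ Q) : S.Jg q c1 one24 :=
  ⟨(S.ov_Q hq).mem, by rw [(S.ov_Q hq).2, C12.map_one], by rw [S.μ_Q hq]; exact Golay.R.one⟩

theorem norm_of_comm {c : G} (e : c * x = x * c) :
    c ∈ Subgroup.normalizer (Subgroup.zpowers x : Set G) :=
  Subgroup.centralizer_le_normalizer _ (by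
    rwa [centralizer_zpowers, Subgroup.mem_centralizer_singleton_iff])

theorem jt_one : S.Jt 1 c1 one24 := ⟨S.jg_Q (one_mem _), one_mem _⟩

theorem jt_z : S.Jt z c1 one24 := ⟨S.jg_Q S.lx.z_mem, S.norm_of_comm S.hx.comm.symm⟩

theorem jt_x : S.Jt x cX one24 :=
  ⟨⟨S.x_mem, by rw [S.ρ_x, code_Z0], S.μ_x ▸ Golay.R.one⟩, S.norm_of_comm rfl⟩

theorem exists_jg {y : G} (hy : y * z = z * y) : ∃ A P, S.Jg y A P :=
  let ⟨P, hP⟩ := exists_R (μ ⟨y, Subgroup.mem_centralizer_singleton_iff.2 hy⟩)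
  ⟨_, P, _, rfl, hP⟩

theorem jg_of_ov {c d : G} {A P : ℕ} {γ : GL12} (h : S.Jg c A P) (h1 : Ov ρ c γ) (h2 : Ov ρ d γ) :
    S.Jg d A P := by
  have h3 := S.inv_mul_mem h1 h2
  obtain ⟨hc, a1, a2⟩ := h
  refine ⟨h2.mem, by rw [h2.2, ← h1.2, a1], ?_⟩
  have : μ ⟨d, h2.mem⟩ = μ ⟨c, hc⟩ * μ ⟨_, (S.ov_Q h3).mem⟩ := by
    rw [← map_mul]; congr 1; exact Subtype.ext (mul_inv_cancel_left c d).symm
  rwa [this, S.μ_Q h3, mul_one]

theorem exists_jt {A P : ℕ} (h : Jp ρ μ A P) : ∃ c, S.Jt c A P := by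
  obtain ⟨a, a1, a2⟩ := h
  have h0 : S.Jg a A P := ⟨a.2, a1, a2⟩
  by_cases hm : μ a ∈ Spor.M22
  · obtain ⟨c, h1, h2⟩ := S.exists_cent S.hx S.x3 ⟨a, rfl⟩ (S.inner a hm)
    exact ⟨c, S.jg_of_ov h0 (ov_coe a) h1, S.norm_of_comm h2⟩
  · obtain ⟨c, h1, h2⟩ := S.exists_inverting S.hx S.x3 ⟨a, rfl⟩ (S.outer a hm)
    have : Finite (Subgroup.zpowers x : Set G) :=
      (finite_zpowers.2 (isOfFinOrder_iff_pow_eq_one.2 ⟨3, by norm_num, S.x3⟩)).to_subtype
    refine ⟨c, S.jg_of_ov h0 (ov_coe a) h1,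
      Subgroup.mem_normalizer_fintype (S := (Subgroup.zpowers x : Set G)) ?_⟩
    rintro _ ⟨n, rfl⟩
    simp only [← conj_zpow, h2]
    exact Subgroup.zpow_mem _ (inv_mem (Subgroup.mem_zpowers x)) n

theorem exists_jt' {A P : ℕ} (h : (isPerm24 P && jchk A P) = true) : ∃ c, S.Jt c A P :=
  S.exists_jt (S.jp_of_jchk (Bool.and_eq_true_iff.1 h).1 (Bool.and_eq_true_iff.1 h).2)

theorem sc_mem (v : ℕ) : S.sc v ∈ Q := S.lf_mem S.hx _

theorem κ_sc (v : ℕ) : κ (S.sc v) = vdec 12 v := S.κ_lf S.hx _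

theorem sc_zero : S.sc 0 = 1 := by rw [sc, vdec_zero, S.lf_zero S.hx]

theorem sc_z (v : ℕ) : S.sc v * z = z * S.sc v := S.lx.z_comm _ (S.sc_mem v)

theorem sc_zpow (v n : ℕ) : S.sc v * z ^ n = z ^ n * S.sc v :=
  ((show Commute (S.sc v) z from S.sc_z v).pow_right n).eq

theorem z_pow_sq (n : ℕ) : z ^ n * z ^ n = 1 := by rw [← pow_xor S.zz, Nat.xor_self, pow_zero]

theorem z_pow_inv (n : ℕ) : (z ^ n)⁻¹ = z ^ n := inv_eq_of_mul_eq_one_left (S.z_pow_sq n)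

theorem z_pow_cases (n : ℕ) : z ^ n = 1 ∨ z ^ n = z := by
  rw [pow_eq_pow_mod n (show z ^ 2 = 1 by rw [pow_two, S.zz])]
  rcases Nat.mod_two_eq_zero_or_one n with e | e <;> simp [e]

theorem sc_mul {u w : ℕ} (hu : u < 4096) (hw : w < 4096) :
    S.sc u * S.sc w = S.sc (u ^^^ w) * z ^ bC w (ac cXX u) := by
  rw [sc, sc, sc, S.lf_mul S.hx, vdec_xor, zp, ← bC_code, ← ac_code, code_Z0_inv, vv hu,
    vv hw]

theorem sc_sq {u : ℕ} (hu : u < 4096) : S.sc u * S.sc u = z ^ qC u := by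
  rw [S.sq _ (S.sc_mem u), S.κ_sc, zp, ← qC_code, vv hu]

theorem sc_inv {u : ℕ} (hu : u < 4096) : (S.sc u)⁻¹ = S.sc u * z ^ qC u := by
  rw [inv_eq_iff_mul_eq_one, ← mul_assoc, S.sc_sq hu, S.z_pow_sq]

theorem sc_comm {u w : ℕ} (hu : u < 4096) (hw : w < 4096) :
    S.sc u * S.sc w = S.sc w * S.sc u * z ^ bC u w := by
  rw [S.comm (S.sc_mem u) (S.sc_mem w), S.κ_sc, S.κ_sc, zp, ← bC_code, vv hu, vv hw]

theorem exists_sc {q : G} (hq : q ∈ Q) : ∃ u < 4096, q = S.sc u ∨ q = S.sc u * z :=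
  ⟨_, vcode_lt (κ q), (S.κ_eq_iff hq (S.sc_mem _)).1 (by rw [S.κ_sc, vdec_vcode])⟩

theorem sc_inj {u w a b : ℕ} (hu : u < 4096) (hw : w < 4096)
    (e : S.sc u * z ^ a = S.sc w * z ^ b) : u = w ∧ a % 2 = b % 2 := by
  have h : ∀ u a, κ (S.sc u * z ^ a) = vdec 12 u := fun u a => by
    rcases S.z_pow_cases a with e | e <;> rw [e]
    exacts [by rw [mul_one, S.κ_sc], by rw [S.κ_mul_z (S.sc_mem u), S.κ_sc]]
  have h1 : u = w := by rw [← vv hu, ← vv hw, ← h u a, e, h]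
  refine ⟨h1, ?_⟩
  rw [h1, mul_right_inj] at e
  have h2 : z ^ 2 = 1 := by rw [pow_two, S.zz]
  rw [pow_eq_pow_mod a h2, pow_eq_pow_mod b h2] at e
  rcases Nat.mod_two_eq_zero_or_one a with e1 | e1 <;>
    rcases Nat.mod_two_eq_zero_or_one b with e2 | e2 <;> rw [e1, e2] at e ⊢
  exacts [absurd (by simpa using e.symm) S.lx.z_ne, absurd (by simpa using e) S.lx.z_ne]

omit S in
section
variable {S : HS z Q κ ρ μ x} {c d y y' : G} {A B P U u v : ℕ}

theorem Jt.conj_sc (h : S.Jt c A P) (hv : v < 4096) :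
    c * S.sc v * c⁻¹ = S.sc (ac A v) * z ^ (ob P * qC v) := by
  obtain ⟨γ, h1, rfl⟩ := h.1.ov
  have e : vdec 12 (ac (gcode γ) v) = γ • vdec 12 v := by
    conv_lhs => rw [← vv hv, ac_code, vdec_vcode]
  rcases h.conj_x with ⟨h2, h3⟩ | ⟨h2, h3⟩ <;> rw [h2, sc, sc, e]
  · rw [S.conj_lf S.hx h1 h3, zero_mul, pow_zero, mul_one]
  · rw [S.conj_lf_inv S.hx h1 h3, one_mul, zp, ← qC_code, vv hv]

theorem Jt.mul_sc (h : S.Jt c A P) (hv : v < 4096) :
    c * S.sc v = S.sc (ac A v) * z ^ (ob P * qC v) * c := by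
  rw [← h.conj_sc hv, inv_mul_cancel_right]

theorem Jt.mul_zpow (h : S.Jt c A P) (n : ℕ) : S.Jt (c * z ^ n) A P := by
  rcases S.z_pow_cases n with e | e <;> rw [e]
  · rwa [mul_one]
  · obtain ⟨γ, h1, -⟩ := h.1.ov
    exact ⟨S.jg_of_ov h.1 h1 (S.ov_mul_right S.lx.z_mem h1), mul_mem h.2 S.jt_z.2⟩

theorem Jt.mul_z (h : S.Jt c A P) : S.Jt (c * z) A P := by simpa using h.mul_zpow 1

theorem Jg.zpow (h : S.Jg c A P) (n : ℕ) : c * z ^ n = z ^ n * c :=
  ((show Commute c z from h.comm).pow_right n).eq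

theorem Jg.conj_Q (h : S.Jg c A P) {q : G} (hq : q ∈ Q) :
    c * q * c⁻¹ ∈ Q ∧ vcode (κ (c * q * c⁻¹)) = ac A (vcode (κ q)) := by
  obtain ⟨γ, h1, rfl⟩ := h.ov
  exact ⟨S.conj_mem h1 hq, by rw [S.κ_ov h1 hq, ac_code]⟩

theorem Jt.el (h : S.Jt c A P) : S.El c 0 A P := ⟨by norm_num, c, h, by rw [S.sc_zero, one_mul]⟩

theorem El.jg (h : S.El y u A P) : S.Jg y A P := by
  obtain ⟨-, c, h1, rfl⟩ := h
  obtain ⟨γ, h2, -⟩ := h1.1.ov
  exact S.jg_of_ov h1.1 h2 (S.ov_mul_left (S.sc_mem u) h2)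

theorem El.mul_zpow (h : S.El y u A P) (n : ℕ) : S.El (y * z ^ n) u A P := by
  obtain ⟨hu, c, h1, rfl⟩ := h
  exact ⟨hu, _, h1.mul_zpow n, mul_assoc _ _ _⟩

theorem El.mul_z (h : S.El y u A P) : S.El (y * z) u A P := by simpa using h.mul_zpow 1

theorem El.mul (h : S.El y u A P) (k : S.El y' v B U) :
    S.El (y * y') (u ^^^ ac A v) (mm A B) (comp24 P U) := by
  obtain ⟨hu, c, h1, rfl⟩ := h
  obtain ⟨hv, d, k1, rfl⟩ := k
  refine ⟨Nat.xor_lt_two_pow (n := 12) hu (ac_lt _ _), _,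
    ((h1.mul k1).mul_zpow (bC (ac A v) (ac cXX u))).mul_zpow (ob P * qC v), ?_⟩
  rw [mul_assoc, ← mul_assoc c, h1.mul_sc hv, mul_assoc (S.sc _), mul_assoc (S.sc _), ← mul_assoc (S.sc u),
    S.sc_mul hu (ac_lt _ _), mul_assoc (S.sc _), mul_assoc _ c, ← (h1.mul k1).1.zpow, ← mul_assoc (z ^ _),
    ← (h1.mul k1).1.zpow]

theorem El.eq_or (h : S.El y u A P) (k : S.El y' u A U) : y = y' ∨ y = y' * z := by
  obtain ⟨-, c, h1, rfl⟩ := h
  obtain ⟨-, d, k1, rfl⟩ := k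
  rcases h1.eq_or k1 with e | e <;> rw [e]
  exacts [Or.inl rfl, Or.inr (mul_assoc _ _ _).symm]

theorem El.unique (h : S.El y u A P) (k : S.El y v B U) : u = v ∧ A = B := by
  obtain rfl := h.jg.unique k.jg
  obtain ⟨hu, c, h1, e1⟩ := h
  obtain ⟨hv, d, k1, e2⟩ := k
  refine ⟨?_, rfl⟩
  rw [e1] at e2
  rcases h1.eq_or k1 with e | e
  · exact (S.sc_inj (a := 0) (b := 0) hu hv (by rw [e] at e2; rw [mul_right_cancel e2])).1
  · rw [e, k1.1.comm, ← mul_assoc] at e2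
    exact (S.sc_inj (a := 1) (b := 0) hu hv (by rw [pow_one, mul_right_cancel e2, pow_zero, mul_one])).1

theorem Jg.exists_el (h : S.Jg y A P) : ∃ u, S.El y u A P := by
  obtain ⟨c, hc⟩ := S.exists_jt h.jp
  obtain ⟨γ, h1, h2⟩ := h.ov
  obtain ⟨δ, h3, h4⟩ := hc.1.ov
  obtain rfl : γ = δ := C12.inj (h2.trans h4.symm)
  obtain ⟨u, hu, e | e⟩ := S.exists_sc (S.mul_inv_mem h1 h3) <;> rw [mul_inv_eq_iff_eq_mul] at e
  · exact ⟨u, hu, c, hc, e⟩
  · exact ⟨u, hu, _, hc.mul_z, by rw [e, hc.1.comm, mul_assoc]⟩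

/-- square of an element over an involution -/
theorem Jt.sq (h : S.Jt c A P) (hu : u < 4096) :
    S.sc u * c * (S.sc u * c) =
      S.sc (u ^^^ ac A u) * z ^ (bC (ac A u) (ac cXX u) ^^^ ob P * qC u) * (c * c) := by
  rw [mul_assoc, ← mul_assoc c, h.mul_sc hu, pow_xor S.zz, ← mul_assoc (S.sc (u ^^^ _)),
    ← S.sc_mul hu (ac_lt _ _)]
  simp only [mul_assoc]

end

theorem el_sc {u : ℕ} (hu : u < 4096) : S.El (S.sc u) u c1 one24 := ⟨hu, 1, S.jt_one, (mul_one _).symm⟩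

theorem el_one : S.El 1 0 c1 one24 := S.jt_one.el

end HS

end CL.J4
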