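import Cfsg.Agent.SPOR.F24.Frame

/-!
Identification of the 12-dimensional module over `F_2` of the triple cover of `Aut M22`.
-/

set_option autoImplicit false
set_option maxRecDepth 100000

namespace CL.J4

open Finset CL.K CL.CG CL.F2M CL.F24 Matrix

attribute [local irreducible] gcode vcode

/-- relations satisfied by the generators -/
structure Hyp (x c d e f : GL12) : Prop where
  hx : ∀ v : W, v + x • v + x • x • v = 0
  xc : x * c = c * x
  xd : x * d = d * x
  xe : x * e = e * x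
  fx : f * x = x * x * f
  c11 : c ^ 11 = 1
  cne : c ≠ 1
  d5 : d ^ 5 = 1
  dc : d * c = c ^ 3 * d
  ed : e * d = d * d * e
  e4 : e ^ 4 = 1
  fc : f * c = c ^ 10 * f
  fd : f * d = d * f
  r1 : (e * c) ^ 7 ∈ Subgroup.zpowers x
  r2 : (c * d ^ 4 * (e * e)) ^ 3 ∈ Subgroup.zpowers x
  r3 : (e * d * (f * d ^ 4)) ^ 4 ∈ Subgroup.zpowers x

variable {x c d e f : GL12}

theorem zp_map (θ : GL12 ≃* GL12) {y : GL12} (h : y ∈ Subgroup.zpowers x) :
    θ y ∈ Subgroup.zpowers (θ x) := by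
  obtain ⟨k, rfl⟩ := h
  exact ⟨k, by simp⟩

theorem Hyp.conj (h : Hyp x c d e f) (g : GL12) :
    Hyp (g * x * g⁻¹) (g * c * g⁻¹) (g * d * g⁻¹) (g * e * g⁻¹) (g * f * g⁻¹) := by
  let θ : GL12 ≃* GL12 := MulAut.conj g
  change Hyp (θ x) (θ c) (θ d) (θ e) (θ f)
  refine ⟨fun v => ?_, ?_, ?_, ?_, ?_, ?_, ?_, ?_, ?_, ?_, ?_, ?_, ?_, ?_, ?_, ?_⟩
  · have := congrArg (g • ·) (h.hx (g⁻¹ • v))
    simp only [smul_add, smul_inv_smul, smul_zero] at this
    simpa only [θ, MulAut.conj_apply, mul_smul, inv_smul_smul] using this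
  · rw [← map_mul, h.xc, map_mul]
  · rw [← map_mul, h.xd, map_mul]
  · rw [← map_mul, h.xe, map_mul]
  · rw [← map_mul, h.fx, map_mul, map_mul]
  · rw [← map_pow, h.c11, map_one]
  · exact fun e => h.cne (θ.injective (e.trans (map_one θ).symm))
  · rw [← map_pow, h.d5, map_one]
  · rw [← map_mul, h.dc, map_mul, map_pow]
  · rw [← map_mul, h.ed, map_mul, map_mul]
  · rw [← map_pow, h.e4, map_one]
  · rw [← map_mul, h.fc, map_mul, map_pow]
  · rw [← map_mul, h.fd, map_mul]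
  · simpa only [map_mul, map_pow] using zp_map θ h.r1
  · simpa only [map_mul, map_pow] using zp_map θ h.r2
  · simpa only [map_mul, map_pow] using zp_map θ h.r3

theorem Hyp.xx (h : Hyp x c d e f) (v : W) : x • x • v = v + x • v := by
  have := h.hx v
  rw [add_eq_zero_iff_eq_neg, neg_eq_of_add_eq_zero_left (W_add_self _)] at this
  exact this.symm

theorem Hyp.x3 (h : Hyp x c d e f) : x ^ 3 = 1 := gl_ext fun v => by
  rw [pow_succ, pow_two, mul_smul, mul_smul, h.xx, h.xx, one_smul, add_comm v, ← add_assoc,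
    W_add_self, zero_add]

theorem Hyp.sq (h : Hyp x c d e f) : Hyp (x * x) c d e f := by
  have h3 : x * x * (x * x) = x := by
    have := h.x3
    calc x * x * (x * x) = x ^ 3 * x := by rw [pow_succ, pow_two, ← mul_assoc]
      _ = x := by rw [this, one_mul]
  have hle : Subgroup.zpowers x ≤ Subgroup.zpowers (x * x) :=
    Subgroup.zpowers_le_of_mem ⟨(2 : ℕ), by simp only [zpow_natCast]; rw [pow_two, h3]⟩
  refine ⟨fun v => ?_, ?_, ?_, ?_, ?_, h.c11, h.cne, h.d5, h.dc, h.ed, h.e4, h.fc, h.fd, hle h.r1,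
    hle h.r2, hle h.r3⟩
  · rw [← mul_smul (x * x), h3, mul_smul, add_right_comm]; exact h.hx v
  · rw [mul_assoc, h.xc, ← mul_assoc, h.xc, mul_assoc]
  · rw [mul_assoc, h.xd, ← mul_assoc, h.xd, mul_assoc]
  · rw [mul_assoc, h.xe, ← mul_assoc, h.xe, mul_assoc]
  · rw [← mul_assoc, h.fx, mul_assoc (x * x), h.fx, ← mul_assoc]

/-- fixed vectors -/
def Fx (g : GL12) : AddSubgroup W where
  carrier := {v | g • v = v}
  add_mem' := fun {a b} ha hb => by
    change g • (a + b) = _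
    rw [smul_add, show g • a = a from ha, show g • b = b from hb]
  zero_mem' := smul_zero g
  neg_mem' := fun {a} ha => by
    change g • (-a) = _
    rw [smul_neg, show g • a = a from ha]

theorem card_modEq {A : AddSubgroup W} {g : GL12} {p : ℕ} [Fact p.Prime] (hg : g ^ p = 1)
    (hA : ∀ v ∈ A, g • v ∈ A) : Nat.card A ≡ Nat.card (A ⊓ Fx g : AddSubgroup W) [MOD p] := by
  classical
  let φ : Function.End A := fun a => ⟨g • a.1, hA _ a.2⟩
  have hφ : ∀ n (a : A), ((φ ^ n) a).1 = g ^ n • a.1 := by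
    intro n
    induction n with
    | zero => intro a; rw [pow_zero, pow_zero, one_smul]; rfl
    | succ n ih => intro a; rw [pow_succ, pow_succ, mul_smul]; exact ih (φ a)
  have := Fintype.ofFinite A
  have h1 := Equiv.Perm.card_fixedPoints_modEq (f := φ) (p := p) (n := 1)
    (funext fun a => Subtype.ext (by rw [hφ, pow_one, hg, one_smul]; rfl))
  rw [← Nat.card_eq_fintype_card, ← Nat.card_eq_fintype_card] at h1
  refine h1.trans ?_
  rw [Nat.card_congr (β := (A ⊓ Fx g : AddSubgroup W))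
    ⟨fun a => ⟨a.1.1, a.1.2, congrArg Subtype.val a.2⟩, fun a => ⟨⟨a.1, a.2.1⟩, Subtype.ext a.2.2⟩,
      fun _ => rfl, fun _ => rfl⟩]

theorem card_W : Nat.card W = 2 ^ 12 := by simp [W]

/-- sum of the powers of an element of order 11 -/
noncomputable def Nm (c : GL12) : W →+ W :=
  ∑ i ∈ range 11, DistribSMul.toAddMonoidHom W (c ^ i)

theorem Nm_apply (c : GL12) (v : W) : Nm c v = ∑ i ∈ range 11, c ^ i • v := by
  simp [Nm, AddMonoidHom.finsetSum_apply]

theorem Nm_smul (h : c ^ 11 = 1) (v : W) : Nm c (c • v) = Nm c v := by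
  rw [Nm_apply, Nm_apply, sum_range_succ, sum_range_succ' _ 10]
  simp only [← mul_smul, ← pow_succ, h, pow_zero]

theorem Nm_fix {v : W} (h : c • v = v) : Nm c v = v := by
  have : ∀ i : ℕ, c ^ i • v = v := fun i => by
    induction i with
    | zero => simp
    | succ i ih => rw [pow_succ, mul_smul, h, ih]
  rw [Nm_apply]
  simp only [this, sum_range_succ, sum_range_zero, zero_add, W_add_self]

theorem card_ker (h : c ^ 11 = 1) {A : AddSubgroup W} (hA : ∀ v ∈ A, c • v ∈ A)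
    (hle : A ≤ (Nm c).ker) : Nat.card A = 1 ∨ Nat.card A = 1024 := by
  have : Fact (Nat.Prime 11) := ⟨by norm_num⟩
  have h1 := card_modEq h hA
  have h2 : A ⊓ Fx c = ⊥ := eq_bot_iff.2 fun v hv => by
    have := hle hv.1
    rwa [AddMonoidHom.mem_ker, Nm_fix hv.2] at this
  rw [h2, AddSubgroup.card_bot] at h1
  have h3 := AddSubgroup.card_addSubgroup_dvd_card A
  rw [card_W, Nat.dvd_prime_pow Nat.prime_two] at h3
  obtain ⟨j, hj, e⟩ := h3
  rw [e] at h1 ⊢
  interval_cases j <;> simp_all [Nat.ModEq]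

theorem ker_inv (h : c ^ 11 = 1) : ∀ v ∈ (Nm c).ker, c • v ∈ (Nm c).ker := fun v hv => by
  rwa [AddMonoidHom.mem_ker, Nm_smul h]

theorem Hyp.exists_uv (h : Hyp x c d e f) :
    ∃ u v : W, u ≠ 0 ∧ c • u = u ∧ v ≠ 0 ∧ d • v = v ∧ Nm c v = 0 := by
  have : Fact (Nat.Prime 11) := ⟨by norm_num⟩
  have : Fact (Nat.Prime 5) := ⟨by norm_num⟩
  have h1 := card_modEq (A := ⊤) h.c11 fun _ _ => trivial
  rw [AddSubgroup.card_top, card_W] at h1
  have h2 : (⊤ ⊓ Fx c : AddSubgroup W) ≠ ⊥ := fun e => by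
    rw [e, AddSubgroup.card_bot] at h1; exact absurd h1 (by decide)
  obtain ⟨⟨u, hu⟩, hu0⟩ := AddSubgroup.ne_bot_iff_exists_ne_zero.1 h2
  have h3 : Nat.card (Nm c).ker = 1024 := by
    refine (card_ker h.c11 (ker_inv h.c11) le_rfl).resolve_left fun e => h.cne (gl_ext fun v => ?_)
    have : v + c • v ∈ (Nm c).ker := by
      rw [AddMonoidHom.mem_ker, map_add, Nm_smul h.c11, W_add_self]
    rw [AddSubgroup.card_eq_one.1 e, AddSubgroup.mem_bot, add_eq_zero_iff_eq_neg,
      neg_eq_of_add_eq_zero_left (W_add_self _)] at this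
    rw [← this, one_smul]
  have hd : ∀ v ∈ (Nm c).ker, d • v ∈ (Nm c).ker := fun v hv => by
    have e1 : ∀ i : ℕ, d • c ^ i • v = c ^ (3 * i % 11) • d • v := fun i => by
      rw [← pow_eq_pow_mod _ h.c11]
      induction i with
      | zero => simp
      | succ i ih =>
        rw [pow_succ', mul_smul, ← mul_smul d, h.dc, mul_smul, ih, ← mul_smul, ← pow_add]
        congr 2; ring
    have e2 := congrArg (d • ·) (AddMonoidHom.mem_ker.1 hv)
    simp only [Nm_apply, smul_sum, e1, smul_zero] at e2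
    rw [AddMonoidHom.mem_ker, Nm_apply, ← e2]
    simp only [sum_range_succ, sum_range_zero]
    norm_num
    abel
  have h4 := card_modEq h.d5 hd
  rw [h3] at h4
  have h5 : ((Nm c).ker ⊓ Fx d : AddSubgroup W) ≠ ⊥ := fun e => by
    rw [e, AddSubgroup.card_bot] at h4; exact absurd h4 (by decide)
  obtain ⟨⟨v, hv⟩, hv0⟩ := AddSubgroup.ne_bot_iff_exists_ne_zero.1 h5
  exact ⟨u, v, fun e => hu0 (Subtype.ext e), hu.2, fun e => hv0 (Subtype.ext e), hv.2, hv.1⟩

/-- basis vector -/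
abbrev eb (j : Fin 12) : W := Pi.single j 1

theorem vcode_eb (j : Fin 12) : vcode (eb j) = 2 ^ (j : ℕ) := by
  rw [eb, ← vdec_two_pow, vcode_vdec (Nat.pow_lt_pow_right one_lt_two j.2)]

theorem smul_eq_of_code {g : GL12} {u v : W} (h : ac (gcode g) (vcode u) = vcode v) : g • u = v :=
  vcode_injective (by rw [← ac_code, h])

theorem mat_ext {A B : Matrix (Fin 12) (Fin 12) (ZMod 2)} (h : ∀ j, A *ᵥ eb j = B *ᵥ eb j) :
    A = B := by
  ext i j
  have := congrFun (h j) i
  rwa [mulVec_single_one, mulVec_single_one] at this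

/-- an invertible matrix with a given code -/
theorem exists_unit {a b : ℕ} (h : F2M.unitB 12 CM 4095 a b = true) : ∃ g : GL12, gcode g = a :=
  let ⟨g, _, e⟩ := ok12.mem_of_unitB h; ⟨g, e⟩

theorem code_mul {g k : GL12} {a b : ℕ} (hg : gcode g = a) (hk : gcode k = b) :
    gcode (g * k) = mm a b := by rw [← C12.map_mul, hg, hk]

theorem code_pow {g : GL12} {a : ℕ} (hg : gcode g = a) (n : ℕ) : gcode (g ^ n) = powC mm c1 a n := by
  rw [← C12.powC_eq, hg]

theorem exists_conj {a b : ℕ} (h : F2M.unitB 12 CM 4095 b a = true) :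
    ∃ g : GL12, (∀ v : W, vcode (g • v) = ac a (vcode v)) ∧
      ∀ y : GL12, gcode (g * y * g⁻¹) = mm (mm a (gcode y)) b := by
  have h' := h
  obtain ⟨k, hk⟩ := exists_unit h
  simp only [F2M.unitB, Bool.and_eq_true] at h'
  have ha : a < 2 ^ (12 * 12) := lt_of_blt h'.1.2
  have e : mcode (k.1 * mdec 12 a) = mcode (1 : Matrix (Fin 12) (Fin 12) (ZMod 2)) := by
    rw [← ok12.mulC_code, mcode_mdec ha, mcode_one, ← eq_of_beq h'.2, ← hk]; unfold gcode; rfl
  have e2 : gcode k⁻¹ = a := by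
    have := mcode_injective e
    unfold gcode
    rw [← mcode_mdec ha]
    congr 1
    calc (k⁻¹).1 = (k⁻¹).1 * (k.1 * mdec 12 a) := by rw [this, mul_one]
      _ = _ := by rw [← mul_assoc, Units.inv_mul, one_mul]
  exact ⟨k⁻¹, fun v => by rw [← ac_code, e2], fun y => by
    rw [inv_inv, code_mul (code_mul e2 rfl) hk]⟩

def k1c : ℕ := 0xffc800400200100080040020010008002001
def k1ci : ℕ := 0x400200100080040020010008004ffc002001
def k1x : ℕ := 0xdc491cb705b82dce907483a4e2c8e8003002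
def k1xx : ℕ := 0x5c4d1c9704b825ced07683b4e248ec001003
def k1xp : ℕ := 0x5c4d1c9704b825ced07683b4e248ec003002
def k1d : ℕ := 0x80010ffc200040008800100020004002001
def k1e : ℕ := 0xb0a6dfe8323b3be17249af2fd5e0018e8004
def k1f : ℕ := 0x10020040080100200400800ffc004003001

theorem step1 (h : Hyp x c d e f) : ∃ g : GL12, gcode (g * c * g⁻¹) = k1c ∧
    ac (gcode (g * x * g⁻¹)) 1 = 2 ∧ ac (gcode (g * d * g⁻¹)) 4 = 4 := by
  obtain ⟨u, v, hu0, hu, hv0, hv, hN⟩ := h.exists_uv
  obtain ⟨K, hK⟩ := exists_unit (a := k1c) (b := k1ci) (by decide +kernel)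
  let col : Fin 12 → W := ![u, x • u, v, c • v, c ^ 2 • v, c ^ 3 • v, c ^ 4 • v, c ^ 5 • v, c ^ 6 • v,
    c ^ 7 • v, c ^ 8 • v, c ^ 9 • v]
  let B : Matrix (Fin 12) (Fin 12) (ZMod 2) := Matrix.of fun i j => col j i
  have hB : ∀ j, B *ᵥ eb j = col j := fun j => by rw [mulVec_single_one]; rfl
  have hK1 : ∀ j j' : Fin 12, ac k1c (2 ^ (j : ℕ)) = 2 ^ (j' : ℕ) → K • eb j = eb j' := fun j j' e =>
    smul_eq_of_code (by rw [hK, vcode_eb, vcode_eb, e])
  have hK2 : K • eb 11 = eb 2 + eb 3 + eb 4 + eb 5 + eb 6 + eb 7 + eb 8 + eb 9 + eb 10 + eb 11 :=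
    smul_eq_of_code (by simp only [hK, vcode_add, vcode_eb]; decide +kernel)
  have hi : c.1 * B = B * K.1 := mat_ext fun j => by
    rw [← mulVec_mulVec, ← mulVec_mulVec, hB, ← gl_smul, ← gl_smul]
    have hs : ∀ n : ℕ, c • c ^ n • v = c ^ (n + 1) • v := fun n => by rw [pow_succ', mul_smul]
    fin_cases j
    · rw [hK1 _ 0 (by decide +kernel), hB]; exact hu
    · rw [hK1 _ 1 (by decide +kernel), hB]
      change c • x • u = x • u
      rw [← mul_smul, ← h.xc, mul_smul, hu]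
    · rw [hK1 _ 3 (by decide +kernel), hB]; rfl
    · rw [hK1 _ 4 (by decide +kernel), hB]; exact (mul_smul _ _ _).symm.trans (by rw [← pow_two]; rfl)
    · rw [hK1 _ 5 (by decide +kernel), hB]; exact hs 2
    · rw [hK1 _ 6 (by decide +kernel), hB]; exact hs 3
    · rw [hK1 _ 7 (by decide +kernel), hB]; exact hs 4
    · rw [hK1 _ 8 (by decide +kernel), hB]; exact hs 5
    · rw [hK1 _ 9 (by decide +kernel), hB]; exact hs 6
    · rw [hK1 _ 10 (by decide +kernel), hB]; exact hs 7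
    · rw [hK1 _ 11 (by decide +kernel), hB]; exact hs 8
    · change c • c ^ 9 • v = B *ᵥ (K • eb 11)
      rw [hK2, hs]
      simp only [mulVec_add, hB]
      rw [Nm_apply, sum_range_succ, add_eq_zero_iff_eq_neg,
        neg_eq_of_add_eq_zero_left (W_add_self _)] at hN
      rw [← hN]
      simp only [sum_range_succ, sum_range_zero, zero_add, pow_zero, one_smul, pow_one]
      rfl
  have hi' : ∀ w, B *ᵥ (K • w) = c • (B *ᵥ w) := fun w => by
    rw [gl_smul, gl_smul, mulVec_mulVec, mulVec_mulVec, hi]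
  have K11 : K ^ 11 = 1 := C12.inj (by rw [code_pow hK, C12.map_one]; decide +kernel)
  let A : AddSubgroup W := (B.mulVecLin.toAddMonoidHom).ker
  have hA : ∀ w, w ∈ A ↔ B *ᵥ w = 0 := fun w => Iff.rfl
  have hAK : ∀ w ∈ A, K • w ∈ A := fun w hw => by rw [hA, hi', (hA w).1 hw, smul_zero]
  have h1 : A ⊓ (Nm K).ker = ⊥ := by
    rcases card_ker K11 (A := A ⊓ (Nm K).ker) (fun w hw => ⟨hAK w hw.1, ker_inv K11 w hw.2⟩)
      inf_le_right with e | e
    · exact AddSubgroup.card_eq_one.1 e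
    · exfalso
      have e2 : A ⊓ (Nm K).ker = (Nm K).ker := AddSubgroup.eq_of_le_of_card_ge inf_le_right (by
        rcases card_ker K11 (ker_inv K11) le_rfl with e' | e' <;> omega)
      have e3 : eb 2 ∈ (Nm K).ker := by
        refine vcode_injective ?_
        simp only [Nm_apply, sum_range_succ, sum_range_zero, vcode_add, vcode_zero, ← ac_code,
          code_pow hK, vcode_eb]
        decide +kernel
      rw [← e2] at e3
      exact hv0 ((hB 2).symm.trans e3.1)
  have hxu : x • u ≠ u := fun e => hu0 (by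
    have := h.hx u
    rwa [e, e, W_add_self, zero_add] at this)
  have hinj : Function.Injective B.mulVec := by
    refine (injective_iff_map_eq_zero B.mulVecLin).2 fun w hw => ?_
    have h2 : w + K • w ∈ A ⊓ (Nm K).ker := ⟨add_mem hw (hAK w hw), by
      change Nm K _ = 0
      rw [map_add, Nm_smul K11, W_add_self]⟩
    rw [h1, AddSubgroup.mem_bot, add_eq_zero_iff_eq_neg,
      neg_eq_of_add_eq_zero_left (W_add_self _)] at h2
    have h3 : allN (fun w => !Nat.beq (ac k1c w) w || blt w 4) 4096 = true := by decide +kernel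
    have h4 := allN_spec h3 _ (vcode_lt w)
    rw [← hK, ac_code, ← h2, Nat.beq_refl] at h4
    have h5 : vcode w < 4 := lt_of_blt h4
    have hw' : B *ᵥ w = 0 := hw
    have h6 : vcode w = vcode (0 : W) ∨ vcode w = vcode (eb 0) ∨ vcode w = vcode (eb 1) ∨
        vcode w = vcode (eb 0 + eb 1) := by
      simp only [vcode_add, vcode_eb, vcode_zero]
      change _ ∨ _ = 1 ∨ _ = 2 ∨ _ = 3
      omega
    rcases h6 with e | e | e | e <;> rw [vcode_injective e] at hw' ⊢
    · exact absurd ((hB 0).symm.trans hw') hu0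
    · exact absurd ((smul_eq_zero_iff_eq x).1 ((hB 1).symm.trans hw')) hu0
    · rw [mulVec_add, hB, hB, add_eq_zero_iff_eq_neg, neg_eq_of_add_eq_zero_left (W_add_self _)] at hw'
      exact absurd hw'.symm hxu
  obtain ⟨b, hb⟩ := mulVec_injective_iff_isUnit.1 hinj
  have hb' : ∀ j, (b : GL12) • eb j = col j := fun j => by rw [gl_smul, hb, hB]
  have hc : (b : GL12)⁻¹ * c * b⁻¹⁻¹ = K := by
    rw [inv_inv, mul_assoc, inv_mul_eq_iff_eq_mul]
    exact Units.ext (by simp only [Units.val_mul, hb, hi])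
  refine ⟨b⁻¹, hc ▸ hK, ?_, ?_⟩
  · have := ac_code ((b : GL12)⁻¹ * x * b⁻¹⁻¹) (eb 0)
    rw [inv_inv, mul_smul, mul_smul, hb', show x • col 0 = col 1 from rfl, ← hb', inv_smul_smul,
      vcode_eb, vcode_eb] at this
    rw [inv_inv]; exact this
  · have := ac_code ((b : GL12)⁻¹ * d * b⁻¹⁻¹) (eb 2)
    rw [inv_inv, mul_smul, mul_smul, hb', show d • col 2 = col 2 from hv, ← hb', inv_smul_smul,
      vcode_eb] at this
    rw [inv_inv]; exact this

/-- an intertwiner is determined by the images of generating vectors -/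
theorem det0 {L L' : List GL12} {e : GL12} (hlen : L.length = L'.length)
    (he : ∀ i < L.length, e * L.getD i 1 = L'.getD i 1 * e) {C C' : List ℕ} (hC : L.map gcode = C)
    (hC' : L'.map gcode = C') {Wd : ℕ → List ℕ} {sds : List ℕ} (hs : sds.length = 12)
    (h : allLt (fun j => lall (fun i => blt i (llen C)) (Wd j) && blt (lget sds j) 4096 &&
      Nat.beq (wact ac C (Wd j) (lget sds j)) (2 ^ j)) 12 = true) :
    gcode e = cols 12 fun j => wact ac C' (Wd j) (lget (sds.map (ac (gcode e))) j) := by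
  subst hC hC'
  have hs' : ∀ j < 12, lget (sds.map (ac (gcode e))) j = ac (gcode e) (lget sds j) := fun j hj => by
    rw [lget_eq (by simpa [hs] using hj), lget_eq (hs ▸ hj), List.getElem_map]
  generalize lget sds = sd at h hs'
  have hm : ∀ M : List GL12, ∀ c ∈ M.map gcode, Mem (gcode : GL12 → ℕ) ⊤ c := fun M c hc => by
    obtain ⟨g, -, rfl⟩ := List.mem_map.1 hc
    exact mem_top g
  have hg : ∀ (M : List GL12) i, i < M.length → elt gcode (lget (M.map gcode) i) = M.getD i 1 :=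
    fun M i hi => by
      rw [lget_eq (by simpa using hi), List.getElem_map, C12.elt_code, List.getD_eq_getElem _ _ hi]
  refine Eq.trans (by unfold gcode; rfl) (mcode_eq_cols (A := e.1) fun j => ?_)
  rw [hs' j j.2]
  have h1 := allLt_iff.1 h j j.2
  simp only [Bool.and_eq_true, lall_iff, llen_eq] at h1
  have h2 := A12.wact_intertwine (hm L) (hm L') (by simp [hlen]) (e := e) (fun i hi => by
    rw [List.length_map] at hi
    rw [hg _ _ hi, hg _ _ (hlen ▸ hi), he i hi]) (I := Wd j) (fun i hi => lt_of_blt (h1.1.1 i hi))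
    (lt_of_blt h1.1.2 : sd j < 2 ^ 12)
  rw [eq_of_beq h1.2] at h2
  change vcode (e • vdec 12 (2 ^ (j : ℕ))) = wact ac _ _ (vcode (e • vdec 12 (sd j))) at h2
  rw [vdec_two_pow, ← ac_code e (vdec 12 (sd j)), vcode_vdec (lt_of_blt h1.1.2 : sd j < 2 ^ 12)] at h2
  exact h2

theorem ac_lt (a v : ℕ) : ac a v < 4096 := by rw [ac_def]; exact ok12.act_lt a v

theorem wact_nil (L : List ℕ) (v : ℕ) : wact ac L [] v = v := (rfl : wact ac L [] v = v).trans rfl

theorem wact_cons (L : List ℕ) (i : ℕ) (I : List ℕ) (v : ℕ) :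
    wact ac L (i :: I) v = wact ac L I (ac (lget L i) v) := force_eq _ _

theorem ac_mul (g k : GL12) {v : ℕ} (hv : v < 4096) :
    ac (gcode (g * k)) v = ac (gcode g) (ac (gcode k) v) := by
  rw [← vcode_vdec (n := 12) hv, ac_code, ac_code, ac_code, mul_smul]

theorem ac_xor (g : GL12) {u v : ℕ} (hu : u < 4096) (hv : v < 4096) :
    ac (gcode g) (u ^^^ v) = ac (gcode g) u ^^^ ac (gcode g) v := by
  rw [← vcode_vdec (n := 12) hv, ← vcode_vdec (n := 12) hu, ← vcode_add, ac_code, ac_code, ac_code,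
    smul_add, vcode_add]

theorem ac_zero (g : GL12) : ac (gcode g) 0 = 0 := by
  rw [← vcode_zero (n := 12), ac_code, smul_zero]

theorem Hyp.code_xx (h : Hyp x c d e f) : mm (gcode x) (gcode x) = Nat.xor c1 (gcode x) := by
  rw [C12.map_mul, ← C12.map_one]
  unfold gcode
  refine (congrArg mcode (mat_ext fun j => ?_)).trans (mcode_add _ _)
  rw [add_mulVec, ← gl_smul, ← gl_smul, ← gl_smul, mul_smul, h.xx, one_smul]

/-- scalar test -/
noncomputable def scT (a y : ℕ) : Bool := Nat.beq y c1 || Nat.beq y a || Nat.beq y (mm a a)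

theorem Hyp.scT (h : Hyp x c d e f) {y : GL12} (hy : y ∈ Subgroup.zpowers x) :
    scT (gcode x) (gcode y) = true := by
  rcases mem_zpowers_three h.x3 hy with rfl | rfl | rfl
  · simp [J4.scT, C12.map_one]
  · simp [J4.scT]
  · simp [J4.scT, C12.map_mul]

def WX (j : ℕ) : List ℕ := List.replicate (j - 2) 0
def W1 (j : ℕ) : List ℕ := [[], [0], [], [1], [1, 1], [1, 1, 1], [1, 1, 1, 1], [1, 1, 1, 1, 1],
  [1, 1, 1, 1, 1, 1], [1, 1, 1, 1, 1, 1, 1], [1, 1, 1, 1, 1, 1, 1, 1],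
  [1, 1, 1, 1, 1, 1, 1, 1, 1]].getD j []

theorem xTest : allN (fun w => force (cols 12 fun j => wact ac [k1c] (WX j)
    (lget [2, 3, w, w, w, w, w, w, w, w, w, w] j)) fun X =>
      !Nat.beq (mm X X) (Nat.xor c1 X) || !Nat.beq (mm X k1c) (mm k1c X) || Nat.beq X k1x ||
        Nat.beq X k1xp) 4096 = true := by decide +kernel

theorem step2 (h : Hyp x c d e f) (hc : gcode c = k1c) (hx : ac (gcode x) 1 = 2) :
    gcode x = k1x ∨ gcode x = k1xp := by
  have h2 : ac (gcode x) 2 = 3 := by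
    have := congrArg vcode (h.xx (eb 0))
    rwa [vcode_add, ← ac_code, ← ac_code, vcode_eb, show 2 ^ ((0 : Fin 12) : ℕ) = 1 from rfl,
      hx] at this
  have h1 := det0 (L := [c]) (L' := [c]) (e := x) rfl (fun i hi => by
    obtain rfl : i = 0 := by simpa using hi
    exact h.xc) (C := [k1c]) (C' := [k1c]) (by simp [hc]) (by simp [hc]) (Wd := WX)
    (sds := [1, 2, 4, 4, 4, 4, 4, 4, 4, 4, 4, 4]) rfl (by decide +kernel)
  have h3 := allN_spec xTest _ (ac_lt (gcode x) 4)
  rw [force_eq] at h3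
  simp only [List.map_cons, List.map_nil, hx, h2] at h1
  rw [← h1, h.code_xx, ← hc, C12.map_mul, C12.map_mul, h.xc] at h3
  simpa using h3

theorem dTest : allN (fun y => !Nat.beq (ac (powC mm c1 k1c 3) y) y ||
    force (cols 12 fun j => wact ac [k1x, powC mm c1 k1c 3] (W1 j)
      (lget [y, y, 4, 4, 4, 4, 4, 4, 4, 4, 4, 4] j)) fun D =>
      !Nat.beq (powC mm c1 D 5) c1 || Nat.beq D k1d) 4096 = true := by decide +kernel

theorem step3 (h : Hyp x c d e f) (hc : gcode c = k1c) (hx : gcode x = k1x)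
    (hd : ac (gcode d) 4 = 4) : gcode d = k1d := by
  have h1 := det0 (L := [x, c]) (L' := [x, c ^ 3]) (e := d) rfl (fun i hi => by
    obtain rfl | rfl : i = 0 ∨ i = 1 := by simp at hi; omega
    exacts [h.xd.symm, h.dc]) (C := [k1x, k1c]) (C' := [k1x, powC mm c1 k1c 3]) (by simp [hc, hx])
    (by simp [code_pow hc, hx]) (Wd := W1)
    (sds := [1, 1, 4, 4, 4, 4, 4, 4, 4, 4, 4, 4]) rfl (by decide +kernel)
  have h3 := allN_spec dTest _ (ac_lt (gcode d) 1)
  rw [force_eq] at h3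
  simp only [List.map_cons, List.map_nil, hd] at h1
  have h5 : ac (powC mm c1 k1c 3) (ac (gcode d) 1) = ac (gcode d) 1 := by
    rw [← code_pow hc, ← ac_mul _ _ (by norm_num), ← h.dc, ac_mul _ _ (by norm_num), hc]
    congr 1; decide +kernel
  rw [← h1, h5, C12.powC_eq, h.d5, C12.map_one] at h3
  simpa using h3

def kPi : ℕ := 0x328b8c3bcefcc88be8eb8aecaf8004002001
def kPm : ℕ := 0x37c10c5dc054a1812456001c8e8004002001
def k2c : ℕ := 0x1fc3a8c4c8c83f42ac7f4eacf5caf8002001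
def k2d : ℕ := 0x600d008004000e0090080040008004002001
def k2dd : ℕ := 0x500f00600d000f00a00e0090008004002001
def k2cd4 : ℕ := 0xc4c8c893472c7f4eacaac558f5caf8002001
def WE (j : ℕ) : List ℕ := [[], [0], [], [0], [], [0], [1], [1, 0], [], [0], [1], [1, 0]].getD j []

noncomputable def p2g (F : ℕ → ℕ → ℕ) (Z y : ℕ) : ℕ := Nat.add y (Nat.shiftLeft (F Z y) 12)
noncomputable def p4g (F : ℕ → ℕ → ℕ) (Z D y : ℕ) : ℕ :=
  Nat.add (p2g F Z y) (Nat.shiftLeft (p2g F Z (F D y)) 24)

theorem cols12 (f : ℕ → ℕ) : cols 12 f = f 0 + f 1 * 2 ^ 12 + f 2 * 2 ^ 24 + f 3 * 2 ^ 36 +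
    f 4 * 2 ^ 48 + f 5 * 2 ^ 60 + f 6 * 2 ^ 72 + f 7 * 2 ^ 84 + f 8 * 2 ^ 96 + f 9 * 2 ^ 108 +
    f 10 * 2 ^ 120 + f 11 * 2 ^ 132 := by
  rw [cols_eq, PM.pack]
  simp only [sum_range_succ, sum_range_zero, zero_add, Nat.reduceMul, pow_zero, mul_one]

theorem shl (a n : ℕ) : Nat.shiftLeft a n = a * 2 ^ n := Nat.shiftLeft_eq a n

theorem arith (a a' b b' k k1 k2 k3 l l1 l2 l3 : ℕ) :
    a + a' * 2 ^ 12 + b * 2 ^ 24 + b' * 2 ^ 36 +
    k * 2 ^ 48 + k1 * 2 ^ 60 + k2 * 2 ^ 72 + k3 * 2 ^ 84 + l * 2 ^ 96 + l1 * 2 ^ 108 +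
    l2 * 2 ^ 120 + l3 * 2 ^ 132 = a + a' * 2 ^ 12 + (b + b' * 2 ^ 12) * 2 ^ 24 +
      (k + k1 * 2 ^ 12 + (k2 + k3 * 2 ^ 12) * 2 ^ 24) * 2 ^ 48 +
      (l + l1 * 2 ^ 12 + (l2 + l3 * 2 ^ 12) * 2 ^ 24) * 2 ^ 96 := by ring

theorem p2g_eq (F : ℕ → ℕ → ℕ) (Z y : ℕ) : p2g F Z y = y + F Z y * 2 ^ 12 :=
  congrArg (y + ·) (shl _ _)

theorem p4g_eq (F : ℕ → ℕ → ℕ) (Z D y : ℕ) : p4g F Z D y =
    y + F Z y * 2 ^ 12 + (F D y + F Z (F D y) * 2 ^ 12) * 2 ^ 24 := by
  rewrite [← p2g_eq, ← p2g_eq]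
  exact congrArg (p2g F Z y + ·) (shl _ _)

theorem add4 (A B C D : ℕ) : Nat.add (Nat.add (Nat.add A (Nat.shiftLeft B 24)) (Nat.shiftLeft C 48))
    (Nat.shiftLeft D 96) = A + B * 2 ^ 24 + C * 2 ^ 48 + D * 2 ^ 96 := by
  rewrite [shl, shl, shl]
  exact Eq.refl _

theorem ecolsg (F : ℕ → ℕ → ℕ) (Z D a b k l : ℕ) : (cols 12 fun j => wact F [Z, D] (WE j)
    (lget [a, a, b, b, k, k, k, k, l, l, l, l] j)) = Nat.add (Nat.add (Nat.add (p2g F Z a)
      (Nat.shiftLeft (p2g F Z b) 24)) (Nat.shiftLeft (p4g F Z D k) 48))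
      (Nat.shiftLeft (p4g F Z D l) 96) := by
  have w0 : ∀ y, wact F [Z, D] [0] y = F Z y := fun y => force_eq _ _
  have w1 : ∀ y, wact F [Z, D] [1] y = F D y := fun y => force_eq _ _
  have w2 : ∀ y, wact F [Z, D] [1, 0] y = F Z (F D y) := fun y => (force_eq _ _).trans (w0 _)
  have e : ∀ (j : ℕ) (I : List ℕ) (y r : ℕ), WE j = I → lget [a, a, b, b, k, k, k, k, l, l, l, l] j = y →
      wact F [Z, D] I y = r →
      wact F [Z, D] (WE j) (lget [a, a, b, b, k, k, k, k, l, l, l, l] j) = r :=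
    fun j I y r h1 h2 h3 => by rw [h1, h2, h3]
  rewrite [cols12, add4, p4g_eq, p4g_eq, p2g_eq, p2g_eq, ← arith]
  rewrite [e 0 [] a a rfl rfl rfl, e 1 [0] a _ rfl rfl (w0 _), e 2 [] b b rfl rfl rfl,
    e 3 [0] b _ rfl rfl (w0 _), e 4 [] k k rfl rfl rfl, e 5 [0] k _ rfl rfl (w0 _),
    e 6 [1] k _ rfl rfl (w1 _), e 7 [1, 0] k _ rfl rfl (w2 _), e 8 [] l l rfl rfl rfl,
    e 9 [0] l _ rfl rfl (w0 _), e 10 [1] l _ rfl rfl (w1 _), e 11 [1, 0] l _ rfl rfl (w2 _)]
  exact Eq.refl _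

noncomputable def p2 (y : ℕ) : ℕ := p2g ac cZ y
noncomputable def p4 (y : ℕ) : ℕ := p4g ac cZ k2dd y

theorem ecols (a b k l : ℕ) : (cols 12 fun j => wact ac [cZ, k2dd] (WE j)
    (lget [a, a, b, b, k, k, k, k, l, l, l, l] j)) = Nat.add (Nat.add (Nat.add (p2 a)
      (Nat.shiftLeft (p2 b) 24)) (Nat.shiftLeft (p4 k) 48)) (Nat.shiftLeft (p4 l) 96) :=
  ecolsg ac cZ k2dd a b k l

noncomputable def eT (E : ℕ) : Bool :=
  force (mm E E) fun E2 => !Nat.beq (mm E2 E2) c1 || (!scT cZ (powC mm c1 (mm E k2c) 7) ||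
    !scT cZ (powC mm c1 (mm k2cd4 E2) 3) || Nat.beq E 0xd00b00700e0f00a00400c00002001008004 ||
    Nat.beq E 0xd00b00700e0f00a00400c0000100300c008 || Nat.beq E 0xd00b00700e0f00a00400c0000300200400c)

noncomputable def eTest (a : ℕ) : Bool :=
  force (p2 a) fun A => allLt (fun b => force (Nat.add A (Nat.shiftLeft (p2 b) 24)) fun B =>
    allLt (fun k => force (Nat.add B (Nat.shiftLeft (p4 (Nat.mul k 256)) 48)) fun C =>
      allLt (fun l => force (Nat.add C (Nat.shiftLeft (p4 (Nat.mul l 16)) 96)) eT) 16) 16) 16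

theorem eTest_0 : eTest 0 = true := by decide +kernel
theorem eTest_1 : eTest 1 = true := by decide +kernel
theorem eTest_2 : eTest 2 = true := by decide +kernel
theorem eTest_3 : eTest 3 = true := by decide +kernel
theorem eTest_4 : eTest 4 = true := by decide +kernel
theorem eTest_5 : eTest 5 = true := by decide +kernel
theorem eTest_6 : eTest 6 = true := by decide +kernel
theorem eTest_7 : eTest 7 = true := by decide +kernel
theorem eTest_8 : eTest 8 = true := by decide +kernel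
theorem eTest_9 : eTest 9 = true := by decide +kernel
theorem eTest_10 : eTest 10 = true := by decide +kernel
theorem eTest_11 : eTest 11 = true := by decide +kernel
theorem eTest_12 : eTest 12 = true := by decide +kernel
theorem eTest_13 : eTest 13 = true := by decide +kernel
theorem eTest_14 : eTest 14 = true := by decide +kernel
theorem eTest_15 : eTest 15 = true := by decide +kernel

theorem eTest_all : ∀ a < 16, eTest a = true := by
  intro a ha
  interval_cases a
  exacts [eTest_0, eTest_1, eTest_2, eTest_3, eTest_4, eTest_5, eTest_6, eTest_7, eTest_8, eTest_9, eTest_10, eTest_11, eTest_12, eTest_13, eTest_14, eTest_15]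

theorem step4 (h : Hyp x c d e f) (hc : gcode c = k2c) (hx : gcode x = cZ) (hd : gcode d = k2d) :
    gcode e = 0xd00b00700e0f00a00400c00002001008004 ∨
      gcode e = 0xd00b00700e0f00a00400c0000100300c008 ∨
      gcode e = 0xd00b00700e0f00a00400c0000300200400c := by
  have hdd : gcode (d * d) = k2dd := by rw [code_mul hd hd]; decide +kernel
  have h1 := det0 (L := [x, d]) (L' := [x, d * d]) (e := e) rfl (fun i hi => by
    obtain rfl | rfl : i = 0 ∨ i = 1 := by simp at hi; omega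
    exacts [h.xe.symm, h.ed]) (C := [cZ, k2d]) (C' := [cZ, k2dd]) (by simp [hd, hx])
    (by simp [hdd, hx]) (Wd := WE)
    (sds := [1, 1, 4, 4, 16, 16, 16, 16, 256, 256, 256, 256]) rfl (by decide +kernel)
  have ed : ∀ v < 4096, ac (gcode e) (ac k2d v) = ac k2dd (ac (gcode e) v) := fun v hv => by
    rw [← hd, ← hdd, ← ac_mul _ _ hv, ← ac_mul _ _ hv, h.ed]
  have ex : ∀ v < 4096, ac (gcode e) (ac cZ v) = ac cZ (ac (gcode e) v) := fun v hv => by
    rw [← hx, ← ac_mul _ _ hv, ← ac_mul _ _ hv, h.xe]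
  have t : allN (fun y => force (ac k2dd y) fun y1 => force (ac k2dd y1) fun y2 => force (ac cZ y1)
      fun y3 => (!Nat.beq y1 y || blt y 16) && (!Nat.beq y2 (y ^^^ y3) || Nat.beq (y / 256 * 256) y) &&
        (!Nat.beq y2 (y ^^^ ac cZ y3) || (blt y 256 && Nat.beq (y / 16 * 16) y))) 4096 = true := by
    decide +kernel
  have t' := fun v => allN_spec t _ (ac_lt (gcode e) v)
  simp only [force_eq, Bool.and_eq_true, Bool.or_eq_true, Bool.not_eq_true', Nat.beq_eq,
    ← Bool.not_eq_true] at t'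
  have a1 : ac (gcode e) 1 < 16 := lt_of_blt ((t' 1).1.1.resolve_left (not_not.2 (by
    rw [← ed _ (by norm_num)]; congr 1; decide +kernel)))
  have a2 : ac (gcode e) 4 < 16 := lt_of_blt ((t' 4).1.1.resolve_left (not_not.2 (by
    rw [← ed _ (by norm_num)]; congr 1; decide +kernel)))
  have a3 : ac (gcode e) 16 / 256 * 256 = ac (gcode e) 16 := (t' 16).1.2.resolve_left (not_not.2 (by
    rw [← ed _ (by norm_num), ← ed _ (ac_lt _ _), ← ex _ (ac_lt _ _),
      ← ac_xor _ (by norm_num) (ac_lt _ _)]; congr 1; decide +kernel))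
  have a4 := (t' 256).2.resolve_left (not_not.2 (by
    rw [← ed _ (by norm_num), ← ed _ (ac_lt _ _), ← ex _ (ac_lt _ _), ← ex _ (ac_lt _ _),
      ← ac_xor _ (by norm_num) (ac_lt _ _)]; congr 1; decide +kernel))
  have a5 := lt_of_blt a4.1
  have a6 := ac_lt (gcode e) 16
  have h2 := eTest_all _ a1
  rw [eTest, force_eq] at h2
  have h3 := allLt_iff.1 h2 _ a2
  rw [force_eq] at h3
  have h4 := allLt_iff.1 h3 (ac (gcode e) 16 / 256) (by omega)
  rw [force_eq] at h4
  have h5 := allLt_iff.1 h4 (ac (gcode e) 256 / 16) (by omega)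
  rw [force_eq] at h5
  have h6 : Nat.add (Nat.add (Nat.add (p2 (ac (gcode e) 1)) (Nat.shiftLeft (p2 (ac (gcode e) 4)) 24))
      (Nat.shiftLeft (p4 (Nat.mul (ac (gcode e) 16 / 256) 256)) 48))
      (Nat.shiftLeft (p4 (Nat.mul (ac (gcode e) 256 / 16) 16)) 96) = gcode e := by
    refine Eq.trans ?_ h1.symm
    rw [show Nat.mul (ac (gcode e) 16 / 256) 256 = _ from a3,
      show Nat.mul (ac (gcode e) 256 / 16) 16 = _ from a4.2]
    simp only [List.map_cons, List.map_nil]
    exact (ecols _ _ _ _).symm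
  have r1 := h.scT h.r1
  have r2 := h.scT h.r2
  rw [hx, code_pow (code_mul rfl hc)] at r1
  rw [hx, code_pow (code_mul (code_mul hc (code_pow hd 4)) rfl),
    show mm k2c (powC mm c1 k2d 4) = k2cd4 by decide +kernel] at r2
  rw [h6, eT, force_eq, r1, C12.map_mul, r2, C12.map_mul, ← pow_two, ← pow_two, ← pow_mul, h.e4,
    C12.map_one] at h5
  simpa [or_assoc] using h5

theorem fTest : allLt (fun a => allN (fun y => !Nat.beq (ac k1d y) y ||
    force (cols 12 fun j => wact ac [k1xx, k1ci] (W1 j)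
      (lget [a, a, y, y, y, y, y, y, y, y, y, y] j)) fun F =>
      !scT k1x (powC mm c1 (mm (mm k1e k1d) (mm F (powC mm c1 k1d 4))) 4) || Nat.beq F k1f ||
        Nat.beq (mm F k1x) k1f || Nat.beq (mm F k1xx) k1f) 4096) 4 = true := by decide +kernel

theorem step5 (h : Hyp x c d e f) (hc : gcode c = k1c) (hx : gcode x = k1x)
    (hd : gcode d = k1d) (he : gcode e = k1e) :
    gcode f = k1f ∨ gcode (f * x) = k1f ∨ gcode (f * (x * x)) = k1f := by
  have hxx : gcode (x * x) = k1xx := by rw [code_mul hx hx]; decide +kernel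
  have hci : gcode (c ^ 10) = k1ci := by rw [code_pow hc]; decide +kernel
  have h1 := det0 (L := [x, c]) (L' := [x * x, c ^ 10]) (e := f) rfl (fun i hi => by
    obtain rfl | rfl : i = 0 ∨ i = 1 := by simp at hi; omega
    exacts [h.fx, h.fc]) (C := [k1x, k1c]) (C' := [k1xx, k1ci]) (by simp [hc, hx])
    (by simp [hxx, hci]) (Wd := W1)
    (sds := [1, 1, 4, 4, 4, 4, 4, 4, 4, 4, 4, 4]) rfl (by decide +kernel)
  have t : allN (fun w => !Nat.beq (ac k1ci w) w || blt w 4) 4096 = true := by decide +kernel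
  have h5 : ac k1ci (ac (gcode f) 1) = ac (gcode f) 1 := by
    rw [← hci, ← ac_mul _ _ (by norm_num), ← h.fc, ac_mul _ _ (by norm_num), hc]
    congr 1; decide +kernel
  have h6 : ac k1d (ac (gcode f) 4) = ac (gcode f) 4 := by
    rw [← hd, ← ac_mul _ _ (by norm_num), ← h.fd, ac_mul _ _ (by norm_num), hd]
    congr 1; decide +kernel
  have h7 := allN_spec t _ (ac_lt (gcode f) 1)
  rw [h5, Nat.beq_refl, Bool.not_true, Bool.false_or] at h7
  have h3 := allN_spec (allLt_iff.1 fTest _ (lt_of_blt h7)) _ (ac_lt (gcode f) 4)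
  rw [force_eq] at h3
  simp only [List.map_cons, List.map_nil] at h1
  have r3 := h.scT h.r3
  rw [hx, code_pow (code_mul (code_mul he hd) (code_mul rfl (code_pow hd 4)))] at r3
  rw [← h1, h6, r3, ← code_mul rfl hx, ← code_mul rfl hxx] at h3
  simpa [or_assoc] using h3

def cX : ℕ := 0x400c001003000400c003002000c008003002
def cXX : ℕ := 0xc008003002000c008001003000400c001003
def cC : ℕ := 0xe2893ca2e5379cb78d0c8044e727a1d3b626
def cD : ℕ := 0xd6bbfd7b5e5ade7bb9c0a405369197595aff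
def cE : ℕ := 0xa525e3927739d2fb351202108f6c6df4e589
def cF : ℕ := 0x924e1c4518b3e4678de3691b9d37a13c528a

/-- the conclusion of the identification -/
def Concl (x c d e f : GL12) : Prop :=
  ∃ g : GL12, gcode (g * x * g⁻¹) = cX ∧ gcode (g * c * g⁻¹) = cC ∧ gcode (g * d * g⁻¹) = cD ∧
    gcode (g * e * g⁻¹) = cE ∧ ∃ i : ℕ, gcode (g * (f * x ^ i) * g⁻¹) = cF

theorem Concl.of_conj {g : GL12}
    (h : Concl (g * x * g⁻¹) (g * c * g⁻¹) (g * d * g⁻¹) (g * e * g⁻¹) (g * f * g⁻¹)) :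
    Concl x c d e f := by
  obtain ⟨k, h1, h2, h3, h4, i, h5⟩ := h
  have e : ∀ y : GL12, k * g * y * (k * g)⁻¹ = k * (g * y * g⁻¹) * k⁻¹ := fun y => by group
  refine ⟨k * g, by rw [e, h1], by rw [e, h2], by rw [e, h3], by rw [e, h4], i, ?_⟩
  have e2 : g * (f * x ^ i) * g⁻¹ = g * f * g⁻¹ * (g * x * g⁻¹) ^ i := by rw [conj_pow]; group
  rw [e, e2, h5]

theorem concl5 (h : Hyp x c d e f) (hc : gcode c = k1c) (hx : gcode x = k1x)
    (hd : gcode d = k1d) (he : gcode e = k1e) : Concl x c d e f := by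
  obtain ⟨g, -, hg⟩ := exists_conj (a := 0x91f1bb3a4d05aa0b339447b13e1317578aa4)
    (b := 0x6db3a9c014dac442a061e1112de081966029) (by decide +kernel)
  refine ⟨g, by rw [hg, hx]; decide +kernel, by rw [hg, hc]; decide +kernel,
    by rw [hg, hd]; decide +kernel, by rw [hg, he]; decide +kernel, ?_⟩
  rcases step5 h hc hx hd he with e | e | e
  · exact ⟨0, by rw [hg, pow_zero, mul_one, e]; decide +kernel⟩
  · exact ⟨1, by rw [hg, pow_one, e]; decide +kernel⟩
  · exact ⟨2, by rw [hg, pow_two, e]; decide +kernel⟩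

theorem concl4 (h : Hyp x c d e f) (hc : gcode c = k2c) (hx : gcode x = cZ)
    (hd : gcode d = k2d) : Concl x c d e f := by
  have key : ∀ a b E : ℕ, gcode e = E → (F2M.unitB 12 CM 4095 b a && Nat.beq (mm (mm a k2c) b) k1c &&
      Nat.beq (mm (mm a cZ) b) k1x && Nat.beq (mm (mm a k2d) b) k1d &&
      Nat.beq (mm (mm a E) b) k1e) = true → Concl x c d e f := fun a b E hE t => by
    simp only [Bool.and_eq_true, Nat.beq_eq] at t
    obtain ⟨g, -, hg⟩ := exists_conj t.1.1.1.1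
    exact (concl5 (h.conj g) (by rw [hg, hc, t.1.1.1.2]) (by rw [hg, hx, t.1.1.2])
      (by rw [hg, hd, t.1.2]) (by rw [hg, hE, t.2])).of_conj
  rcases step4 h hc hx hd with e | e | e
  · exact key kPm kPi _ e (by decide +kernel)
  · exact key 0x37c10c5dc054a1812456001c8e8004003002 0x328b8c3bcefcc88be8eb8aecaf8004001003 _ e
      (by decide +kernel)
  · exact key 0x37c10c5dc054a1812456001c8e8004001003 0x328b8c3bcefcc88be8eb8aecaf8004003002 _ e
      (by decide +kernel)

theorem concl3 (h : Hyp x c d e f) (hc : gcode c = k1c) (hx : gcode x = k1x)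
    (hd : ac (gcode d) 4 = 4) : Concl x c d e f := by
  obtain ⟨g, -, hg⟩ := exists_conj (a := kPi) (b := kPm) (by decide +kernel)
  exact (concl4 (h.conj g) (by rw [hg, hc]; decide +kernel) (by rw [hg, hx]; decide +kernel)
    (by rw [hg, step3 h hc hx hd]; decide +kernel)).of_conj

theorem ident (h : Hyp x c d e f) : Concl x c d e f ∨ Concl (x * x) c d e f := by
  obtain ⟨g, h1, h2, h3⟩ := step1 h
  rcases step2 (h.conj g) h1 h2 with e | e
  · exact Or.inl (concl3 (h.conj g) h1 e h3).of_conj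
  · obtain ⟨k, hk', hk⟩ := exists_conj (a := 0x800400200100080040020010008004003001)
      (b := 0x800400200100080040020010008004003001) (by decide +kernel)
    have e1 : g * (x * x) * g⁻¹ = g * x * g⁻¹ * (g * x * g⁻¹) := by group
    have e2 : k • eb 2 = eb 2 := vcode_injective (by rw [hk', vcode_eb]; decide +kernel)
    refine Or.inr (concl3 ((h.sq.conj g).conj k) (by rw [hk, h1]; decide +kernel)
      (by rw [hk, e1, code_mul e e]; decide +kernel) ?_).of_conj.of_conj
    have e3 : (g * d * g⁻¹) • eb 2 = eb 2 := smul_eq_of_code (by rw [vcode_eb]; exact h3)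
    have := ac_code (k * (g * d * g⁻¹) * k⁻¹) (eb 2)
    rwa [mul_smul, mul_smul, inv_smul_eq_iff.2 e2.symm, e3, e2, vcode_eb] at this

end CL.J4
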