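import Cfsg.Agent.SPOR.J4.MxChk
import Cfsg.Agent.SPOR.J4.Big
import Cfsg.Agent.INV.Def1Ex
import Cfsg.Agent.INV.Def1Sieve
import Cfsg.Agent.INV.Def1BT
import Cfsg.Agent.S4508

/-!
Soundness of the checker: single blocks and pairs of blocks.
-/

set_option autoImplicit false

namespace CL.J4.Mx

open Cfsg Subgroup CL.Char CL.D1
open CL.Blk hiding irrOne irrOne_apply
open scoped ComplexConjugate

/-- a Sylow subgroup of prime order `q` with centraliser of order `q c` and automiser of order `e` -/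
structure Loc (N : Type*) [Group N] (q e c : ℕ) : Prop where
  pr : q.Prime
  odd : q ≠ 2
  sq : ¬ q ^ 2 ∣ Nat.card N
  dvd : q ∣ Nat.card N
  cent : ∀ y : N, orderOf y = q → Nat.card (centralizer ({y} : Set N)) = q * c
  norm : ∀ y : N, orderOf y = q → Nat.card (normalizer (zpowers y : Set N)) = q * c * e

/-- the option describes `N` -/
def Real (N : Type*) [Group N] (o : Opt) : Prop :=
  1 < o.2.1 ∧ ∃ c, Loc N o.1 o.2.1 c ∧ (o.2.2 = 0 ∨ o.2.2 = c)

variable {N : Type*} [Group N] [Finite N] {q e c r f d : ℕ}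

theorem exists_loc (pr : q.Prime) (odd : q ≠ 2) (sq : ¬ q ^ 2 ∣ Nat.card N) (dvd : q ∣ Nat.card N) :
    ∃ e c, e ∣ q - 1 ∧ Loc N q e c := by
  have := Fact.mk pr
  obtain ⟨P⟩ : Nonempty (Sylow q N) := inferInstance
  obtain ⟨x, hx, hP⟩ := sylow_gen dvd sq P
  have h1 : Nat.card P = q := by rw [hP, Nat.card_zpowers, hx]
  obtain ⟨c, hc⟩ := dvd_card_cent (a := x) (d := x) rfl
  obtain ⟨e, he, hn⟩ := exists_aut pr hx
  refine ⟨e, c, he, pr, odd, sq, dvd, fun y hy => ?_, fun y hy => ?_⟩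
  · rw [card_centralizer_eq P h1 hy, ← card_centralizer_eq P h1 hx, hc, hx]
  · rw [card_norm_congr pr sq hy hx, hn, hc, hx, mul_comm]

namespace Loc

variable (L : Loc N q e c)
include L

theorem exists_y : ∃ y : N, orderOf y = q :=
  have := Fact.mk L.pr
  exists_prime_orderOf_dvd_card' q L.dvd

theorem c_pos : 0 < c := by
  obtain ⟨y, hy⟩ := L.exists_y
  exact Nat.pos_of_mul_pos_left (a := q) (L.cent y hy ▸ Nat.card_pos)

theorem sylow [Fact q.Prime] : ∃ P : Sylow q N, Nat.card P = q ∧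
    Nat.card (centralizer ((P : Subgroup N) : Set N)) = q * c ∧
    Nat.card (normalizer ((P : Subgroup N) : Set N)) = q * c * e := by
  obtain ⟨P⟩ : Nonempty (Sylow q N) := inferInstance
  obtain ⟨x, hx, hP⟩ := sylow_gen L.dvd L.sq P
  rw [← L.norm x hx, ← L.cent x hx, ← cent_zpowers x, ← hP]
  exact ⟨P, by rw [hP, Nat.card_zpowers, hx], rfl, rfl⟩

theorem data (hp : commutator N = ⊤) : Nonempty (Data N q e) := by
  have := Fact.mk L.pr
  obtain ⟨P, h1, h2, h3⟩ := L.sylow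
  refine exists_data hp L.odd P h1 (Nat.eq_of_mul_eq_mul_left (mul_pos L.pr.pos L.c_pos) ?_)
  rw [← h3, ← h2, CL.Small.card_centralizer_mul_relIndex]

theorem syl : syl (Nat.card N) q (q * c * e) = true := by
  obtain ⟨y, hy⟩ := L.exists_y
  rw [← L.norm y hy]
  simp [Mx.syl, index_norm_mod L.pr L.sq hy, Nat.mod_eq_zero_of_dvd (card_subgroup_dvd_card _)]

theorem no_qr (hr : r.Prime) (hne : r ≠ q) (h : ¬ r ∣ c) (g : N) (hg : q ∣ orderOf g) :
    ¬ r ∣ orderOf g := by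
  have := Fact.mk L.pr
  obtain ⟨P, h1, h2, -⟩ := L.sylow
  exact no_order_pq P h1 hr hne h2 h g hg

end Loc

omit [Finite N] in
theorem two_lt (L : Loc N q e c) : 2 < q := lt_of_le_of_ne L.pr.two_le L.odd.symm

omit [Finite N] in
theorem card_Y (D : Data N q e) : (q - 1) / e = D.Y.card := by
  rw [show q - 1 = D.Y.card * e by have := D.card_Y; omega, Nat.mul_div_cancel _ D.e_pos]

omit [Finite N] in
theorem e_lt (L : Loc N q e c) (D : Data N q e) : e < q := by
  have := Fact.mk L.pr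
  have h1 := D.card_Y
  have h2 := Finset.card_pos.2 D.Y_nonempty
  nlinarith

theorem mod_of_sign {d q e : ℕ} (he : 0 < e) (hq : e < q) {δ : ℤ} (hδ : δ = 1 ∨ δ = -1)
    (h : (d : ℤ) ≡ δ * e [ZMOD q]) : δ = 1 ∧ d % q = e ∨ δ = -1 ∧ d % q + e = q := by
  refine hδ.imp (fun h1 => ⟨h1, ?_⟩) fun h1 => ⟨h1, ?_⟩
  · rw [h1, one_mul] at h
    rw [← Nat.mod_eq_of_lt hq]
    exact Int.natCast_modEq_iff.1 h
  · rw [h1] at h
    have h2 : q ∣ d % q + e := by
      rw [← Nat.dvd_add_right (dvd_mul_right q (d / q)), ← add_assoc, Nat.div_add_mod]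
      exact Int.natCast_dvd_natCast.1 (by simpa using h.symm.dvd)
    have h3 := Nat.mod_lt d (show 0 < q by omega)
    obtain ⟨k, hk⟩ := h2
    obtain rfl : k = 1 := by
      rcases k with _ | _ | k
      · omega
      · rfl
      · nlinarith
    omega

theorem degX (L : Loc N q e c) (D : Data N q e) {χ : IrrCharacter N} (h : χ ∈ D.X) :
    D.δ χ = 1 ∧ charDegree χ.1 % q = 1 ∨ D.δ χ = -1 ∧ charDegree χ.1 % q + 1 = q := by
  have := Fact.mk L.pr
  obtain ⟨y, hy⟩ := L.exists_y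
  exact mod_of_sign one_pos L.pr.one_lt (D.δ_sign χ h) (by simpa using D.deg_X hy h)

omit [Finite N] in
theorem degY (L : Loc N q e c) (D : Data N q e) {χ : IrrCharacter N} (h : χ ∈ D.Y) :
    D.ε = 1 ∧ charDegree χ.1 % q = e ∨ D.ε = -1 ∧ charDegree χ.1 % q + e = q :=
  mod_of_sign D.e_pos (e_lt L D) D.ε_sign (D.deg_Y χ h)

@[simp] theorem beq_false {a b : ℕ} : Nat.beq a b = false ↔ a ≠ b := by
  rw [Bool.eq_false_iff, Ne, Nat.beq_eq]

theorem iv_eq (r d : ℕ) : iv r d = if d % r = 0 then 0 else if d % r = 1 then 1 else -1 := by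
  simp only [iv, Bool.cond_eq_ite, Nat.beq_eq]

theorem val_iso (L : Loc N r f 1) (hf : 1 < f) (D : Data N r f) {y : N} (hy : orderOf y = r)
    {χ : IrrCharacter N} (h1 : χ ≠ irrOne N)
    (h : charDegree χ.1 % r ≤ 1 ∨ charDegree χ.1 % r + 1 = r) : χ.1 y = iv r (charDegree χ.1) := by
  have := Fact.mk L.pr
  have h2 := two_lt L
  have h3 := e_lt L D
  by_cases hX : χ ∈ D.X
  · rw [D.val_X χ hX y hy.symm.dvd]
    rcases degX L D hX with ⟨e1, e2⟩ | ⟨e1, e2⟩
    · simp [iv_eq, e1, e2]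
    · simp [iv_eq, e1, show charDegree χ.1 % r ≠ 0 by omega, show charDegree χ.1 % r ≠ 1 by omega]
  by_cases hY : χ ∈ D.Y
  · have h4 := degY L D hY
    have h5 : D.Y.card = 1 := by
      rw [← card_Y D, show r - 1 = f by omega, Nat.div_self (by omega)]
    obtain ⟨θ, hθ⟩ := Finset.card_eq_one.1 h5
    have h6 := D.sum_Y y hy.symm.dvd
    rw [hθ, Finset.mem_singleton] at hY
    rw [hθ, Finset.sum_singleton, ← hY] at h6
    rw [h6]
    rcases h4 with ⟨e1, e2⟩ | ⟨e1, e2⟩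
    · simp [iv_eq, e1, show charDegree χ.1 % r ≠ 0 by omega, show charDegree χ.1 % r ≠ 1 by omega]
    · simp [iv_eq, e1, show charDegree χ.1 % r = 1 by omega]
  · have h4 := (L.cent y hy).trans (mul_one r)
    simp [iv_eq, D.eq_zero_of_notMem hy h4 h1 hX hY,
      Nat.mod_eq_zero_of_dvd (D.dvd_of_notMem hy h4 h1 hX hY)]

theorem not_pred (hp : commutator N = ⊤) (L : Loc N r f 1) (χ : IrrCharacter N)
    (h : charDegree χ.1 + 1 = r) : (r - 1) / f % 2 ≠ 1 := by
  have := Fact.mk L.pr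
  obtain ⟨y, hy⟩ := L.exists_y
  have h1 : centralizer {y} = zpowers y := (eq_of_le_of_card_ge (zpowers_le.2
    (mem_centralizer_singleton_iff.2 rfl)) (by rw [L.cent y hy, Nat.card_zpowers, hy, mul_one])).symm
  have h2 := (SelfCent.mk hy h1).clsCt_mul
  have h3 : autIdx y = f := Nat.eq_of_mul_eq_mul_left L.pr.pos (by
    rw [← mul_one r, ← L.norm y hy, mul_one, ← hy, ← Nat.card_zpowers, autIdx, mul_comm,
      relIndex, ← Nat.card_congr (subgroupOfEquivOfLe le_normalizer).toEquiv, index_mul_card])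
  have h4 := (Cfsg.Agent.S4508.result r L.pr y hy h1 _ rfl χ h).resolve_right (by simp [hp])
  have h5 : 0 < f := Nat.pos_of_mul_pos_left (a := r * 1) (L.norm y hy ▸ Nat.card_pos)
  rw [← h2, h3, Nat.mul_div_cancel _ h5]
  exact Nat.even_iff.1 h4 ▸ zero_ne_one

theorem gok_of (hp : commutator N = ⊤) {iso : List (ℕ × ℕ)} (hi : ∀ o ∈ iso, Loc N o.1 o.2 1)
    {lo : ℕ} {χ : IrrCharacter N} (h1 : χ ≠ irrOne N) (h : lo ≤ charDegree χ.1) :
    gok iso lo (charDegree χ.1) = true := by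
  simp only [gok, al_eq, fN_eq, Bool.and_eq_true, Nat.ble_eq, List.all_eq_true, Bool.or_eq_true,
    Nat.beq_eq, Bool.not_eq_true', Bool.and_eq_false_imp]
  refine ⟨h, fun o ho => ⟨?_, fun h2 => ?_⟩⟩
  · have L := hi o ho
    have := Fact.mk L.pr
    obtain ⟨D⟩ := L.data hp
    obtain ⟨y, hy⟩ := L.exists_y
    by_cases hX : χ ∈ D.X
    · have := degX L D hX
      omega
    by_cases hY : χ ∈ D.Y
    · have := degY L D hY
      omega
    · have := Nat.mod_eq_zero_of_dvd (D.dvd_of_notMem hy ((L.cent y hy).trans (mul_one _)) h1 hX hY)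
      omega
  · simpa using not_pred hp (hi o ho) χ h2.1

variable [IsSimpleGroup N] (hN : ¬ IsMulCommutative N)
include hN

theorem okdeg_of (L : Loc N q e c) {c' : ℕ} (hc : c' = 0 ∨ c' = c) (D : Data N q e)
    {χ : IrrCharacter N} (h : χ ∈ D.X ∨ χ ∈ D.Y) :
    okdeg (Nat.card N) q c' (charDegree χ.1) = true := by
  have := Fact.mk L.pr
  obtain ⟨P, h1, h2, h3⟩ := L.sylow
  have h4 := (CL.Small.card_sylow_mul_card_normalizer P).symm
  rw [h3] at h4
  have h5 := D.okDeg hN P h1 h2 h4 h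
  have h6 := L.c_pos
  simp only [okDeg, Bool.and_eq_true, beq_iff_eq, decide_eq_true_eq, Bool.or_eq_true] at h5
  simp only [okdeg, Bool.and_eq_true, Nat.beq_eq, Nat.ble_eq, Bool.or_eq_true, Nat.blt_eq]
  refine ⟨⟨Nat.mod_eq_zero_of_dvd ((Nat.dvd_of_mod_eq_zero h5.1.1).trans ?_), h5.1.2⟩, by omega⟩
  rcases hc with rfl | rfl
  · exact Nat.dvd_div_of_mul_dvd ⟨c, by rw [h4]; simp; ring⟩
  · rw [show Nat.beq c' 0 = false by simpa using h6.ne', cond_false]
    exact Nat.dvd_div_of_mul_dvd ⟨1, by rw [h4]; ring⟩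

omit [Finite N] [IsSimpleGroup N] hN

open Classical in
/-- the weights -/
noncomputable def wt (D : Data N q e) (χ : IrrCharacter N) : ℤ :=
  if χ ∈ D.X then D.Y.card * D.δ χ else -D.ε

/-- the nontrivial characters in the block -/
def XY (D : Data N q e) : Finset (IrrCharacter N) := D.X.disjUnion D.Y D.disj

theorem mem_XY {D : Data N q e} {χ : IrrCharacter N} : χ ∈ XY D ↔ χ ∈ D.X ∨ χ ∈ D.Y :=
  Finset.mem_disjUnion

/-- the weighted degrees -/
noncomputable def wD (D : Data N q e) : Multiset (ℕ × ℤ) :=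
  (XY D).val.map fun χ => (charDegree χ.1, wt D χ)

theorem wt_X {D : Data N q e} {χ : IrrCharacter N} (h : χ ∈ D.X) : wt D χ = D.Y.card * D.δ χ :=
  if_pos h

theorem wt_Y {D : Data N q e} {χ : IrrCharacter N} (h : χ ∈ D.Y) : wt D χ = -D.ε :=
  if_neg fun h' => Finset.disjoint_left.1 D.disj h' h

theorem sgn_facts {δ : ℤ} (h : δ = 1 ∨ δ = -1) {d : ℕ} (hd : 0 < d) :
    (δ * d).natAbs = d ∧ (δ * d).sign = δ := by
  rcases h with rfl | rfl <;> simp [Int.sign_natCast_of_ne_zero hd.ne']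

theorem fm_ite1 {α : Type} (p : α → Bool) (l : List α) :
    l.flatMap (fun x => ite1 (p x) x) = l.filter p := by
  induction l with
  | nil => rfl
  | cons x l ih => rw [List.flatMap_cons, ih, List.filter_cons]; cases p x <;> simp [ite1]

theorem sgn_sorted {D : List ℕ} (h : D.Pairwise (· ≥ ·)) (q e : ℕ) :
    (sgn q e D).Pairwise fun x y => y.natAbs ≤ x.natAbs := by
  have k : ∀ (d : ℕ) (b b' : Bool), ∀ x ∈ app (ite1 b (Int.ofNat d)) (ite1 b' (-Int.ofNat d)),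
      x.natAbs = d := by
    intro d b b' x hx
    simp only [app_eq, List.mem_append, mem_ite1] at hx
    rcases hx with ⟨-, rfl⟩ | ⟨-, rfl⟩ <;> simp
  rw [sgn, fm_eq, List.pairwise_flatMap]
  refine ⟨fun d _ => List.pairwise_of_forall_mem_list fun x hx y hy => ?_,
    h.imp fun h x hx y hy => ?_⟩ <;> rw [k _ _ _ x hx, k _ _ _ y hy]
  exact h

theorem mem_sgn {D : List ℕ} {d : ℕ} (h : d ∈ D) {δ : ℤ}
    (h' : δ = 1 ∧ d % q = e ∨ δ = -1 ∧ d % q + e = q) : δ * d ∈ sgn q e D := by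
  rw [sgn, fm_eq, List.mem_flatMap]
  refine ⟨d, h, ?_⟩
  rcases h' with ⟨rfl, h'⟩ | ⟨rfl, h'⟩ <;> simp [h']

variable [Finite N]

theorem isoeq_of (hp : commutator N = ⊤) (L : Loc N q e c) (D : Data N q e) {θ : IrrCharacter N}
    (hθ : θ ∈ D.Y) (L' : Loc N r f 1) (hf : 1 < f) (hne : r ≠ q) {l : List ℤ}
    (hl : (l : Multiset ℤ) = D.sdeg) : isoeq r (-(D.ε * charDegree θ.1) :: l) = true := by
  obtain ⟨D'⟩ := L'.data hp
  obtain ⟨y, hy⟩ := L'.exists_y
  simp only [isoeq, an_eq, Bool.or_eq_true, Nat.beq_eq, Int.natAbs_eq_zero, List.any_eq_true,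
    Bool.not_eq_true', or_iff_not_imp_left, not_exists, not_and, Bool.not_eq_false, Nat.ble_eq]
  intro h
  have h0 := D.eqn θ hθ y (by
    rw [hy, Nat.prime_dvd_prime_iff_eq L.pr L'.pr]; exact hne.symm)
  have h1 := sgn_facts D.ε_sign θ.2.charDegree_pos
  have h2 := h _ List.mem_cons_self
  rw [Int.natAbs_neg, h1.1] at h2
  rw [val_iso L' hf D' hy (D.ne_one (Or.inr hθ)) (or_iff_not_imp_left.2 h2),
    Finset.sum_congr rfl (g := fun χ => (((D.δ χ * charDegree χ.1).sign *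
      iv r (D.δ χ * charDegree χ.1).natAbs : ℤ) : ℂ)) fun χ hχ => ?_] at h0
  · rw [List.map_cons, List.sum_cons, ← Multiset.sum_coe, ← Multiset.map_coe, hl, Data.sdeg,
      Multiset.map_map, Int.natAbs_neg, Int.sign_neg, h1.1, h1.2, ← Finset.sum_eq_multiset_sum]
    have : D.ε * iv r (charDegree θ.1) = 1 + ∑ χ ∈ D.X, (D.δ χ * charDegree χ.1).sign *
      iv r (D.δ χ * charDegree χ.1).natAbs := by exact_mod_cast h0
    simp only [Function.comp_apply]
    linear_combination -this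
  · have h3 := sgn_facts (D.δ_sign χ hχ) χ.2.charDegree_pos
    have h4 := h (D.δ χ * charDegree χ.1) (List.mem_cons_of_mem _
      (Multiset.mem_coe.1 (hl ▸ Multiset.mem_map_of_mem _ hχ)))
    rw [h3.1] at h4
    rw [h3.1, h3.2, val_iso L' hf D' hy (D.ne_one (Or.inl hχ)) (or_iff_not_imp_left.2 h4)]
    simp

theorem leaf_of (hp : commutator N = ⊤) (L : Loc N q e c) (D : Data N q e) {θ : IrrCharacter N}
    (hθ : θ ∈ D.Y) {iso : List (ℕ × ℕ)} (hi : ∀ o ∈ iso, 1 < o.2 ∧ Loc N o.1 o.2 1) {l : List ℤ}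
    (hl : (l : Multiset ℤ) = D.sdeg) : leaf q D.Y.card (D.ε * charDegree θ.1) iso l = true := by
  have := Fact.mk L.pr
  simp only [leaf, al_eq, Bool.and_eq_true, Bool.or_eq_true, Nat.blt_eq, Nat.ble_eq,
    List.all_eq_true, Nat.beq_eq, or_iff_not_imp_left]
  refine ⟨fun h => ?_, fun o ho h => isoeq_of hp L D hθ (hi o ho).2 (hi o ho).1 h hl⟩
  obtain ⟨θ', h1, h2⟩ := Finset.exists_mem_ne (show 1 < D.Y.card by omega) θ
  rw [(sgn_facts D.ε_sign θ.2.charDegree_pos).1, ← sq, ← Multiset.sum_coe, ← Multiset.map_coe, hl,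
    Data.sdeg, Multiset.map_map, ← Finset.sum_eq_multiset_sum]
  refine le_trans (le_of_eq ?_) (D.sum_neg_le hθ h1 h2.symm (D.deg_Y_eq h1 hθ))
  rw [Finset.sum_filter]
  refine Finset.sum_congr rfl fun χ hχ => ?_
  rcases D.δ_sign χ hχ with h | h <;> simp [h]

theorem solve_of [IsSimpleGroup N] (hN : ¬ IsMulCommutative N) {iso : List (ℕ × ℕ)}
    (hi : ∀ o ∈ iso, 1 < o.2 ∧ Loc N o.1 o.2 1) {D0 : List ℕ} (hs : D0.Pairwise (· ≥ ·))
    (h0 : ∀ χ : IrrCharacter N, χ ≠ irrOne N → charDegree χ.1 ∈ D0) (L : Loc N q e c) {c' : ℕ}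
    (hc : c' = 0 ∨ c' = c) (D : Data N q e) :
    ∃ a ∈ solve (Nat.card N) iso D0 (q, e, c'), (a : Multiset (ℕ × ℤ)) = wD D := by
  have := Fact.mk L.pr
  obtain ⟨θ, hθ⟩ := D.Y_nonempty
  have h1 : ∀ χ, χ ∈ D.X ∨ χ ∈ D.Y → charDegree χ.1 ∈ D0.filter (okdeg (Nat.card N) q c') :=
    fun χ h => List.mem_filter.2 ⟨h0 χ (D.ne_one h), okdeg_of hN L hc D h⟩
  have h2 := sgn_facts D.ε_sign θ.2.charDegree_pos
  have h3 := D.sum_sq_le hθ
  have h4 : ∀ χ ∈ D.X, _ := fun χ hχ => sgn_facts (D.δ_sign χ hχ) χ.2.charDegree_pos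
  obtain ⟨l, hl, hl'⟩ := gl_of (leaf := leaf q D.Y.card (D.ε * charDegree θ.1) iso)
    (M := Nat.card N) (k := e - 1) (cs := sgn q 1 (D0.filter (okdeg (Nat.card N) q c'))) (acc := [])
    (T := D.ε * charDegree θ.1 - 1) (s := D.sdeg)
    (b := Nat.card N - 1 - D.Y.card * (charDegree θ.1 * charDegree θ.1))
    (by have := D.card_X; simp [Data.sdeg]; omega) (fun x hx => by
      obtain ⟨χ, hχ, rfl⟩ := Multiset.mem_map.1 hx
      exact mem_sgn (h1 χ (Or.inl hχ)) (degX L D hχ)) (fun x hx => by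
      obtain ⟨χ, hχ, rfl⟩ := Multiset.mem_map.1 hx
      rw [(h4 χ hχ).1]
      exact χ.2.charDegree_dvd_card) (sgn_sorted (hs.filter _) _ _)
    (by rw [D.deg_eqn hθ, Data.sdeg, ← Finset.sum_eq_multiset_sum]; ring) (by
      rw [Data.sdeg, Multiset.map_map, ← Finset.sum_eq_multiset_sum, Finset.sum_congr rfl
        (g := fun χ => charDegree χ.1 ^ 2) fun χ hχ => by simp only [Function.comp_apply, (h4 χ hχ).1, sq]]
      rw [← sq]
      omega) fun l hl => leaf_of (CL.Small.commutator_eq_top hN) L D hθ hi (by simpa using hl)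
  refine ⟨wl D.Y.card (D.ε * charDegree θ.1) l, ?_, ?_⟩
  · simp only [solve, fN_eq, fS_eq, fZ_eq, fm_eq, fI_eq, fm_ite1, card_Y D, List.mem_flatMap]
    refine ⟨_, mem_sgn (h1 θ (Or.inr hθ)) (degY L D hθ), ?_⟩
    rw [h2.1, show Nat.blt (D.Y.card * (charDegree θ.1 * charDegree θ.1)) (Nat.card N) = true by
      rw [Nat.blt_eq, ← sq]; omega, cond_true]
    exact List.mem_map_of_mem hl
  · rw [wl, ← Multiset.coe_add, ← Multiset.map_coe, hl', wD, XY, Finset.disjUnion_val,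
      Data.sdeg, Multiset.coe_nil, zero_add, Multiset.map_add, Multiset.map_map, h2.1, h2.2]
    congr 1
    · exact Multiset.map_congr rfl fun χ hχ => by
        simp only [Function.comp_apply, (h4 χ hχ).1, (h4 χ hχ).2, wt_X hχ]
    · rw [Multiset.map_congr rfl (g := fun _ => (charDegree θ.1, -D.ε)) fun χ hχ => by
        rw [wt_Y hχ, D.deg_Y_eq hχ hθ], Multiset.map_const']
      rfl

theorem psi [Fintype N] [DecidableEq (IrrCharacter N)] (D : Data N q e) : ∃ Ψ : N → ℂ, IsClassFunction N Ψ ∧ (∀ g, ¬ q ∣ orderOf g → Ψ g = 0) ∧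
    ∀ χ : IrrCharacter N, classInner Ψ χ.1 =
      ((if χ = irrOne N then D.Y.card else if χ ∈ XY D then wt D χ else 0 : ℤ) : ℂ) := by
  refine ⟨∑ χ : IrrCharacter N, ((if χ = irrOne N then D.Y.card else if χ ∈ XY D then wt D χ
    else 0 : ℤ) : ℂ) • (χ : N → ℂ), ?_, fun g hg => ?_, fun χ => classInner_sum_irr _ χ⟩
  · exact fun a b => by simp only [Finset.sum_apply, Pi.smul_apply,
      IsIrrCharacter.isClassFunction (Subtype.prop _) a b]
  · have h1 : irrOne N ∉ XY D := fun h => D.ne_one (mem_XY.1 h) rfl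
    rw [Finset.sum_apply, ← Finset.sum_subset (Finset.subset_univ (insert (irrOne N) (XY D)))
      (fun χ _ h => by
        rw [Finset.mem_insert, not_or] at h
        simp [h.1, h.2]), Finset.sum_insert h1, XY, Finset.sum_disjUnion,
      Finset.sum_congr rfl (g := fun χ => D.Y.card * ((D.δ χ : ℂ) * χ.1 g)) (fun χ hχ => by
        simp [D.ne_one (Or.inl hχ), hχ, wt_X hχ, mul_assoc]),
      Finset.sum_congr (s₁ := D.Y) rfl (g := fun _ => -(1 + ∑ χ ∈ D.X, (D.δ χ : ℂ) * χ.1 g))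
        (fun χ hχ => by simp [D.ne_one (Or.inr hχ), hχ, wt_Y hχ, D.eqn χ hχ g hg]),
      ← Finset.mul_sum]
    simp [irrOne_apply]

theorem pair [DecidableEq (IrrCharacter N)] (D : Data N q e) (D' : Data N r f)
    (h : ∀ g : N, q ∣ orderOf g → ¬ r ∣ orderOf g) :
    (D.Y.card : ℤ) * D'.Y.card + ∑ χ ∈ XY D ∩ XY D', wt D χ * wt D' χ = 0 := by
  have := Fintype.ofFinite N
  obtain ⟨Ψ, -, h1, h2⟩ := psi D
  obtain ⟨Φ, k0, k1, k2⟩ := psi D'
  have h3 := inner_eq_sum_of_right Ψ k0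
  have h4 : irrOne N ∉ XY D := fun h => D.ne_one (mem_XY.1 h) rfl
  rw [classInner_def, Finset.sum_eq_zero (fun g _ => by
      by_cases hg : q ∣ orderOf g
      · rw [k1 g (h g hg), map_zero, mul_zero]
      · rw [h1 g hg, zero_mul]), mul_zero,
    ← Finset.sum_subset (Finset.subset_univ (insert (irrOne N) (XY D ∩ XY D'))) (fun χ _ h => by
      rw [Finset.mem_insert, not_or, Finset.mem_inter, not_and_or] at h
      rcases h.2 with h' | h' <;> simp [h2, k2, h.1, h']),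
    Finset.sum_insert (fun h => h4 (Finset.mem_inter.1 h).1),
    Finset.sum_congr rfl (g := fun χ => ((wt D χ * wt D' χ : ℤ) : ℂ)) (fun χ hχ => by
      rw [Finset.mem_inter] at hχ
      simp [h2, k2, hχ.1, hχ.2, D.ne_one (mem_XY.1 hχ.1)])] at h3
  simp only [h2, k2, if_true, map_intCast] at h3
  exact_mod_cast h3.symm

end CL.J4.Mx
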