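import Cfsg.Agent.SPOR.J4.MxDef

/-!
The checker for orders of simple subgroups.
-/

set_option autoImplicit false

namespace CL.J4.Mx

/-- a prime, the order of its automiser, and the order of its centraliser divided by the prime
(`0` if not known) -/
abbrev Opt : Type := ℕ × ℕ × ℕ

/-- an option and perhaps the weighted degrees of the principal block -/
abbrev Ent : Type := Opt × Option WL

/-- conditions on all degrees -/
noncomputable def gok (iso : List (ℕ × ℕ)) (lo d : ℕ) : Bool :=
  Nat.ble lo d && al (fun o => fN (d % o.1) fun x => (Nat.ble x 1 || Nat.beq (x + 1) o.1 ||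
    Nat.beq x o.2 || Nat.beq (x + o.2) o.1) &&
      !(Nat.beq (d + 1) o.1 && Nat.beq (o.2 % 2) 0 && Nat.beq ((o.1 - 1) / o.2 % 2) 1)) iso

/-- conditions on the degrees in the principal block -/
def okdeg (m q c d : ℕ) : Bool :=
  Nat.beq (m / (q * (bif Nat.beq c 0 then 1 else c)) % d) 0 && Nat.ble 2 d &&
    (Nat.ble c 1 || Nat.blt (2 * q) d)

/-- the value on an element of order `r` -/
def iv (r d : ℕ) : ℤ := bif Nat.beq (d % r) 0 then 0 else bif Nat.beq (d % r) 1 then 1 else -1

/-- the degree equation at an element of order `r` -/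
noncomputable def isoeq (r : ℕ) (l : List ℤ) : Bool :=
  an (fun x => !(Nat.ble (x.natAbs % r) 1 || Nat.beq (x.natAbs % r + 1) r)) l ||
    Nat.beq (1 + (l.map fun x => x.sign * iv r x.natAbs).sum).natAbs 0

/-- final test of a solution of the degree equation -/
noncomputable def leaf (q t : ℕ) (s : ℤ) (iso : List (ℕ × ℕ)) (acc : List ℤ) : Bool :=
  (Nat.blt t 2 || Nat.ble (acc.map fun x => (-x).toNat).sum (s.natAbs * s.natAbs)) &&
    al (fun o => Nat.beq o.1 q || isoeq o.1 (-s :: acc)) iso

/-- the weighted degrees -/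
def wl (t : ℕ) (s : ℤ) (acc : List ℤ) : WL :=
  (acc.map fun x => (x.natAbs, (t : ℤ) * x.sign)) ++ List.replicate t (s.natAbs, -s.sign)

/-- the degrees congruent to `± e`, with signs -/
noncomputable def sgn (q e : ℕ) (D : List ℕ) : List ℤ :=
  fm (fun d => app (ite1 (Nat.beq (d % q) e) (Int.ofNat d))
    (ite1 (Nat.beq (d % q + e) q) (-Int.ofNat d))) D

/-- the possible principal blocks -/
noncomputable def solve (m : ℕ) (iso : List (ℕ × ℕ)) (D0 : List ℕ) (o : Opt) : List WL :=
  fN ((o.1 - 1) / o.2.1) fun t => fS (fm (fun d => ite1 (okdeg m o.1 o.2.2 d) d) D0) fun D =>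
    fZ (sgn o.1 1 D) fun X => fm (fun s => fI s fun s =>
      bif Nat.blt (t * (s.natAbs * s.natAbs)) m then
        (gl (leaf o.1 t s iso) m (o.2.1 - 1) X (s - 1) (m - 1 - t * (s.natAbs * s.natAbs)) []).map
          (wl t s) else []) (sgn o.1 o.2.1 D)

/-- no element has order `q r` -/
def noqr (x y : Opt) : Bool :=
  !Nat.beq x.1 y.1 && (!Nat.beq (x.2.2 % y.1) 0 || !Nat.beq (y.2.2 % x.1) 0)

/-- some member may lie in the other block with opposite sign -/
noncomputable def unary (m : ℕ) (a : WL) (o : Opt) : Bool :=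
  an (fun x => okdeg m o.1 o.2.2 x.1 && bif decide (x.2 < 0) then
    Nat.beq (x.1 % o.1) 1 || Nat.beq (x.1 % o.1 + o.2.1) o.1
    else Nat.beq (x.1 % o.1 + 1) o.1 || Nat.beq (x.1 % o.1) o.2.1) a

/-- Sylow's theorem in a subgroup of order `F` -/
noncomputable def gsy (F r ν μ : ℕ) : Bool :=
  anD (Nat.gcd F ν) fun u => Nat.beq (u % μ) 0 && Nat.beq (F / u % r) 1

/-- local rules -/
noncomputable def rule1 (x y : Opt) : Bool :=
  Nat.beq x.1 y.1 || Nat.beq x.2.2 0 || Nat.beq y.2.2 0 ||
    (!Nat.beq (x.2.2 % y.1) 0 || Nat.beq (y.2.2 % x.1) 0 && gsy (x.1 * x.2.2) y.1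
      (bif Nat.beq x.1 5 && Nat.beq y.1 7 then 105 else y.1 * y.2.2 * y.2.1) 1) &&
    (!Nat.beq (x.2.2 * x.2.1 % y.1) 0 ||
      gsy (x.1 * x.2.2 * x.2.1) y.1 (y.1 * y.2.2 * y.2.1) x.2.1)

/-- test before the block is computed -/
noncomputable def pre (m : ℕ) (o : Opt) (x : Ent) : Bool :=
  rule1 o x.1 && rule1 x.1 o && (!noqr o x.1 || Option.rec true (fun b => unary m b o) x.2)

/-- degrees that may be missing in the other block -/
def miss (o : Opt) (d : ℕ) : Bool := !Nat.beq o.2.2 1 || Nat.beq (d % o.1) 0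

/-- comparison of two blocks -/
noncomputable def cmp (m : ℕ) (o : Opt) (a : WL) (x : Ent) : Bool :=
  !noqr o x.1 || Option.rec (unary m a x.1) (fun b => mtch (miss x.1) (miss o) a b
    (Int.ofNat ((o.1 - 1) / o.2.1 * ((x.1.1 - 1) / x.1.2.1)))) x.2

/-- extends the compatible families -/
noncomputable def ext (f : Ent → Bool) (x : Ent) (chs : List (List Ent)) : List (List Ent) :=
  fm (fun ch => ite1 (al f ch) (x :: ch)) chs

/-- one more prime -/
noncomputable def step (m : ℕ) (iso : List (ℕ × ℕ)) (D0 hv : List ℕ) (chs : List (List Ent))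
    (L : List Opt) : List (List Ent) :=
  fm (fun o => fS (fm (fun ch => ite1 (al (pre m o) ch) ch) chs) fun pr =>
    bif pr.isEmpty then [] else bif Nat.ble o.2.1 5 || an (Nat.beq o.1) hv then
      fm (fun a => fW a fun a => ext (cmp m o a) (o, some a) pr) (solve m iso D0 o)
    else ext (fun _ => true) (o, none) pr) L

/-- Sylow's theorem -/
def syl (m q n : ℕ) : Bool := Nat.beq (m % n) 0 && Nat.beq (m / n % q) 1

/-- bounds for automiser, centraliser and normaliser -/
def TB : List (ℕ × ℕ × ℕ × ℕ) := [(43, 14, 1, 14), (37, 12, 1, 12), (31, 10, 1, 10),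
  (29, 28, 1, 28), (23, 22, 1, 22), (7, 3, 120, 360), (11, 10, 24, 240), (5, 4, 1344, 5376)]

/-- the options for one prime -/
noncomputable def ob (m j P : ℕ) (x : ℕ × ℕ × ℕ × ℕ) : List Opt :=
  fmD x.2.1 fun e => bif Nat.blt 1 e && (!Nat.beq x.1 P || Nat.beq (j * e) x.2.2.2) &&
    (Nat.beq (m % 8) 0 || !Nat.beq (e % 4) 0) then fmD x.2.2.1 fun c =>
      ite1 (Nat.beq (x.2.2.2 % (j * c * e)) 0 && syl m x.1 (x.1 * c * e) &&
        !(Nat.beq x.1 11 && (Nat.beq c 12 ||
          Nat.beq m 196922880 && Nat.beq e 5 && Nat.beq c 4))) (x.1, e, c) else []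

/-- `q` divides `m` exactly once -/
def once (m q : ℕ) : Bool := Nat.beq (m % q) 0 && !Nat.beq (m % (q * q)) 0

/-- the first sieve -/
noncomputable def okm (m j P : ℕ) : Bool :=
  al (fun x => !once m x.1 || !(ob m j P x).isEmpty) TB && !Nat.beq (m * j) 97598130094080 &&
    bif Nat.beq (m % 1331) 0 then anD 240 fun u => Nat.beq (240 % (j * u)) 0 && syl m 1331 (1331 * u)
    else !Nat.beq (m % 121) 0 || anD 20 fun u => Nat.beq (20 % (j * u)) 0 && syl m 121 (121 * u)

/-- runs through the automisers of the self-centralising primes -/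
noncomputable def anIso (m j P : ℕ) (f : List (ℕ × ℕ) → Bool) (L : List (ℕ × ℕ × ℕ × ℕ)) :
    List (ℕ × ℕ) → Bool :=
  List.rec f (fun x _ ih iso => bif once m x.1 && Nat.beq x.2.2.1 1 then
    an (fun o => fN o.2.1 fun e => ih ((x.1, e) :: iso)) (ob m j P x) else ih iso) L

/-- the options for the prime `q` -/
noncomputable def blk (m j P : ℕ) (iso : List (ℕ × ℕ)) (q : ℕ) : List Opt :=
  bif an (fun o => Nat.beq o.1 q) iso then fm (fun o => ite1 (Nat.beq o.1 q) (q, o.2, 1)) iso
  else bif Nat.beq q 3 then [(3, 2, 0)] else fm (fun x => bif Nat.beq x.1 q then ob m j P x else []) TB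

/-- runs through the primes -/
noncomputable def bfs (m j P : ℕ) (iso : List (ℕ × ℕ)) (D0 hv L : List ℕ) :
    List (List Ent) → Bool :=
  List.rec (fun chs => !chs.isEmpty) (fun q _ ih chs => !once m q ||
    !an (Nat.beq q) [3, 5, 7, 11, 23, 29, 31, 37, 43] ||
      fS (step m iso D0 hv chs (blk m j P iso q)) ih) L

/-- lower bound for the degrees -/
def lo (m j : ℕ) : ℕ :=
  bif Nat.beq (m % 1048576) 0 && Nat.beq (m * j % 2097152) 0 then 32 else 0

/-- the second sieve -/
noncomputable def alive (P j m : ℕ) (L hv : List ℕ) : Bool :=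
  anIso m j P (fun iso => fS (degs m (gok iso (lo m j))) fun D0 => bfs m j P iso D0 hv L [[]]) TB []

/-- all orders that pass the first sieve are listed -/
noncomputable def cover (P E : ℕ) (L : List (ℕ × ℕ × List ℕ × List ℕ)) : Bool :=
  !anD (oG / (P * E)) fun s => Nat.beq (s % P) 1 && !Nat.beq (s * (P * E)) oG && anD E fun j =>
    !Nat.beq j E && fN (s * (P * E) / j) fun m => okm m j P &&
      !an (fun x => Nat.beq x.1 j && Nat.beq x.2.1 m) L

/-- no listed order passes the second sieve -/
noncomputable def dead (P : ℕ) (L : List (ℕ × ℕ × List ℕ × List ℕ)) : Bool :=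
  al (fun x => !alive P x.1 x.2.1 x.2.2.1 x.2.2.2) L

/-- orders with the primes to be used -/
def C29 : List (ℕ × ℕ × List ℕ × List ℕ) :=
  [(1, 24360, [7], []), (1, 2143680, [7], []), (1, 9914520, [11], []),
   (1, 179601408, [29, 7], []), (1, 1183311360, [7, 11], []), (1, 1915748352, [7], []),
   (1, 57472450560, [29, 7, 5], []), (1, 265810083840, [7], []), (1, 3020496568320, [3], []),
   (1, 97744673832960, [29, 7, 3], []), (2, 12180, [7], []), (2, 1071840, [11], []),
   (2, 4957260, [7], []), (2, 89800704, [29, 7], []), (2, 957874176, [7], []),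
   (2, 28736225280, [29, 7, 5], []), (2, 132905041920, [7], []), (2, 48872336916480, [7, 5], []),
   (4, 535920, [11], []), (4, 478937088, [7], []), (4, 14368112640, [29], [29]),
   (4, 66452520960, [37], []), (7, 3480, [5], []), (7, 37120, [29], []), (7, 25657344, [29], []),
   (7, 273678336, [29], []), (7, 8210350080, [29], []), (14, 58, [29], []),
   (14, 18560, [29], []), (14, 12828672, [29], []), (14, 136839168, [29], []),
   (14, 4105175040, [29], [])]

/-- orders with the primes to be used -/
def C37a : List (ℕ × ℕ × List ℕ × List ℕ) :=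
  [(1, 49728, [7], []), (1, 279720, [7], []), (1, 673992, [23], []), (1, 1363968, [37], [37]),
   (1, 1758240, [37, 11], [37]), (1, 18186240, [3], []), (1, 21274704, [37], [37]),
   (1, 35008512, [11], []), (1, 123325440, [7], []), (1, 152764416, [7], []),
   (1, 2036858880, [7], []), (1, 12803112960, [3], []), (1, 47255126016, [7], []),
   (1, 60914810880, [11], []), (1, 265810083840, [7], []), (1, 1670806241280, [29], []),
   (2, 222, [3], []), (2, 24864, [7], []), (2, 139860, [5, 7], []), (2, 681984, [37], [37]),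
   (2, 879120, [37, 11], [37]), (2, 9093120, [3], []), (2, 10637352, [37], [37]),
   (2, 61662720, [31], []), (2, 76382208, [7], []), (2, 1018429440, [7], []),
   (2, 6401556480, [3], []), (2, 23627563008, [7], []), (2, 30457405440, [11], []),
   (2, 132905041920, [7], []), (3, 93240, [37], []), (3, 454656, [37], []),
   (3, 586080, [37], []), (3, 6062080, [37], []), (3, 7091568, [37], []),
   (3, 50921472, [37], []), (3, 65640960, [37], []), (3, 4267704320, [37], []),
   (4, 111, [3], []), (4, 69930, [37], []), (4, 340992, [37], []), (4, 439560, [37], []),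
   (4, 4546560, [37], []), (4, 5318676, [37], []), (4, 38191104, [37], []),
   (4, 49230720, [37, 11], []), (4, 509214720, [37], []), (4, 3200778240, [37], []),
   (4, 66452520960, [37], []), (6, 74, [37], []), (6, 46620, [7, 5], []), (6, 227328, [37], []),
   (6, 293040, [37], []), (6, 3031040, [37], []), (6, 3545784, [37], []),
   (6, 25460736, [37], []), (6, 32820480, [37, 11], []), (6, 2133852160, [37], [])]

/-- orders with the primes to be used -/
def C37b : List (ℕ × ℕ × List ℕ × List ℕ) :=
  [(1, 196922880, [11, 37], [37])]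

/-- orders with the primes to be used -/
def C37c : List (ℕ × ℕ × List ℕ × List ℕ) :=
  [(2, 98461440, [7, 37, 11, 5], [37, 11])]

/-- orders with the primes to be used -/
def C43 : List (ℕ × ℕ × List ℕ × List ℕ) :=
  [(1, 130032, [7], []), (1, 595980, [7], []), (1, 2304456, [29], []), (1, 5721408, [11], []),
   (1, 221921280, [7], []), (1, 470426880, [37], []), (1, 2130444288, [43], [43]),
   (1, 9764536320, [11, 43, 7, 5], []), (1, 73381969920, [7], []),
   (1, 65049153707704320, [7], []), (2, 65016, [7], []), (2, 1152228, [29], []),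
   (2, 2860704, [11, 7], []), (2, 110960640, [7], []), (2, 235213440, [7], []),
   (2, 1065222144, [43], [43]), (2, 4882268160, [43, 7, 5], [43]), (2, 36690984960, [31], []),
   (2, 32524576853852160, [37], []), (7, 86, [43], []), (7, 18576, [43], []),
   (7, 1409024, [43], []), (7, 31703040, [43], []), (7, 304349184, [43], [])]

end CL.J4.Mx
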