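import Cfsg.Agent.SPOR.J4.MxSim
import Cfsg.Agent.SPOR.J4.MxR1
import Cfsg.Agent.SPOR.J4.MxR2
import Cfsg.Agent.SPOR.J4.MxR3
import Cfsg.Agent.SPOR.J4.MxR4

/-!
The normalisers of the Sylow subgroups of order 29, 37, 43 are maximal.
-/

set_option autoImplicit false

namespace CL.J4.Mx

open Cfsg Subgroup CL.Orb CL.Tr

variable {G : Type*} [Group G] [Finite G] {P E : ℕ}

theorem prime_mem {r : ℕ} (hr : r.Prime) (h : r ∣ oG) : r ∈ [2, 3, 5, 7, 11, 23, 29, 31, 37, 43] :=
  mem_list_primes_of_dvd_prod hr.prime (fun q hq => Nat.prime_iff.1 ((by decide :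
    ∀ q ∈ [2, 3, 5, 7, 11, 23, 29, 31, 37, 43], q.Prime) q hq))
    (hr.dvd_of_dvd_pow (n := 21) (h.trans (by decide +kernel)))

theorem pow_cases (hP : P ∈ [29, 37, 43]) {r n : ℕ} (hr : r.Prime) (h : r ^ n ∣ oG)
    (h1 : P ∣ r ^ n - 1) : n = 0 ∨ r = 2 ∧ n = 14 := by
  refine or_iff_not_imp_left.2 fun h0 => ?_
  have h2 := prime_mem hr ((dvd_pow_self r h0).trans h)
  exact ((by decide +kernel : ∀ P ∈ [29, 37, 43], ∀ r ∈ [2, 3, 5, 7, 11, 23, 29, 31, 37, 43],
    ∀ n < 22, r ^ n ∣ oG → P ∣ r ^ n - 1 → n = 0 ∨ r = 2 ∧ n = 14) P hP r h2 n (not_le.1 fun k =>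
      (by decide +kernel : ∀ r ∈ [2, 3, 5, 7, 11, 23, 29, 31, 37, 43], ¬ r ^ 22 ∣ oG) r h2
        ((pow_dvd_pow r k).trans h)) h h1).resolve_left h0

theorem dead_append {A B : List (ℕ × ℕ × List ℕ × List ℕ)} (h1 : dead P A = true)
    (h2 : dead P B = true) : dead P (A ++ B) = true := by
  rw [dead, al_eq] at *
  rw [List.all_append, h1, h2]
  rfl

namespace GD

variable {z c : G} {Q U : Subgroup G} (g : GD z Q c U) (hP : P ∈ [29, 37, 43])
  (L : Loc G P E 1) {x : G} (ho : orderOf x = P)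
include L ho

theorem cent_eq : centralizer {x} = zpowers x := (eq_of_le_of_card_ge
  (zpowers_le.2 (mem_centralizer_singleton_iff.2 rfl))
    (by rw [L.cent x ho, Nat.card_zpowers, ho, mul_one])).symm

include g hP

/-- no nontrivial subgroup of order prime to `P` is normalised by an element of order `P` -/
theorem dvd_of_norm {M : Subgroup G} (hx : x ∈ normalizer (M : Set G)) (hM : M ≠ ⊥) :
    P ∣ Nat.card M := by
  by_contra k
  have hr := Nat.minFac_prime (mt card_eq_one.1 hM)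
  obtain ⟨T, t1, t2, n, m, t3, t4, t5⟩ := exists_inv_sylow (zpowers_le.2 hx) (by
    rw [Nat.card_zpowers, ho]; exact (Nat.Prime.coprime_iff_not_dvd L.pr).2 k) inferInstance hr
  have h1 : ∀ W ≤ T, x ∈ normalizer (W : Set G) → W ≠ ⊥ →
      (Nat.card M).minFac = 2 ∧ Nat.card W = 2 ^ 14 := fun W hW h h' => by
    obtain ⟨i, -, hi⟩ := (Nat.dvd_prime_pow hr).1 (t3 ▸ card_dvd_of_le hW)
    rcases pow_cases hP hr (hi ▸ g.card ▸ card_subgroup_dvd_card W) (hi ▸ prime_dvd_card_sub_one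
      L.pr ho h fun y hy e => by_contra fun e' => k (by
        have := orderOf_dvd_of_mem_zpowers ((cent_eq L ho).le (mem_centralizer_singleton_iff.2 e))
        rw [← ((Nat.dvd_prime L.pr).1 (ho ▸ this)).resolve_left (mt orderOf_eq_one_iff.1 e')]
        exact orderOf_dvd_natCard _ (t1 (hW hy)))) with rfl | ⟨e, rfl⟩
    · exact absurd (card_eq_one.1 hi) h'
    · exact ⟨e, e ▸ hi⟩
  obtain ⟨-, h2⟩ := h1 T le_rfl (t2 (mem_zpowers x)) fun e => t5 (by
    rw [e, card_bot] at t3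
    rw [← t3, one_mul] at t4
    exact t4 ▸ Nat.minFac_dvd _)
  let W : Subgroup G :=
    { carrier := {y | y ∈ T ∧ (∀ t ∈ T, t * y = y * t) ∧ y * y = 1}
      one_mem' := ⟨one_mem _, by simp, by simp⟩
      mul_mem' := fun {a b} ha hb => ⟨mul_mem ha.1 hb.1, fun t ht => by
        rw [← mul_assoc, ha.2.1 t ht, mul_assoc, hb.2.1 t ht, mul_assoc], by
          rw [mul_assoc, ← mul_assoc b, ha.2.1 b hb.1, mul_assoc, hb.2.2, mul_one, ha.2.2]⟩
      inv_mem' := fun {a} ha => by rwa [inv_eq_of_mul_eq_one_left ha.2.2] }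
  have hT : IsPGroup 2 T := IsPGroup.of_card h2
  have : Nontrivial T := Finite.one_lt_card_iff_nontrivial.1 (by rw [h2]; decide)
  have := hT.center_nontrivial
  obtain ⟨i, i1, i2⟩ := (hT.to_subgroup (center T)).nontrivial_iff_card.1 this
  obtain ⟨w, w1, w2⟩ := exists_orderOf (K := center T) Nat.prime_two (i2 ▸ dvd_pow_self 2 i1.ne')
  have h3 := eq_of_le_of_card_ge (show W ≤ T from fun y hy => hy.1) (by
    rw [h2, (h1 W (fun y hy => hy.1) (mem_normalizer_of_conj_mem fun y hy =>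
      ⟨conj_mem_of_mem_normalizer (t2 (mem_zpowers x)) hy.1, fun t ht => by
        have := hy.2.1 _ (inv_conj_mem_of_mem_normalizer (t2 (mem_zpowers x)) ht)
        rwa [← comm_conj_iff (g := x), show x * (x⁻¹ * t * x) * x⁻¹ = t by group] at this,
        by rw [conj_mul, hy.2.2]; simp⟩) (ne_bot_iff_exists_ne_one.2 ⟨⟨w, w.2, fun t ht =>
          congrArg Subtype.val (mem_center_iff.1 w1 ⟨t, ht⟩), congrArg Subtype.val
            (show w * w = 1 by rw [← sq, ← w2, pow_orderOf_eq_one])⟩, fun e => by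
              rw [show w = 1 from Subtype.ext (congrArg (Subtype.val : W → G) e)] at w2
              simp at w2⟩)).2])
  obtain ⟨V, v1, v2⟩ := exists_le_card (p := 2) (n := 11) (K := T) (by rw [h2]; decide)
  have h4 := card_le_of_le (le_trans (show T ≤ centralizer (V : Set G) from
    fun t ht v hv => ((h3.ge (v1 hv)).2.1 t ht).symm)
    (g.self V ⟨⟨⟨fun a b => Subtype.ext ((h3.ge (v1 b.2)).2.1 a (v1 a.2))⟩⟩,
      fun a ha => (sq a).trans (h3.ge (v1 ha)).2.2⟩ v2))
  rw [h2, v2] at h4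
  exact absurd h4 (by decide)

theorem cyc (hE : ¬ 11 ∣ E) (hE' : P * E ≠ oG) {C : List (ℕ × ℕ × List ℕ × List ℕ)} (h1 : cover P E C = true)
    (h2 : dead P C = true) : IsCoatom (normalizer (zpowers x : Set G)) := by
  have h0 : Nat.card (normalizer (zpowers x : Set G)) = P * E := by rw [L.norm x ho, mul_one]
  have hP' : 29 ≤ P := by fin_cases hP <;> decide
  refine ⟨fun e => hE' (by rw [← h0, e, card_top, g.card]), fun K hK => by_contra fun hK' => ?_⟩
  have hx : x ∈ K := hK.le (le_normalizer (mem_zpowers x))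
  have hs := fun H : Subgroup G => mt (fun h : P ^ 2 ∣ Nat.card H =>
    h.trans (card_subgroup_dvd_card H)) L.sq
  set N := closure {y | y ∈ K ∧ orderOf y = P} with hN
  have hx' : x ∈ N := subset_closure ⟨hx, ho⟩
  have l1 : N ≤ K := (closure_le _).2 fun y hy => hy.1
  have h : NK N K (N.relIndex K) := ⟨l1, fun k hk => mem_normalizer_of_conj_mem
    ((closure_le (N.comap (MulAut.conj k).toMonoidHom)).2 fun y hy => subset_closure
      ⟨mul_mem (mul_mem hk hy.1) (inv_mem hk), (CL.Small.orderOf_conj' _ _).trans hy.2⟩),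
    card_mul_relIndex_of_le l1⟩
  have : Nontrivial N := ⟨⟨x, hx'⟩, 1, fun e => by
    rw [show x = 1 from congrArg Subtype.val e, orderOf_one] at ho; omega⟩
  have : IsSimpleGroup N := ⟨fun M hM => or_iff_not_imp_left.2 fun e => by
    have k1 := g.dvd_of_norm hP L ho (M := M.map N.subtype) (mem_normalizer_of_conj_mem (by
      rintro _ ⟨m, hm, rfl⟩
      exact ⟨_, hM.conj_mem m hm ⟨x, hx'⟩, rfl⟩))
      (by rwa [Ne, map_eq_bot_iff_of_injective _ (subtype_injective N)])
    rw [card_map_of_injective (subtype_injective N)] at k1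
    obtain ⟨w, w1, w2⟩ := exists_orderOf L.pr k1
    have k2 : N ≤ M.map N.subtype := (closure_le _).2 fun y hy => by
      obtain ⟨k, -, i, -, k3⟩ := conj_in (K := (⊤ : Subgroup N)) L.pr (by rw [card_top]; exact hs N)
        (b := ⟨y, subset_closure hy⟩) (mem_top w) (mem_top _) w2 ((orderOf_mk _ _).trans hy.2)
      exact ⟨_, (hM.mem_comm_iff.1 (k3 ▸ pow_mem w1 i) :), by simp⟩
    exact eq_top_iff.2 fun n _ => (mem_map_iff_mem (subtype_injective N)).1 (k2 n.2)⟩
  have hc : ¬ IsMulCommutative N := fun e => hK.not_ge (h.nm.trans (by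
    rw [le_antisymm (show N ≤ zpowers x from fun y hy => (cent_eq L ho).le
      (mem_centralizer_singleton_iff.2 (congrArg Subtype.val (e.1.1 ⟨y, hy⟩ ⟨x, hx'⟩))))
        (zpowers_le.2 hx')]))
  generalize N.relIndex K = j at h
  obtain ⟨e, d, -, L'⟩ := exists_loc (N := N) L.pr L.odd (hs N) (ho ▸ orderOf_dvd_natCard _ hx')
  have h3 := (h.loc L' hx' ho).2.2
  rw [inf_eq_left.2 hK.le, h0] at h3
  replace h3 : E = j * (d * e) := Nat.eq_of_mul_eq_mul_left L.pr.pos (by rw [h3]; ring)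
  have h4 := cnt_mod L.pr (hs K) hx ho
  obtain ⟨s, h5⟩ := card_dvd_of_le hK.le
  rw [inf_eq_left.2 hK.le, h5, Nat.mul_div_cancel_left _ Nat.card_pos] at h4
  rw [h0, mul_comm] at h5
  have h6 : ¬ 11 ∣ j := fun k => hE (k.trans (Dvd.intro _ h3.symm))
  have h7 := fun t => g.opt h hc h6 hP' hx' ho hK.le (t := t)
  refine RS.false ⟨hc, g.dvd_oG h, g.wN, g.deg h, h7⟩ h1 h2 (h5 ▸ g.card ▸ card_subgroup_dvd_card K) h4
    (fun k => hK' (eq_top_of_card_eq K (h5.trans (k.trans g.card.symm)))) (Dvd.intro _ h3.symm)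
    (fun k => ?_) (h.idx.trans h5) (g.okm_of h h6 fun t a b => let ⟨_, _, k, _⟩ := h7 t a b; ⟨_, k⟩)
  have h8 := Nat.mul_le_mul L'.c_pos (L'.one_lt hc)
  have h9 : 0 < j := Nat.pos_of_ne_zero fun e => h6 (e ▸ dvd_zero _)
  nlinarith

omit L

theorem bigx : IsCoatom (normalizer (zpowers x : Set G)) := by
  fin_cases hP
  exacts [g.cyc (by decide) (g.loc (29, 28, 1, 28) (by decide) (by decide)) ho (by decide)
      (by decide) cover29 dead29,
    g.cyc (by decide) (g.loc (37, 12, 1, 12) (by decide) (by decide)) ho (by decide) (by decide)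
      cover37 (dead_append dead37a (dead_append dead37b dead37c)),
    g.cyc (by decide) (g.loc (43, 14, 1, 14) (by decide) (by decide)) ho (by decide) (by decide)
      cover43 dead43]

omit ho in
theorem big [Fact P.Prime] (S : Sylow P G) : IsCoatom (normalizer ((S : Subgroup G) : Set G)) := by
  obtain ⟨x, h1, h2⟩ := sylow_gen (by rw [g.card]; fin_cases hP <;> decide)
    (by rw [g.card]; fin_cases hP <;> decide) S
  exact h2 ▸ g.bigx hP h1

end GD

end CL.J4.Mx
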