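import Cfsg.Agent.SPOR.J4.MxCyc

/-!
A sieve for the orders of proper subgroups.
-/

set_option autoImplicit false

namespace CL.J4.Mx

open Cfsg Subgroup CL.Orb CL.Tr

variable {G : Type*} [Group G] [Finite G] {q e c : ℕ}

/-- Burnside's theorem and a Frattini argument -/
theorem Loc.one_lt' (L : Loc G q e c) {r : ℕ} (hr : r.Prime) (hne : r ≠ q) (h1 : r ∣ Nat.card G)
    (h2 : ¬ r ^ 2 ∣ Nat.card G)
    (h3 : ∀ w : G, orderOf w = r → ¬ q ∣ Nat.card (normalizer (zpowers w : Set G))) : 1 < e := by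
  have := Fact.mk L.pr
  have := Fact.mk hr
  obtain ⟨S, h4, h5, h6⟩ := L.sylow
  have h7 : e ≠ 0 := by rintro rfl; exact Nat.card_pos.ne' h6
  have h8 : e ≠ 1 := by
    rintro rfl
    obtain ⟨M, _, k⟩ : ∃ M : Subgroup G, M.Normal ∧ Nat.card M * Nat.card S = Nat.card G :=
      ⟨_, MonoidHom.normal_ker _, (MonoidHom.ker_transferSylow_isComplement' S (eq_of_le_of_card_ge
        (centralizer_le_normalizer _) (h6.trans ((mul_one _).trans h5.symm)).le).ge).card_mul⟩
    rw [h4] at k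
    obtain ⟨w, w1, w2⟩ := exists_orderOf (K := M) hr
      (((Nat.coprime_primes hr L.pr).2 hne).dvd_of_dvd_mul_right (k ▸ h1))
    have k2 := (show NK M ⊤ q from ⟨le_top, (normalizer_eq_top M).ge, k.trans card_top.symm⟩).frat
      (IsPGroup.of_card (p := r) (n := 1) (by rw [Nat.card_zpowers, w2, pow_one])) (zpowers_le.2 w1)
      fun e => h2 (Dvd.dvd.trans (by
        rw [← card_mul_relIndex_of_le (zpowers_le.2 w1), Nat.card_zpowers, w2, pow_two]
        exact Nat.mul_dvd_mul_left _ e) (card_subgroup_dvd_card M))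
    rw [inf_top_eq] at k2
    exact h3 w w2 (Dvd.intro _ k2.symm)
  omega

theorem nk_self (K : Subgroup G) : NK K K 1 := ⟨le_rfl, le_normalizer, mul_one _⟩

/-- necessary conditions on the order of a proper subgroup -/
noncomputable def okK (m : ℕ) : Bool :=
  al (fun x => !once m x.1 || anD x.2.1 fun e => (Nat.blt x.1 23 || Nat.blt 1 e &&
    (Nat.beq x.1 23 || Nat.beq x.1 31 || !Nat.beq e x.2.1)) &&
      anD x.2.2.1 fun c => syl m x.1 (x.1 * c * e)) TB &&
    bif Nat.beq (m % 1331) 0 then anD 240 fun u => syl m 1331 (1331 * u)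
    else !Nat.beq (m % 121) 0 || anD 20 fun u => syl m 121 (121 * u)

/-- the possible indices -/
noncomputable def sieve (a : ℕ) (L : List ℕ) : Bool :=
  !anD (oG / a) fun i => okK (a * i) && !an (Nat.beq i) L

theorem TB_facts' : ∀ t ∈ TB, 23 ≤ t.1 → t.1 ≠ 11 ∧ t.1 ≠ 5 ∧ ¬ t.1 ∣ 5 * 1344 * 4 ∧ t.2.2.1 = 1 ∧
    (t.1 ≠ 23 → t.1 ≠ 31 → t.1 ∈ [29, 37, 43] ∧ ¬ 5 ∣ t.1 * 1 * t.2.1) := by decide +kernel

namespace GD

variable {z c₀ : G} {Q U K : Subgroup G} (g : GD z Q c₀ U)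
include g

theorem one_lt {r f d : ℕ} (L : Loc K q e c) (L' : Loc G r f d) (hne : r ≠ q) (h : r ∣ Nat.card K)
    (h' : ¬ q ∣ r * d * f) : 1 < e :=
  L.one_lt' L'.pr hne h (fun k => L'.sq (k.trans (card_subgroup_dvd_card K))) fun w hw k =>
    h' (L'.norm w ((orderOf_coe w).trans hw) ▸ (card_norm_sub w ▸ k).trans
      (card_dvd_of_le inf_le_left))

theorem okK_of (hK : K ≠ ⊤) (h5 : 5 ∣ Nat.card K) : okK (Nat.card K) = true := by
  have h := nk_self K
  simp only [okK, Bool.and_eq_true, al_eq, List.all_eq_true, Bool.or_eq_true, Bool.not_eq_true',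
    Bool.cond_eq_ite, or_iff_not_imp_left, Bool.not_eq_false]
  refine ⟨fun t ht h1 => ?_, ?_⟩
  · obtain ⟨k1, k0, -⟩ := TB_facts t ht
    simp only [once, Bool.and_eq_true, Nat.beq_eq, Bool.not_eq_true', beq_false] at h1
    obtain ⟨e, c, he, L⟩ := exists_loc (N := K) k1 k0
      (fun k => h1.2 (Nat.mod_eq_zero_of_dvd (sq t.1 ▸ k))) (Nat.dvd_of_mod_eq_zero h1.1)
    obtain ⟨b1, b2, -⟩ := g.bounds h (by decide) ht he L
    obtain ⟨⟨y, hy⟩, oy⟩ := L.exists_y
    rw [orderOf_mk] at oy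
    obtain ⟨-, h3, -⟩ := h.loc L hy oy
    have h4 := (h3 ▸ card_dvd_of_le inf_le_right).trans (g.dvd_oG h)
    refine anD_of b1 ((dvd_mul_left _ _).trans h4) ?_
    rw [anD_of (f := fun c => syl _ t.1 (t.1 * c * e)) b2
      ((dvd_mul_left _ _).trans ((dvd_mul_right _ _).trans h4)) L.syl]
    simp only [Bool.and_true, Bool.and_eq_true, Bool.or_eq_true, Bool.not_eq_true', beq_false,
      Nat.blt_eq, Nat.beq_eq, or_iff_not_imp_left, not_lt, not_forall]
    intro h6
    obtain ⟨a1, a2, a3, a4, a5⟩ := TB_facts' t ht h6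
    refine ⟨g.one_lt L (g.loc (5, 4, 1344, 5376) (by decide) (by decide)) a2.symm h5 a3,
      fun ⟨a6, a7⟩ a8 => ?_⟩
    have h7 := (g.loc t ht a1).norm y oy
    rw [a4] at b2 h7
    rw [Nat.dvd_one.1 b2, a8, ← h7] at h3
    rcases (g.bigx (a5 a6 a7).1 oy).le_iff.1 (inf_eq_left.1 (eq_of_le_of_card_ge inf_le_left h3.ge))
      with k | k
    exacts [hK k, (a5 a6 a7).2 (h7 ▸ k ▸ h5)]
  split_ifs with h1
  · obtain ⟨u, R, k1, k2, k3, k4, k5, k6⟩ := g.eleven h (k := 3)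
      (Nat.dvd_of_mod_eq_zero (Nat.eq_of_beq_eq_true h1))
      fun e => absurd (e.trans (g.dvd_oG h)) (by decide)
    refine anD_of (Nat.dvd_of_mul_dvd_mul_left (show 0 < 1331 by decide) (((one_mul _).symm.dvd.trans k4).trans
      (g.norm_dvd (IsPGroup.of_card k1) (by rintro rfl; simp at k1)))) k3 ?_
    simp only [syl, Bool.and_eq_true, Nat.beq_eq]
    exact ⟨k5, k6⟩
  · simp only [Bool.or_eq_true, Bool.not_eq_true', beq_false, or_iff_not_imp_left, not_not]
    intro h2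
    obtain ⟨u, R, k1, k2, k3, k4, k5, k6⟩ := g.eleven h (k := 2) (Nat.dvd_of_mod_eq_zero h2)
      fun e => h1 (Nat.beq_eq ▸ Nat.mod_eq_zero_of_dvd e)
    refine anD_of (dvd_of_eleven (k := 1) k2 (Nat.dvd_of_mul_dvd_mul_left (show 0 < 121 by decide)
      (((one_mul _).symm.dvd.trans k4).trans (g.norm121 k1)))) k3 ?_
    simp only [syl, Bool.and_eq_true, Nat.beq_eq]
    exact ⟨k5, k6⟩

theorem coatom {X : Subgroup G} {a : ℕ} (hX : Nat.card X = a) (h1 : a ≠ oG) (h5 : 5 ∣ a)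
    {L : List ℕ} (hL : sieve a (1 :: L) = true)
    (h : ∀ K : Subgroup G, X ≤ K → ∀ i ∈ L, Nat.card K ≠ a * i) : IsCoatom X := by
  refine ⟨fun e => h1 (by rw [← hX, e, card_top, g.card]), fun K hK => by_contra fun hK' => ?_⟩
  obtain ⟨i, hi⟩ := hX ▸ card_dvd_of_le hK.le
  have h2 : a * i ∣ oG := hi ▸ g.card ▸ card_subgroup_dvd_card K
  rw [sieve, Bool.not_eq_true', Bool.eq_false_iff] at hL
  refine hL (anD_of (Nat.dvd_div_of_mul_dvd h2) ((dvd_mul_left _ _).trans h2) ?_)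
  rw [← hi, g.okK_of hK' (hi ▸ h5.mul_right i)]
  simp only [Bool.true_and, Bool.not_eq_true', an_eq, List.any_eq_false, Nat.beq_eq, List.mem_cons]
  rintro _ (rfl | k) rfl
  · exact hK.ne (eq_of_le_of_card_ge hK.le (by rw [hi, hX, mul_one]))
  · exact h K hK.le i k hi

end GD

theorem sieveH : sieve (2 ^ 21 * 3 ^ 3 * 5 * 7 * 11) [1, 23] = true := by decide +kernel

theorem sieveM : sieve (2 ^ 11 * 244823040) [1] = true := by decide +kernel

theorem sieveA : sieve (2 ^ 10 * 9999360) [1, 2, 33, 4237359621] = true := by decide +kernel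

theorem sieveL : sieve (2 ^ 15 * (120 * 168)) [1, 3, 11, 31, 33, 667, 759] = true := by
  decide +kernel

theorem sieveU : sieve (1331 * 240) [1, 222, 444, 14336, 28672, 43008, 57344, 86016, 114688, 172032,
    229376, 249984, 344064, 688128, 76382208, 152764416, 152993792, 101817483264,
    135824522674176] = true := by decide +kernel

end CL.J4.Mx
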