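import Cfsg.Agent.SPOR.J4.MxSnd
import Cfsg.Agent.SPOR.J4.Fus
import Cfsg.Agent.S5563
import Cfsg.Agent.S5565
import Cfsg.Agent.S5566
import Cfsg.Agent.S5567
import Cfsg.Agent.S5572
import Cfsg.Agent.S5577

/-!
The local data of a group of Janko-four type that are used for the maximality proofs.
-/

set_option autoImplicit false

namespace CL.J4.Mx

open Cfsg Subgroup CL.Orb CL.Golay CL.CG CL.F2M CL.LX CL.MAut MulAction
open CL.F24 (W GL12 A12 C12)

variable {G : Type*} [Group G]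

/-- the local data -/
structure GD (z : G) (Q : Subgroup G) (c : G) (U : Subgroup G) : Prop extends LX Q z where
  card : Nat.card G = oG
  loc : ∀ x ∈ TB, x.1 ≠ 11 → Loc G x.1 x.2.1 x.2.2.1
  w : ∀ y w : G, orderOf y = 5 → orderOf w = 7 → w * y = y * w →
    Nat.card (normalizer (zpowers w : Set G) ⊓ centralizer {y} : Subgroup G) ∣ 105
  cH : Nat.card (centralizer ({z} : Set G)) = 2 ^ 21 * 3 ^ 3 * 5 * 7 * 11
  cQ : Nat.card Q = 2 ^ 13
  stab : ∀ y ∈ Q, y * y = z → ∀ X ≤ centralizer ({z} : Set G),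
    (∀ g ∈ X, g * y * g⁻¹ = y ∨ g * y * g⁻¹ = y * z) →
      Nat.card X ∣ Nat.card (X ⊓ Q : Subgroup G) * 1320
  perf : ∃ R ≤ centralizer ({z} : Set G), ⁅R, R⁆ = R ∧ 27 ∣ Nat.card R
  n3 : ∀ R : Sylow 3 G, Nat.card (normalizer ((R : Subgroup G) : Set G)) = 864
  vee : ∀ T : Subgroup G, IsPGroup 2 T → ∃ V : Subgroup G, T ≤ normalizer (V : Set G) ∧
    IsElementaryAbelian 2 V ∧ Nat.card V = 2 ^ 11 ∧ IsPGroup 2 (T ⊔ V : Subgroup G)
  self : ∀ V : Subgroup G, IsElementaryAbelian 2 V → Nat.card V = 2 ^ 11 →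
    centralizer (V : Set G) ≤ V
  oc : orderOf c = 11
  cz : c * z = z * c
  cK : Nat.card (centralizer ({z, c} : Set G)) = 264
  cN : Nat.card (centralizer ({z} : Set G) ⊓ normalizer (zpowers c : Set G) : Subgroup G) = 2640
  uniq : ∀ y ∈ centralizer ({z, c} : Set G), orderOf y = 2 → y = z
  sl : ∀ D ≤ centralizer ({z, c} : Set G), Nat.card D ≠ 132
  cU : Nat.card U = 1331
  cm : c ∈ U
  Ule : U ≤ centralizer {c}
  NU : normalizer (U : Set G) = normalizer (zpowers c : Set G)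
  cNc : Nat.card (normalizer (zpowers c : Set G)) = 1331 * 240
  cCc : Nat.card (centralizer ({c} : Set G)) = 1331 * 24
  cls : ∀ w : G, w ≠ 1 → IsPGroup 11 (zpowers w) → orderOf w = 11 ∧
    (IsConj w c ∨ Nat.card (centralizer ({w} : Set G)) ∣ 242)
  nB : ∀ x ∈ U, x ∉ zpowers c → Nat.card (centralizer ({x} : Set G)) ∣ 242

variable [Finite G] {z : G} {V : Subgroup G} {θ : Finset GolayPt → G} {χ : M24 →* G}

theorem stab_of {Q : Subgroup G} {κ : G → W} {ρ : centralizer ({z} : Set G) →* GL12}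
    {μ : centralizer ({z} : Set G) →* Pm} {x : G} (S : HS z Q κ ρ μ x) {y : G} (hy : y ∈ Q)
    (h : y * y = z) {X : Subgroup G} (hX : X ≤ centralizer ({z} : Set G))
    (h1 : ∀ g ∈ X, g * y * g⁻¹ = y ∨ g * y * g⁻¹ = y * z) :
    Nat.card X ∣ Nat.card (X ⊓ Q : Subgroup G) * 1320 := by
  have h2 := S.card_H
  have h3 := CL.card_eq_orbit_mul ρ.range (κ y)
  have h4 : S2016.testBit (vcode (κ y)) = true := by
    rcases vec_cases (vcode_lt (κ y)) with ⟨e, -⟩ | ⟨-, e⟩
    · rw [qC_code, ZMod.val_eq_zero, ← S.sq_iff hy, h] at e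
      exact absurd e S.lx.z_ne
    · exact e
  rw [S.card_cent] at h2
  rw [show (orbit ρ.range (κ y)).ncard = 2016 by
    rw [S.range_eq, orbit_eq_iff.2 ((orb2016 _).2 h4)]
    exact (A12.orbit_eq C12 top_LG (b := 65) (S := S2016) (by norm_num) (by decide +kernel)).1] at h3
  have h5 := card_map_mul_card_inf_ker (X.subgroupOf (centralizer {z})) ρ
  rw [S.ker_eq, show X.subgroupOf (centralizer {z}) ⊓ Q.subgroupOf (centralizer {z}) =
    (X ⊓ Q).subgroupOf (centralizer {z}) from rfl, card_subgroupOf_of_le hX,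
    card_subgroupOf_of_le (inf_le_left.trans hX)] at h5
  rw [← h5, mul_comm, show 1320 = Nat.card ↥(ρ.range ⊓ stabilizer GL12 (κ y)) by omega]
  refine Nat.mul_dvd_mul_left _ (card_dvd_of_le ?_)
  rintro _ ⟨g, hg, rfl⟩
  refine ⟨⟨g, rfl⟩, mem_stabilizer_iff.2 ?_⟩
  rw [← S.κ_conj g y hy]
  rcases h1 g hg with e | e <;> rw [e]
  exact S.κ_mul_z hy

theorem w_of (h : JS z V θ χ) (y w : G) (hy : orderOf y = 5) (hw : orderOf w = 7)
    (e : w * y = y * w) :
    Nat.card (normalizer (zpowers w : Set G) ⊓ centralizer {y} : Subgroup G) ∣ 105 := by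
  obtain ⟨ι, Z, μ, φ, σ, ν, f, P, hσ⟩ := h.exists_pen7 (S := zpowers w) (by rw [Nat.card_zpowers, hw])
  have h1 : centralizer {w} = P.F7.range := by
    rw [← cent_zpowers, hσ, cent_zpowers, (P.seven_aux h).1]
  obtain ⟨⟨a, π⟩, rfl⟩ := h1.le (mem_centralizer_singleton_iff.2 e.symm)
  rw [orderOf_injective _ P.F7_inj] at hy
  have h2 : Nat.card (centralizer {w} ⊓ centralizer {P.F7 (a, π)} : Subgroup G) ∣ 35 := by
    have h3 : π ^ 5 = 1 := congrArg Prod.snd (hy ▸ pow_orderOf_eq_one (a, π))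
    have h4 : π ≠ 1 := by
      rintro rfl
      have := orderOf_dvd_natCard a
      rw [Prod.orderOf_mk, orderOf_one, Nat.lcm_one_right] at hy
      rw [hy, Nat.card_zpowers, P.σ_ord] at this
      exact absurd this (by decide)
    have h5 : Nat.card (centralizer ({π} : Set S5)) = 5 := by
      rw [card_cent_eq]
      exact (by decide +kernel : ∀ π : S5, π ^ 5 = 1 → π ≠ 1 →
        (Finset.univ.filter fun x => x * π = π * x).card = 5) π h3 h4
    refine (card_dvd_of_le (K := ((⊤ : Subgroup (zpowers σ)).prod (centralizer {π})).map P.F7)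
      fun x hx => ?_).trans (dvd_of_eq ?_)
    · obtain ⟨⟨b, τ⟩, rfl⟩ := h1.le hx.1
      have := mem_centralizer_singleton_iff.1 hx.2
      rw [← map_mul, ← map_mul] at this
      exact ⟨_, ⟨trivial, mem_centralizer_singleton_iff.2 (congrArg Prod.snd (P.F7_inj this))⟩, rfl⟩
    · rw [card_map_of_injective P.F7_inj, Nat.card_congr (Subgroup.prodEquiv _ _).toEquiv, Nat.card_prod,
        card_top, Nat.card_zpowers, P.σ_ord, h5]
  have h3 : (centralizer {w}).relIndex (normalizer (zpowers w : Set G)) = 3 := by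
    have := CL.Small.card_centralizer_mul_relIndex (zpowers w)
    rw [cent_zpowers, hσ, P.card_norm7 h, ← cent_zpowers (σ : G), ← hσ, cent_zpowers, mul_comm] at this
    exact Nat.eq_of_mul_eq_mul_right Nat.card_pos this
  rw [← card_inf_mul_relIndex (centralizer {w}) (_ ⊓ _), show 105 = 35 * 3 from rfl, ← h3]
  refine Nat.mul_dvd_mul ((card_dvd_of_le (inf_le_inf_left _ inf_le_right)).trans h2) ?_
  have : ((centralizer {w}).subgroupOf (normalizer (zpowers w : Set G))).Normal := by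
    rw [← cent_zpowers]; infer_instance
  rw [← relIndex_subgroupOf (inf_le_left : _ ⊓ _ ≤ normalizer (zpowers w : Set G))]
  exact relIndex_dvd_index_of_normal _ _

theorem loc_of (h : JS z V θ χ) {q e c : ℕ} (h1 : q.Prime) (h2 : q ≠ 2) (h3 : ¬ q ^ 2 ∣ oG)
    (h4 : q ∣ oG) (h5 : ∃ y : G, orderOf y = q ∧ Nat.card (centralizer ({y} : Set G)) = q * c ∧
      Nat.card (normalizer (zpowers y : Set G)) = q * c * e) : Loc G q e c := by
  obtain ⟨e', c', -, L⟩ := exists_loc (N := G) h1 h2 (h.card_G ▸ h3) (h.card_G ▸ h4)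
  obtain ⟨y, hy, k1, k2⟩ := h5
  obtain rfl : c' = c := Nat.eq_of_mul_eq_mul_left h1.pos ((L.cent y hy).symm.trans k1)
  obtain rfl : e' = e := Nat.eq_of_mul_eq_mul_left (mul_pos h1.pos L.c_pos)
    ((L.norm y hy).symm.trans k2)
  exact L

theorem sl_of {c : G} {φ : GL (Fin 2) (ZMod 3) →* G} (e : Ele z c φ) {D : Subgroup G}
    (hD : D ≤ centralizer ({z, c} : Set G)) : Nat.card D ≠ 132 := fun h => by
  have h1 : D.relIndex (centralizer ({z, c} : Set G)) = 2 := by
    have := card_mul_relIndex_of_le hD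
    rw [h, e.cK] at this
    omega
  have h2 : ∀ k, Ele.ψ φ (k * k) ∈ D := fun k =>
    map_mul (Ele.ψ φ) k k ▸ mul_self_mem_of_index_two h1 (⟨_, e.ψ_mem k⟩ : centralizer ({z, c} : Set G))
  have h3 : (Ele.ψ φ).range ≤ D := by
    rintro _ ⟨k, rfl⟩
    obtain ⟨a, b, rfl⟩ := (by decide +kernel : ∀ k : SL23, ∃ a b : SL23, k = a * a * (b * b)) k
    rw [map_mul]
    exact mul_mem (h2 a) (h2 b)
  have h4 := card_dvd_of_le h3
  rw [h, ← Nat.card_congr (MonoidHom.ofInjective e.ψ_inj).toEquiv, Nat.card_eq_fintype_card,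
    show Fintype.card SL23 = 24 by decide +kernel] at h4
  exact absurd h4 (by decide)

theorem exists_gd [IsSimpleGroup G] (hG : ¬ IsMulCommutative G) (hJ : IsOfJankoFourTypeAt z) :
    ∃ Q c U, GD z Q c U := by
  obtain ⟨P, hP⟩ := hJ
  obtain ⟨κ, ρ, μ, x, S, rfl⟩ := exists_hs hP
  obtain ⟨V, θ, χ, h⟩ := S.exists_js
  obtain ⟨c, φ, e⟩ := h.exists_ele
  have : Fact (Nat.Prime 11) := ⟨by decide⟩
  obtain ⟨O, o1, o2, o3, o4, o5⟩ := e.exists_O h
  obtain ⟨U, n1, c1, k1⟩ := e.sylow h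
  have hO : O = U := eq_of_le_of_card_ge (by
    have := (IsPGroup.of_card o1).inf_normalizer_sylow U
    refine le_trans (le_inf le_rfl ?_) (this.le.trans inf_le_right)
    exact o3.trans (le_trans (cent_zpowers c ▸ centralizer_le_normalizer _) n1.ge)) (by rw [o1, (e.noncomm h U).1])
  have ex : ∀ q : ℕ, q.Prime → q ∣ oG → ∃ y : G, orderOf y = q := fun q hq h' =>
    have := Fact.mk hq
    exists_prime_orderOf_dvd_card' q (h.card_G ▸ h')
  have kB : ∀ w : G, IsConj w (χ (toM P11)) → Nat.card (centralizer ({w} : Set G)) ∣ 242 :=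
    fun w hw => CL.Small.card_centralizer_eq_of_isConj hw ▸ e.card_Cu h
  refine ⟨_, c, O, S.lx, h.card_G, fun x hx h11 => ?_, w_of h, h.card_H, S.card,
    fun y hy h1 X => stab_of S hy h1, ?_, fun R => ?_, fun T hT => ?_,
    fun V h1 h2 => (Cfsg.Agent.S5567.result hG ⟨z, _, hP⟩ V h1 h2).1, e.ord, e.cz, e.cK, e.cN, e.uniq,
    fun D => sl_of e, o1, o2, o3, hO ▸ n1, c1, o5.trans rfl, fun w h1 h2 => ?_, fun x hx h1 => ?_⟩
  · obtain ⟨a, ha⟩ := ex 23 (by decide) (by decide)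
    obtain ⟨b, hb⟩ := ex 29 (by decide) (by decide)
    obtain ⟨c, hc⟩ := ex 31 (by decide) (by decide)
    obtain ⟨d, hd⟩ := ex 37 (by decide) (by decide)
    obtain ⟨f, hf⟩ := ex 43 (by decide) (by decide)
    obtain ⟨g, hg⟩ := ex 5 (by decide) (by decide)
    obtain ⟨k, hk⟩ := ex 7 (by decide) (by decide)
    obtain ⟨k1, k2, k3, k4, k5⟩ := h.big ha hb hc hd hf
    simp only [TB, List.mem_cons, List.not_mem_nil, or_false] at hx
    rcases hx with rfl | rfl | rfl | rfl | rfl | rfl | rfl | rfl <;> first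
      | exact absurd rfl h11
      | refine loc_of h (by decide) (by decide) (by decide) (by decide) ?_
    exacts [⟨f, hf, k5⟩, ⟨d, hd, k4⟩, ⟨c, hc, k3⟩, ⟨b, hb, k2⟩, ⟨a, ha, k1⟩,
      ⟨k, hk, h.cent_seven hk, by
        obtain ⟨ι, Z, μ, φ, σ, ν, f, P, hσ⟩ := h.exists_pen7 (S := zpowers k)
          (by rw [Nat.card_zpowers, hk])
        rw [hσ, P.card_norm7 h, P.card_cent7 h]; rfl⟩,
      ⟨g, hg, h.cent_five hg, by
        obtain ⟨a, ha, oa⟩ := exists_orderOf (K := centralizer {z}) (p := 5) (by decide)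
          (by rw [h.card_H]; decide)
        rw [card_norm_congr (by decide) (by rw [h.card_G]; decide) hg oa]
        exact (Cfsg.Agent.S5572.result hG z ⟨_, hP⟩ _ (by rw [Nat.card_zpowers, oa])
          (zpowers_le.2 ha)).2.2.2⟩]
  · obtain ⟨k1, -, -, -, k2⟩ := Cfsg.Agent.S5563.result hG z _ hP
    refine ⟨_, inf_le_left, k1, ?_⟩
    rw [inf_eq_right.2 ((centralizer_le_normalizer _).trans k2), cent_zpowers, h.three x S.orderOf_x]
    decide
  · obtain ⟨R', hR⟩ := Sylow.exists_subgroup_card_pow_prime (G := centralizer ({z} : Set G)) 3 (n := 3)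
      (by rw [h.card_H]; decide)
    rw [← card_map_of_injective (subtype_injective _)] at hR
    refine Nat.eq_of_mul_eq_mul_left (Nat.card_pos (α := Sylow 3 G))
      ((CL.Small.card_sylow_mul_card_normalizer R).trans ?_)
    rw [← (Cfsg.Agent.S5565.result hG z ⟨_, hP⟩ ((IsPGroup.of_card hR).toSylow fun e' => by
      have := (R'.map (Subgroup.subtype _)).index_mul_card
      rw [hR, h.card_G] at this
      omega) (map_subtype_le R')).2.2.2.2, CL.Small.card_sylow_mul_card_normalizer]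
  · obtain ⟨T', hT'⟩ := hT.exists_le_sylow
    obtain ⟨V, ⟨h1, h2, h3⟩, h4⟩ := Cfsg.Agent.S5566.result hG ⟨z, _, hP⟩ T'
    refine ⟨V, fun g hg => CL.Tr.mem_normalizer_of_map_conj_eq (h4 _ ⟨?_, ?_, ?_⟩), h2, h3,
      T'.2.to_le (sup_le hT' h1)⟩
    · exact (CL.Tr.map_conj_le_iff _ _ _).2 fun x hx =>
        mul_mem (mul_mem (hT' hg) (h1 hx)) (inv_mem (hT' hg))
    · exact elemAb_map _ h2
    · rw [CL.Tr.card_map_conj, h3]
  · have := e.classes h h1 h2
    refine ⟨?_, this.imp_right (kB w)⟩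
    rcases this with k | k <;> rw [← CL.Small.orderOf_eq_of_isConj k]
    exacts [e.ord, h.u_ord]
  · obtain ⟨Q, hQ⟩ := (IsPGroup.of_card (p := 11) (G := zpowers (χ (toM P11))) (n := 1)
      (by rw [Nat.card_zpowers, h.u_ord]; rfl)).exists_le_sylow
    obtain ⟨g, rfl⟩ := MulAction.exists_smul_eq G U Q
    obtain ⟨y, hy, e'⟩ := hQ (mem_zpowers _)
    have c3 := kB y (isConj_iff.2 ⟨g, e'⟩)
    have y1 : y ∉ zpowers c := fun hy' => by
      have := card_dvd_of_le (show O ≤ centralizer {y} from fun a ha => by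
        obtain ⟨n, rfl⟩ := hy'
        exact mem_centralizer_singleton_iff.2
          (Commute.zpow_right (mem_centralizer_singleton_iff.1 (o3 ha)) n))
      exact absurd (o1 ▸ this.trans c3) (by decide)
    have c2 := card_eq_orbit_mul (normalizer (zpowers c : Set G)) y
    have c4 := (card_le_of_le (inf_le_right : normalizer (zpowers c : Set G) ⊓ centralizer {y} ≤ _)).trans
      (Nat.le_of_dvd (by decide) c3)
    obtain ⟨n, -, rfl⟩ : x ∈ {v | ∃ n ∈ normalizer (zpowers c : Set G), n * y * n⁻¹ = v} := by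
      refine (Set.eq_of_subset_of_ncard_le (t := (O : Set G) \ zpowers c) (by
        rintro _ ⟨n, hn, rfl⟩
        exact ⟨(o4 hn y).1 (hO ▸ hy), fun e => y1 ((hn y).2 e)⟩) (by
          rw [Set.ncard_sdiff (zpowers_le.2 o2), ← Nat.card_coe_set_eq, ← Nat.card_coe_set_eq,
            SetLike.coe_sort_coe, SetLike.coe_sort_coe, o1, Nat.card_zpowers, e.ord]
          have := c1 ▸ c2.trans_le (Nat.mul_le_mul_left _ c4)
          omega)).ge ⟨hx, h1⟩
    rwa [CL.Small.card_centralizer_eq_of_isConj (isConj_iff.2 ⟨n, rfl⟩)]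

end CL.J4.Mx
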