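import Cfsg.Agent.SPOR.J4.MxG
import Cfsg.Agent.INV.SmallTI
import Cfsg.Agent.S0015

/-!
General lemmas and the Sylow 11-subgroups.
-/

set_option autoImplicit false

namespace CL.J4.Mx

open Cfsg Subgroup CL.Orb CL.Tr
open scoped commutatorElement

variable {G : Type*} [Group G] [Finite G]

/-- conjugate subgroup -/
abbrev cj (a : G) (A : Subgroup G) : Subgroup G := A.map (MulAut.conj a).toMonoidHom

omit [Finite G] in
theorem cj_mem {a x : G} {A : Subgroup G} : a * x * a⁻¹ ∈ cj a A ↔ x ∈ A := by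
  rw [mem_map_conj_iff, show a⁻¹ * (a * x * a⁻¹) * a = x by group]

omit [Finite G] in
theorem card_dvd_of_conj {A B : Subgroup G} (a : G) (h : ∀ x ∈ A, a * x * a⁻¹ ∈ B) :
    Nat.card A ∣ Nat.card B := card_map_conj A a ▸ card_dvd_of_le ((map_conj_le_iff _ _ _).2 h)

omit [Finite G] in
theorem card_cent_cj (a x : G) (N : Subgroup G) :
    Nat.card (centralizer {a * x * a⁻¹} ⊓ cj a N : Subgroup G) =
      Nat.card (centralizer {x} ⊓ N : Subgroup G) := by
  rw [← card_map_conj (_ ⊓ N) a, map_inf _ _ _ (MulAut.conj a).injective,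
    show centralizer {a * x * a⁻¹} = cj a (centralizer {x}) from Subgroup.ext fun y => ?_]
  rw [mem_map_conj_iff, mem_centralizer_singleton_iff, mem_centralizer_singleton_iff,
    ← comm_conj_iff (g := a) (x := a⁻¹ * y * a), show a * (a⁻¹ * y * a) * a⁻¹ = y by group]

omit [Finite G] in
theorem card_norm_cj (a : G) (S N : Subgroup G) :
    Nat.card (normalizer (cj a S : Set G) ⊓ cj a N : Subgroup G) =
      Nat.card (normalizer (S : Set G) ⊓ N : Subgroup G) := by
  rw [← card_map_conj (_ ⊓ N) a, map_inf _ _ _ (MulAut.conj a).injective, map_conj_normalizer]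

omit [Finite G] in
theorem cj_zpowers (a x : G) : cj a (zpowers x) = zpowers (a * x * a⁻¹) := MonoidHom.map_zpowers _ _

/-- Frattini argument -/
theorem frat {p : ℕ} [Fact p.Prime] {S N K : Subgroup G} (hS : IsPGroup p S) (h1 : S ≤ N)
    (h2 : ¬ p ∣ S.relIndex N) (h3 : N ≤ K) (h4 : K ≤ normalizer (N : Set G)) :
    Nat.card (normalizer (S : Set G) ⊓ K : Subgroup G) * Nat.card N =
      Nat.card K * Nat.card (normalizer (S : Set G) ⊓ N : Subgroup G) := by
  rw [← card_sup_mul_card_inf_of_le_normalizer (inf_le_right.trans h4), inf_assoc, inf_eq_right.2 h3,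
    le_antisymm (sup_le inf_le_right h3) fun g hg => ?_]
  obtain ⟨n, hn, h⟩ := frattini_argument hS h1 h2 (h4 hg)
  rw [show g = n⁻¹ * (n * g) by group]
  exact mul_mem (mem_sup_right (inv_mem hn)) (mem_sup_left ⟨h, mul_mem (h3 hn) hg⟩)

theorem fix_dvd {u : G} {p : ℕ} (hp : p.Prime) (hu : orderOf u = p) {Y : Subgroup G}
    (h : u ∈ normalizer (Y : Set G)) :
    p ∣ Nat.card Y - Nat.card (Y ⊓ centralizer {u} : Subgroup G) := by
  rw [← hu, ← Nat.card_zpowers]
  refine free_dvd inf_le_left (zpowers_le.2 h) (le_normalizer_inf (zpowers_le.2 h)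
    (le_trans (zpowers_le.2 (mem_centralizer_singleton_iff.2 rfl)) le_normalizer))
    fun s hs h1 x hx e => ⟨hx, mem_centralizer_singleton_iff.2 ?_⟩
  exact comm_of_mem_zpowers hp hu hs h1 e.symm

omit [Finite G] in
theorem mem_of_relIndex_dvd_two {D C : Subgroup G} (h : D.relIndex C ∣ 2) {g : G} (hg : g ∈ C)
    (ho : Odd (orderOf g)) : g ∈ D := by
  rcases (Nat.dvd_prime Nat.prime_two).1 h with h | h
  · exact relIndex_eq_one.1 h hg
  · obtain ⟨k, hk⟩ := ho
    have := mul_self_mem_of_index_two h (⟨g ^ (k + 1), pow_mem hg _⟩ : C)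
    rwa [mem_subgroupOf, coe_mul, ← pow_add, show k + 1 + (k + 1) = orderOf g + 1 by omega, pow_succ,
      pow_orderOf_eq_one, one_mul] at this

theorem dvd_ncard {A : Subgroup G} {n : ℕ} {S : Set G} (h1 : ∀ a ∈ A, ∀ x ∈ S, a * x * a⁻¹ ∈ S)
    (h2 : ∀ x ∈ S, n ∣ {v | ∃ a ∈ A, a * x * a⁻¹ = v}.ncard) : n ∣ S.ncard := by
  induction hk : S.ncard using Nat.strong_induction_on generalizing S with
  | _ k ih =>
    rcases S.eq_empty_or_nonempty with rfl | ⟨x, hx⟩
    · simp [← hk]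
    have h3 : {v | ∃ a ∈ A, a * x * a⁻¹ = v} ⊆ S := by
      rintro _ ⟨a, ha, rfl⟩
      exact h1 a ha x hx
    have h4 := Set.ncard_sdiff_add_ncard_of_subset h3
    have h5 := (Set.ncard_pos (s := {v | ∃ a ∈ A, a * x * a⁻¹ = v})).2 ⟨x, 1, one_mem _, by simp⟩
    rw [← hk, ← h4]
    refine dvd_add (ih _ (by omega) (S := S \ {v | ∃ a ∈ A, a * x * a⁻¹ = v})
      (fun a ha y hy => ⟨h1 a ha y hy.1, fun ⟨b, hb, e⟩ => hy.2
        ⟨a⁻¹ * b, mul_mem (inv_mem ha) hb, ?_⟩⟩) (fun y hy => h2 y hy.1) rfl) (h2 x hx)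
    rw [conj_mul_conj, e]
    group

theorem perf_le {R X : Subgroup G} (hR : ⁅R, R⁆ = R) (h : X.index = 3) : R ≤ X := by
  classical
  have e : G ⧸ X ≃ Fin 3 := Finite.equivFinOfCardEq h
  let φ := e.permCongrHom.toMonoidHom.comp (MulAction.toPermHom G (G ⧸ X))
  have h1 : ∀ r ∈ R, Equiv.Perm.sign (φ r) = 1 := fun r hr =>
    commutator_le.2 (show ∀ a ∈ R, ∀ b ∈ R, ⁅a, b⁆ ∈ (Equiv.Perm.sign.comp φ).ker from
      fun a _ b _ => by
        rw [MonoidHom.mem_ker, map_commutatorElement, commutatorElement_eq_one_iff_commute]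
        exact mul_comm _ _) (hR.ge hr)
  have h2 : R ≤ φ.ker := hR.ge.trans (commutator_le.2 fun a ha b hb => by
    rw [MonoidHom.mem_ker, map_commutatorElement]
    exact (by decide : ∀ a b : Equiv.Perm (Fin 3), Equiv.Perm.sign a = 1 → Equiv.Perm.sign b = 1 →
      ⁅a, b⁆ = 1) _ _ (h1 a ha) (h1 b hb))
  refine le_trans (fun r hr => ?_) (normalCore_le X)
  rw [normalCore_eq_ker]
  exact e.permCongrHom.injective ((h2 hr).trans (map_one _).symm)

omit [Finite G] in
theorem card_norm_map {N : Subgroup G} (R : Subgroup N) : Nat.card (normalizer (R : Set N)) =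
    Nat.card (normalizer (R.map N.subtype : Set G) ⊓ N : Subgroup G) := by
  rw [← card_subgroupOf_eq, subgroupOf_normalizer_eq (map_subtype_le R), subgroupOf,
    comap_map_eq_self_of_injective (subtype_injective N)]

theorem two_pow_of_dvd {n k : ℕ} (h : n ∣ 2 ^ k) : ∃ i ≤ k, n = 2 ^ i :=
  (Nat.dvd_prime_pow Nat.prime_two).1 h

namespace GD

variable {z c : G} {Q U : Subgroup G} (g : GD z Q c U)
include g

omit [Finite G] in
theorem oz : orderOf z = 2 := orderOf_eq_prime (by rw [sq, g.z_sq]) g.z_ne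

omit [Finite G] in
theorem pU : IsPGroup 11 U := IsPGroup.of_card (n := 3) g.cU

omit [Finite G] in
theorem pQ : IsPGroup 2 Q := IsPGroup.of_card g.cQ

theorem Hn : centralizer {z} ≤ normalizer (Q : Set G) := fun a ha =>
  mem_normalizer_of_conj_mem (g.norm a (mem_centralizer_singleton_iff.1 ha))

theorem conjU {R : Subgroup G} (hR : IsPGroup 11 R) : ∃ a : G, ∀ x ∈ R, a * x * a⁻¹ ∈ U :=
  have : Fact (Nat.Prime 11) := ⟨by decide⟩
  exists_conj_le_sylow (g.pU.toSylow fun e => by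
    have := U.index_mul_card
    rw [g.cU, g.card, oG] at this
    omega) hR

omit [Finite G] in
theorem memA {x : G} (hx : x ∈ U) (h : 1331 ∣ Nat.card (centralizer ({x} : Set G))) :
    x ∈ zpowers c := by
  by_contra k
  exact absurd (h.trans (g.nB x hx k)) (by decide)

theorem normU {x a : G} (hx : x ∈ U) (h1 : x ≠ 1) (h : a * x * a⁻¹ ∈ U) :
    a ∈ normalizer (zpowers c : Set G) := by
  have : Fact (Nat.Prime 11) := ⟨by decide⟩
  have k : ∀ y : G, Nat.card (centralizer ({a * y * a⁻¹} : Set G)) = Nat.card (centralizer {y}) :=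
    fun y => CL.Small.card_centralizer_eq_of_isConj (isConj_iff.2 ⟨a, rfl⟩)
  have kc : ∀ y ∈ zpowers c, U ≤ centralizer {y} := by
    rintro _ ⟨n, rfl⟩ u hu
    exact mem_centralizer_singleton_iff.2
      (Commute.zpow_right (mem_centralizer_singleton_iff.1 (g.Ule hu)) n)
  refine mem_normalizer_zpowers_iff.2 (g.memA ?_ (by rw [k, g.cCc]; decide))
  by_cases h2 : x ∈ zpowers c
  · obtain ⟨n, rfl⟩ := (CL.Small.eq_zpowers_of_card_prime
      (by rw [Nat.card_zpowers, g.oc]) h2 h1).le (mem_zpowers c)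
    rw [← conj_zpow]
    exact zpow_mem h n
  have h3 : a * x * a⁻¹ ∉ zpowers c := fun e =>
    h2 (g.memA hx (by rw [← k, ← g.cU]; exact card_dvd_of_le (kc _ e)))
  refine (mem_of_relIndex_dvd_two (D := U) (C := centralizer {a * x * a⁻¹}) ?_
    (mem_centralizer_singleton_iff.2 (comm_conj_iff.2
      (mem_centralizer_singleton_iff.1 (g.Ule hx)).symm)) (by
      rw [CL.Small.orderOf_conj', g.oc]; decide))
  have h4 := card_inf_mul_relIndex U (centralizer {a * x * a⁻¹})
  have h5 : zpowers c < U ⊓ centralizer {a * x * a⁻¹} := lt_of_le_not_ge (zpowers_le.2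
    ⟨g.cm, mem_centralizer_singleton_iff.2 (mem_centralizer_singleton_iff.1 (g.Ule h)).symm⟩)
    fun e => h3 (e ⟨h, mem_centralizer_singleton_iff.2 rfl⟩)
  have h6 := CL.card_lt_of_lt h5
  obtain ⟨i, hi, h7⟩ := (Nat.dvd_prime_pow (by decide : Nat.Prime 11)).1
    ((card_dvd_of_le inf_le_left).trans (show Nat.card U ∣ 11 ^ 3 from g.cU.dvd) :
      Nat.card (U ⊓ centralizer {a * x * a⁻¹} : Subgroup G) ∣ _)
  have h8 := h4 ▸ g.nB _ h h3
  rw [Nat.card_zpowers, g.oc, h7] at h6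
  rw [h7] at h8
  interval_cases i
  · omega
  · omega
  · exact Nat.dvd_of_mul_dvd_mul_left (by decide) h8
  · exact absurd ((dvd_mul_right _ _).trans h8) (by decide)

theorem normU' {x a : G} (hx : x ∈ U) (h1 : x ≠ 1) (h : a * x * a⁻¹ ∈ U) {y : G} (hy : y ∈ U) :
    a * y * a⁻¹ ∈ U := conj_mem_of_mem_normalizer (g.NU.ge (g.normU hx h1 h)) hy

/-- Sylow's theorem for a subgroup with trivially intersecting Sylow subgroups -/
theorem count [Fact (Nat.Prime 11)] {N : Subgroup G} (P : Sylow 11 N) :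
    Nat.card N / Nat.card (normalizer ((P : Subgroup N).map N.subtype : Set G) ⊓ N : Subgroup G) ≡ 1
      [MOD Nat.card P] := by
  rw [← card_norm_map, ← CL.Small.card_sylow_mul_card_normalizer P,
    Nat.mul_div_cancel _ Nat.card_pos]
  refine CL.Small.card_sylow_modEq_of_TI P fun R hR => eq_bot_iff.2 fun x hx => by_contra fun h1 => hR ?_
  obtain ⟨n, rfl⟩ := MulAction.exists_smul_eq N P R
  obtain ⟨a, ha⟩ := g.conjU (P.2.map N.subtype)
  have h2 := fun y hy => g.normU' (y := y) (a := a * n * a⁻¹)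
    (ha _ ⟨_, (mem_coe_smul_sylow_iff P n x).1 hx.2, rfl⟩)
    (fun e => h1 (Subtype.ext (by simpa [mul_assoc, inv_mul_eq_one, mul_eq_one_iff_eq_inv] using e)))
    (by convert ha _ ⟨x, hx.1, rfl⟩ using 1; simp [mul_assoc]) hy
  have h3 : IsPGroup 11 ((U.comap (MulAut.conj a).toMonoidHom).subgroupOf N) :=
    (g.pU.comap_of_injective _ (MulAut.conj a).injective).comap_subtype
  refine (CL.Small.sylow_eq_of_le (le_trans (fun y hy => ?_) (P.3 h3 fun y hy => ha _ ⟨y, hy, rfl⟩).le))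
  have := h2 _ (ha _ ⟨_, (mem_coe_smul_sylow_iff P n y).1 hy, rfl⟩)
  show a * y * a⁻¹ ∈ U
  convert this using 1
  simp [mul_assoc]

theorem norm_le {R : Subgroup G} (h : R ≤ U) (h1 : R ≠ ⊥) :
    normalizer (R : Set G) ≤ normalizer (zpowers c : Set G) := fun _ ha =>
  let ⟨⟨_, hx⟩, h2⟩ := ne_bot_iff_exists_ne_one.1 h1
  g.normU (h hx) (fun e => h2 (Subtype.ext e)) (h (conj_mem_of_mem_normalizer ha hx))

theorem norm_dvd {R : Subgroup G} (h : IsPGroup 11 R) (h1 : R ≠ ⊥) :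
    Nat.card (normalizer (R : Set G)) ∣ 1331 * 240 := by
  obtain ⟨a, ha⟩ := g.conjU h
  rw [← card_map_conj _ a, map_conj_normalizer, ← g.cNc]
  exact card_dvd_of_le (g.norm_le ((map_conj_le_iff _ _ _).2 ha)
    (by rwa [Ne, map_eq_bot_iff_of_injective _ (MulAut.conj a).injective]))

theorem norm121 {R : Subgroup G} (h : Nat.card R = 11 ^ 2) :
    Nat.card (normalizer (R : Set G)) ∣ 121 * 220 := by
  have : Fact (Nat.Prime 11) := ⟨by decide⟩
  wlog hR : R ≤ U generalizing R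
  · obtain ⟨a, ha⟩ := g.conjU (IsPGroup.of_card h)
    rw [← card_map_conj _ a, map_conj_normalizer]
    exact this ((card_map_conj _ _).trans h) ((map_conj_le_iff _ _ _).2 ha)
  have h0 : R ≠ ⊥ := by rintro rfl; simp at h
  have h1 : c ∈ R := by
    by_contra k
    have h2 := card_sup_of_disjoint (H := R) (K := zpowers c) (hR.trans (g.Ule.trans
      (cent_zpowers c ▸ centralizer_le_normalizer _))) (eq_bot_iff.2 fun x hx => by_contra fun e =>
        k (zpowers_le.2 hx.1 ((CL.Small.eq_zpowers_of_card_prime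
          (by rw [Nat.card_zpowers, g.oc]) hx.2 e).le (mem_zpowers c))))
    obtain ⟨⟨x, hx⟩, h3⟩ := ne_bot_iff_exists_ne_one.1 h0
    rw [h, Nat.card_zpowers, g.oc] at h2
    refine k (zpowers_le.2 hx ((CL.Small.eq_zpowers_of_card_prime (by rw [Nat.card_zpowers, g.oc])
      (g.memA (hR hx) (h2.symm.dvd.trans (card_dvd_of_le (sup_le (fun y hy => ?_) (zpowers_le.2 ?_)))))
      fun e => h3 (Subtype.ext e)).le (mem_zpowers c)))
    · exact mem_centralizer_singleton_iff.2 (congrArg Subtype.val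
        ((IsPGroup.isMulCommutative_of_card_eq_prime_sq h).1.1 ⟨y, hy⟩ ⟨x, hx⟩))
    · exact mem_centralizer_singleton_iff.2 (mem_centralizer_singleton_iff.1 (g.Ule (hR hx))).symm
  have h2 := dvd_ncard (A := normalizer (R : Set G)) (S := (R : Set G) \ zpowers c)
    (n := Nat.card (normalizer (R : Set G)) / Nat.gcd (Nat.card (normalizer (R : Set G))) 242)
    (fun a ha x hx => ⟨(ha x).1 hx.1, fun e => hx.2 ((g.norm_le hR h0 ha x).2 e)⟩) fun x hx =>
      (Nat.div_dvd_iff_dvd_mul (Nat.gcd_dvd_left _ _) (Nat.gcd_pos_of_pos_right _ (by decide))).2 (by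
        conv_lhs => rw [card_eq_orbit_mul (normalizer (R : Set G)) x, mul_comm]
        exact Nat.mul_dvd_mul_right (Nat.dvd_gcd (card_dvd_of_le inf_le_left)
          ((card_dvd_of_le inf_le_right).trans (g.nB x (hR hx.1) hx.2))) _)
  rw [Set.ncard_sdiff (zpowers_le.2 h1), ← Nat.card_coe_set_eq, ← Nat.card_coe_set_eq,
    SetLike.coe_sort_coe, SetLike.coe_sort_coe, h, Nat.card_zpowers, g.oc] at h2
  rw [← Nat.div_mul_cancel (Nat.gcd_dvd_left (Nat.card (normalizer (R : Set G))) 242)]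
  exact (Nat.mul_dvd_mul h2 (Nat.gcd_dvd_right _ _)).trans (by decide)

omit [Finite G] in
theorem Q8_le : Q ⊓ centralizer {c} ≤ centralizer {z, c} := fun x hx =>
  mem_C2.2 ⟨g.z_comm x hx.1, mem_centralizer_singleton_iff.1 hx.2⟩

theorem Q8 : Nat.card (Q ⊓ centralizer {c} : Subgroup G) = 8 := by
  have h1 := fix_dvd (by decide) g.oc (g.Hn (mem_centralizer_singleton_iff.2 g.cz))
  have h2 : Nat.card (Q ⊓ centralizer {c} : Subgroup G) ∣ 2 ^ 3 := Nat.dvd_gcd
    (g.cQ ▸ card_dvd_of_le inf_le_left) (g.cK ▸ card_dvd_of_le g.Q8_le)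
  obtain ⟨i, hi, h3⟩ := two_pow_of_dvd h2
  rw [g.cQ, h3] at h1
  interval_cases i <;> omega

theorem conjQ {T : Subgroup G} (hT : IsPGroup 2 T) (h : T ≤ centralizer {c}) :
    ∃ a, a * c = c * a ∧ ∀ t ∈ T, a * t * a⁻¹ ∈ Q ⊓ centralizer {c} := by
  obtain ⟨a, h1, h2⟩ := exists_conj_le_sylowIn (g.pQ.to_inf_left (K := centralizer {c})) (fun e => by
    have := card_mul_relIndex_of_le (inf_le_right : Q ⊓ centralizer {c} ≤ _)
    rw [g.Q8, g.cCc] at this
    omega) hT h
  exact ⟨a, mem_centralizer_singleton_iff.1 h1, h2⟩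

omit [Finite G] in
theorem eq_z {y : G} (hy : y ∈ Q ⊓ centralizer {c}) (h : y * y = 1) : y = 1 ∨ y = z :=
  or_iff_not_imp_left.2 fun h1 => g.uniq y (g.Q8_le hy) (orderOf_eq_prime (by rw [sq, h]) h1)

theorem no132 {x : G} (hx : orderOf x = 11) {D : Subgroup G} (h1 : D ≤ centralizer {x}) :
    Nat.card D ≠ 132 := fun h => by
  rcases (g.cls x (by rintro rfl; simp at hx) (IsPGroup.of_card (n := 1)
    (by rw [Nat.card_zpowers, hx]; rfl))).2 with k | k
  swap
  · exact absurd (h ▸ (card_dvd_of_le h1).trans k) (by decide)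
  obtain ⟨a, rfl⟩ := isConj_iff.1 k
  have h2 : cj a D ≤ centralizer {a * x * a⁻¹} := (map_conj_le_iff _ _ _).2 fun y hy =>
    mem_centralizer_singleton_iff.2 (comm_conj_iff.2 (mem_centralizer_singleton_iff.1 (h1 hy)))
  replace h : Nat.card (cj a D) = 132 := (card_map_conj D a).trans h
  generalize cj a D = D at h h2
  have h3 := card_sup_mul_card_inf_of_le_normalizer (h2.trans
    (le_trans (cent_zpowers (a * x * a⁻¹) ▸ centralizer_le_normalizer _) g.NU.ge))
  have h4 := card_mul_relIndex_of_le (sup_le h2 g.Ule)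
  have h5 : Nat.card (D ⊓ U : Subgroup G) ∣ 11 :=
    Nat.dvd_gcd (h ▸ card_dvd_of_le inf_le_left) (g.cU ▸ card_dvd_of_le inf_le_right)
  have h6 := card_inf_mul_relIndex (D ⊔ U) (centralizer {z, a * x * a⁻¹})
  have h7 := g.sl _ (inf_le_right : (D ⊔ U) ⊓ _ ≤ _)
  have h8 := card_dvd_of_le (inf_le_left : (D ⊔ U) ⊓ centralizer {z, a * x * a⁻¹} ≤ _)
  rw [h, g.cU] at h3
  rw [g.cCc] at h4
  rw [g.cK] at h6
  rcases (Nat.dvd_prime (by decide)).1 h5 with e | e <;> rw [e] at h3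
  · have := g.cCc ▸ card_le_of_le (sup_le h2 g.Ule)
    omega
  have h10 : Nat.card (D ⊔ U : Subgroup G) = 15972 := by omega
  rw [h10] at h4 h8
  have h9 := relIndex_le_of_le_right (H := D ⊔ U) (fun y hy => mem_centralizer_singleton_iff.2
    (mem_C2.1 hy).2 : centralizer {z, a * x * a⁻¹} ≤ centralizer {a * x * a⁻¹}) (by omega)
  rw [show (D ⊔ U).relIndex (centralizer {a * x * a⁻¹}) = 2 by omega] at h9
  generalize (D ⊔ U).relIndex (centralizer {z, a * x * a⁻¹}) = i at h6 h9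
  generalize Nat.card ((D ⊔ U) ⊓ centralizer {z, a * x * a⁻¹} : Subgroup G) = n at h6 h7 h8
  interval_cases i
  · omega
  · obtain rfl : n = 264 := by omega
    omega
  · omega

theorem big2 {T : Subgroup G} (hT : IsPGroup 2 T) (h : Nat.card T = 2 ^ 21) {w : G} (hw : w ∈ T)
    (h2 : w * w = 1) : 64 < Nat.card (centralizer {w} ⊓ T : Subgroup G) := by
  obtain ⟨V, h3, h4, h5, h6⟩ := g.vee T hT
  have h7 : V ≤ T := le_sup_right.trans (le_of_sylowIn_le (H := ⊤) (fun e => by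
    have := T.index_mul_card
    rw [relIndex_top_right] at e
    rw [h, g.card, oG] at this
    omega) h6 le_sup_left le_top)
  have hc : ∀ a ∈ V, ∀ b ∈ V, a * b = b * a := fun a ha b hb =>
    congrArg Subtype.val (h4.1.1.1 ⟨a, ha⟩ ⟨b, hb⟩)
  by_cases hV : w ∈ V
  · refine lt_of_lt_of_le (by rw [h5]; decide) (card_le_of_le (H := V) (le_inf (fun a ha => ?_) h7))
    exact mem_centralizer_singleton_iff.2 (hc a ha w hV)
  have hi : ∀ a ∈ V, a⁻¹ = a := fun a ha => inv_eq_of_mul_eq_one_left (by rw [← sq, h4.2 a ha])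
  have hn := fun a ha => conj_mem_of_mem_normalizer (x := a) (h3 hw) ha
  let f : V →* G := MonoidHom.mk' (fun a => w * a * w⁻¹ * a) fun a b => by
    rw [coe_mul, conj_mul.symm, mul_assoc (w * a * w⁻¹) (a : G), ← mul_assoc (a : G) (w * b * w⁻¹),
      hc a a.2 _ (hn b b.2)]
    simp only [mul_assoc]
  have h8 := card_range_mul_ker f
  have h9 : Nat.card f.ker = Nat.card (V ⊓ centralizer {w} : Subgroup G) := by
    rw [inf_comm, ← card_subgroupOf_eq]
    congr 2
    ext a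
    rw [MonoidHom.mem_ker, mem_subgroupOf, mem_centralizer_singleton_iff]
    exact mul_eq_one_iff_eq_inv.trans (by rw [hi a a.2, mul_inv_eq_iff_eq_mul, eq_comm])
  have h10 : f.range ≤ V ⊓ centralizer {w} := by
    rintro _ ⟨a, rfl⟩
    refine ⟨mul_mem (hn a a.2) a.2, mem_centralizer_singleton_iff.2 ?_⟩
    show w * a * w⁻¹ * a * w = w * (w * a * w⁻¹ * a)
    conv_rhs => rw [hc _ (hn a a.2) a a.2]
    rw [inv_eq_of_mul_eq_one_left h2]
    simp only [mul_assoc]
  have h11 := card_le_of_le h10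
  have h12 := CL.card_lt_of_lt (show V ⊓ centralizer {w} < centralizer {w} ⊓ T from lt_of_le_not_ge
    (le_inf inf_le_right (inf_le_left.trans h7))
    fun e => hV (e ⟨mem_centralizer_singleton_iff.2 rfl, hw⟩).1)
  obtain ⟨i, -, h13⟩ := two_pow_of_dvd
    (h5 ▸ card_dvd_of_le inf_le_left : Nat.card (V ⊓ centralizer {w} : Subgroup G) ∣ _)
  rw [h9, h5] at h8
  refine lt_of_le_of_lt ?_ h12
  rw [h13] at h8 h11 ⊢
  by_contra k
  have : i < 6 := (Nat.pow_lt_pow_iff_right one_lt_two).1 (not_le.1 k)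
  interval_cases i <;> omega

end GD

end CL.J4.Mx
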