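import Cfsg.Agent.SPOR.J4.MxSpec

/-!
A simple normal subgroup of a proper subgroup satisfies the hypotheses of the checker.
-/

set_option autoImplicit false

namespace CL.J4.Mx

open Cfsg Subgroup CL.Orb CL.Tr CL.Char CL.LX CL.D1

variable {G : Type*} [Group G] [Finite G] {q e c j P : ℕ}

omit [Finite G] in
theorem card_cent_sub {F : Subgroup G} (w : F) : Nat.card (centralizer ({w} : Set F)) =
    Nat.card (centralizer {(w : G)} ⊓ F : Subgroup G) := by
  rw [← card_subgroupOf_eq]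
  congr 2
  ext y
  simp only [mem_centralizer_singleton_iff, mem_subgroupOf, Subtype.ext_iff, coe_mul]

theorem relIndex_cent {y : G} {K : Subgroup G} {a : ℕ}
    (h1 : Nat.card (centralizer {y} ⊓ K : Subgroup G) = a)
    (h2 : Nat.card (normalizer (zpowers y : Set G) ⊓ K : Subgroup G) = a * e) :
    (centralizer {y}).relIndex (normalizer (zpowers y : Set G) ⊓ K) = e := by
  have h := card_inf_mul_relIndex (centralizer {y}) (normalizer (zpowers y : Set G) ⊓ K)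
  rw [← inf_assoc, inf_eq_left.2 (show centralizer {y} ≤ normalizer (zpowers y : Set G) from
    cent_zpowers y ▸ centralizer_le_normalizer _), h2, ← h1] at h
  exact Nat.eq_of_mul_eq_mul_left Nat.card_pos h

theorem Loc.one_lt [IsSimpleGroup G] (hG : ¬ IsMulCommutative G) (L : Loc G q e c) : 1 < e := by
  have := Fact.mk L.pr
  obtain ⟨S, -, h2, h3⟩ := L.sylow
  have h4 : e ≠ 0 := by rintro rfl; exact Nat.card_pos.ne' h3
  have h5 : e ≠ 1 := by
    rintro rfl
    exact absurd (eq_of_le_of_card_ge (centralizer_le_normalizer _) (by rw [h2, h3, mul_one])).ge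
      (CL.Small.not_normalizer_le_centralizer hG S L.dvd)
  omega

theorem Loc.eight [IsSimpleGroup G] (L : Loc G q e c) (h : 4 ∣ e) : 8 ∣ Nat.card G := by
  by_contra h8
  obtain ⟨y, hy⟩ := L.exists_y
  have h1 : Nat.card (zpowers y).normalizerMonoidHom.range = e :=
    Nat.eq_of_mul_eq_mul_right (Nat.card_pos (α := centralizer ({y} : Set G))) (by
      rw [L.cent y hy, mul_comm e, ← L.norm y hy, ← L.cent y hy,
        ← card_range_mul_ker (zpowers y).normalizerMonoidHom, normalizerMonoidHom_ker,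
        Nat.card_congr (subgroupOfEquivOfLe (centralizer_le_normalizer _)).toEquiv, cent_zpowers])
  have : IsCyclic (MulAut (zpowers y)) := by
    have := ZMod.isCyclic_units_prime (p := Nat.card (zpowers y))
      (by rw [Nat.card_zpowers, hy]; exact L.pr)
    exact isCyclic_of_surjective _ (IsCyclic.mulAutMulEquiv (zpowers y)).symm.surjective
  obtain ⟨⟨_, a, rfl⟩, ha⟩ := IsCyclic.exists_ofOrder_eq_natCard
    (α := (zpowers y).normalizerMonoidHom.range)
  replace ha : orderOf ((zpowers y).normalizerMonoidHom a) = e := (orderOf_coe _).trans (ha.trans h1)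
  have h3 := orderOf_pow_orderOf_div (orderOf_pos (a : G)).ne'
    (h.trans (ha ▸ (orderOf_map_dvd _ _).trans (orderOf_coe a).symm.dvd))
  obtain ⟨K, hK, -, h4⟩ := exists_index_four (Y := (⊥ : Subgroup G)) (by rwa [index_bot])
    (mem_bot.2 (h3 ▸ pow_orderOf_eq_one _))
    fun e => absurd (h3 ▸ orderOf_dvd_of_pow_eq_one (mem_bot.1 e)) (by decide)
  rcases hK.eq_bot_or_eq_top with rfl | rfl
  · rw [index_bot] at h4
    exact L.odd ((Nat.prime_dvd_prime_iff_eq L.pr Nat.prime_two).1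
      (L.pr.dvd_of_dvd_pow (n := 2) (L.dvd.trans h4.dvd)))
  · simp at h4

/-- a normal subgroup of index `j` -/
structure NK (N K : Subgroup G) (j : ℕ) : Prop where
  le : N ≤ K
  nm : K ≤ normalizer (N : Set G)
  idx : Nat.card N * j = Nat.card K

variable {N K : Subgroup G}

theorem NK.frat (h : NK N K j) {p : ℕ} [Fact p.Prime] {S : Subgroup G} (hS : IsPGroup p S)
    (h1 : S ≤ N) (h2 : ¬ p ∣ S.relIndex N) : Nat.card (normalizer (S : Set G) ⊓ K : Subgroup G) =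
      j * Nat.card (normalizer (S : Set G) ⊓ N : Subgroup G) :=
  Nat.eq_of_mul_eq_mul_right (Nat.card_pos (α := N))
    ((Mx.frat hS h1 h2 h.le h.nm).trans (by rw [← h.idx]; ring))

theorem NK.loc (h : NK N K j) (L : Loc N q e c) {y : G} (hy : y ∈ N) (ho : orderOf y = q) :
    Nat.card (centralizer {y} ⊓ N : Subgroup G) = q * c ∧
      Nat.card (normalizer (zpowers y : Set G) ⊓ N : Subgroup G) = q * c * e ∧
      Nat.card (normalizer (zpowers y : Set G) ⊓ K : Subgroup G) = j * (q * c * e) := by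
  have := Fact.mk L.pr
  have h1 := (card_norm_sub (⟨y, hy⟩ : N)).symm.trans (L.norm _ ((orderOf_mk _ _).trans ho))
  refine ⟨(card_cent_sub (⟨y, hy⟩ : N)).symm.trans (L.cent _ ((orderOf_mk _ _).trans ho)), h1,
    h1 ▸ h.frat (IsPGroup.of_card (n := 1) (by rw [Nat.card_zpowers, ho, pow_one]))
      (zpowers_le.2 hy) fun k => L.sq ?_⟩
  rw [← card_mul_relIndex_of_le (zpowers_le.2 hy), Nat.card_zpowers, ho, sq]
  exact Nat.mul_dvd_mul_left _ k

theorem TB_facts : ∀ t ∈ TB, t.1.Prime ∧ t.1 ≠ 2 ∧ t.2.2.2 = t.2.2.1 * t.2.1 ∧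
    (t.1 = 11 → t = (11, 10, 24, 240)) ∧ (29 ≤ t.1 → t.2.2.1 = 1) := by decide +kernel

theorem dvd_of_eleven {a b k : ℕ} (h : ¬ 11 ∣ a) (h' : a ∣ 11 ^ k * b) : a ∣ b :=
  (Nat.Coprime.pow_right k ((Nat.Prime.coprime_iff_not_dvd (by decide)).2 h).symm).dvd_of_dvd_mul_left h'

namespace GD

variable {z c₀ : G} {Q U : Subgroup G} (g : GD z Q c₀ U) (h : NK N K j)
include g h

theorem bounds (hj : ¬ 11 ∣ j) {t : ℕ × ℕ × ℕ × ℕ} (ht : t ∈ TB) (he : e ∣ t.1 - 1)
    (L : Loc N t.1 e c) : e ∣ t.2.1 ∧ c ∣ t.2.2.1 ∧ j * c * e ∣ t.2.2.2 := by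
  obtain ⟨k1, -, k2, k3, -⟩ := TB_facts t ht
  obtain ⟨⟨y, hy⟩, ho⟩ := L.exists_y
  rw [orderOf_mk] at ho
  obtain ⟨h1, h2, h3⟩ := h.loc L hy ho
  have h4 := h1 ▸ card_dvd_of_le (inf_le_left : centralizer {y} ⊓ N ≤ _)
  have h5 := h3 ▸ card_dvd_of_le (inf_le_left : normalizer (zpowers y : Set G) ⊓ K ≤ _)
  rw [show j * (t.1 * c * e) = t.1 * (j * c * e) by ring] at h5
  by_cases h6 : t.1 = 11
  · obtain rfl := k3 h6
    have h7 : IsPGroup 11 (zpowers y) := IsPGroup.of_card (n := 1) (by rw [Nat.card_zpowers, ho]; rfl)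
    have h0 : y ≠ 1 := by rintro rfl; simp at ho
    have h8 : c ∣ 24 := dvd_of_eleven (k := 2) (fun k => L.sq ((Nat.mul_dvd_mul_left 11 k).trans
      (h1 ▸ card_dvd_of_le inf_le_right))) (Nat.dvd_of_mul_dvd_mul_left (by decide) (h4.trans
        (show _ ∣ 11 * (11 ^ 2 * 24) from (g.cls y h0 h7).2.elim (fun k => by
          rw [← CL.Small.card_centralizer_eq_of_isConj k, g.cCc]; decide) fun k => k.trans (by decide))))
    refine ⟨he, h8, dvd_of_eleven (k := 2) (fun k => ?_) (Nat.dvd_of_mul_dvd_mul_left (by decide)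
      (h5.trans (g.norm_dvd h7 (zpowers_ne_bot.2 h0))))⟩
    rcases (Nat.Prime.dvd_mul (by decide)).1 k with k | k
    · exact ((Nat.Prime.dvd_mul (by decide)).1 k).elim hj fun k => absurd (k.trans h8) (by decide)
    · exact absurd (k.trans he) (by decide)
  have L' := g.loc t ht h6
  rw [L'.cent y ho] at h4
  rw [L'.norm y ho, mul_assoc _ t.2.2.1, ← k2] at h5
  refine ⟨?_, Nat.dvd_of_mul_dvd_mul_left k1.pos h4, Nat.dvd_of_mul_dvd_mul_left k1.pos h5⟩
  rw [← relIndex_cent h1 h2, ← relIndex_cent (K := ⊤) (y := y) (e := t.2.1)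
    (by rw [inf_top_eq, L'.cent y ho]) (by rw [inf_top_eq, L'.norm y ho]), inf_top_eq]
  exact relIndex_cent_dvd y N

theorem dvd_oG : Nat.card N ∣ oG := g.card ▸ card_subgroup_dvd_card N

theorem opt [IsSimpleGroup N] (hN : ¬ IsMulCommutative N) (hj : ¬ 11 ∣ j) (hP : 29 ≤ P) {x : G}
    (hx : x ∈ N) (ho : orderOf x = P) (hK : normalizer (zpowers x : Set G) ≤ K)
    {t : ℕ × ℕ × ℕ × ℕ} (ht : t ∈ TB) (h1 : once (Nat.card N) t.1 = true) :
    ∃ e c, (t.1, e, c) ∈ ob (Nat.card N) j P t ∧ 1 < e ∧ Loc N t.1 e c ∧ c ∣ t.2.2.1 := by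
  obtain ⟨k1, k0, k2, k3, k4⟩ := TB_facts t ht
  simp only [once, Bool.and_eq_true, Nat.beq_eq, Bool.not_eq_true', beq_false] at h1
  obtain ⟨e, c, he, L⟩ := exists_loc (N := N) k1 k0
    (fun k => h1.2 (Nat.mod_eq_zero_of_dvd (sq t.1 ▸ k))) (Nat.dvd_of_mod_eq_zero h1.1)
  obtain ⟨b1, b2, b3⟩ := g.bounds h hj ht he L
  obtain ⟨⟨y, hy⟩, oy⟩ := L.exists_y
  rw [orderOf_mk] at oy
  obtain ⟨h2, h3, -⟩ := h.loc L hy oy
  have h4 := (h3 ▸ card_dvd_of_le inf_le_right).trans (g.dvd_oG h)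
  refine ⟨e, c, mem_fmD b1 ((dvd_mul_left _ _).trans h4) ?_, L.one_lt hN, L, b2⟩
  rw [Bool.cond_eq_ite, if_pos]
  · refine mem_fmD b2 ((dvd_mul_left _ _).trans ((dvd_mul_right _ _).trans h4)) (mem_ite1.2 ⟨?_, rfl⟩)
    simp only [Bool.and_eq_true, Nat.beq_eq, Bool.not_eq_true', ← Bool.not_eq_true, Bool.or_eq_true]
    refine ⟨⟨Nat.mod_eq_zero_of_dvd b3, L.syl⟩, fun ⟨a1, a2⟩ => ?_⟩
    rw [a1] at oy h2 h3
    rcases a2 with rfl | ⟨⟨a2, rfl⟩, rfl⟩
    exacts [g.no132 oy inf_le_left h2, g.f37 a2 hy oy h2 h3]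
  simp only [Bool.and_eq_true, Nat.beq_eq, Bool.not_eq_true', Bool.or_eq_true, beq_false,
    Nat.blt_eq]
  refine ⟨⟨L.one_lt hN, or_iff_not_imp_left.2 fun a1 => ?_⟩, or_iff_not_imp_right.2 fun a1 =>
    Nat.mod_eq_zero_of_dvd (L.eight (Nat.dvd_of_mod_eq_zero (not_not.1 a1)))⟩
  obtain rfl := not_not.1 a1
  have h5 := (h.loc L hx ho).2.2
  rw [k4 hP] at b2 k2
  rw [inf_eq_left.2 hK, (g.loc t ht (by omega)).norm x ho, k4 hP, Nat.dvd_one.1 b2] at h5
  exact Nat.eq_of_mul_eq_mul_left k1.pos (by rw [k2]; linarith)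

theorem deg [IsSimpleGroup N] (χ : IrrCharacter N) (hχ : χ ≠ irrOne N) :
    lo (Nat.card N) j ≤ charDegree χ.1 := by
  rw [lo, Bool.cond_eq_ite]
  split_ifs with h1
  swap
  · exact Nat.zero_le _
  simp only [Bool.and_eq_true, Nat.beq_eq] at h1
  obtain ⟨T, t1, t2⟩ := exists_le_card (p := 2) (n := 21) (K := K)
    (h.idx ▸ Nat.dvd_of_mod_eq_zero h1.2)
  obtain ⟨a, ha⟩ := exists_conj_le_sylow ((IsPGroup.of_card t2).toSylow fun e => by
    have := T.index_mul_card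
    rw [t2, g.card, oG] at this
    omega) g.pQ
  have h2 : cj a Q ≤ K := le_trans ((map_conj_le_iff _ _ _).2 ha) t1
  have h3 : Nat.card (cj a Q) = 2 ^ 13 := (card_map_conj _ _).trans g.cQ
  refine deg32 (g.toLX.conj a) h3 ?_ χ.2.isCharacter fun n hn => mem_bot.1
    ((χ.2.charKer_eq_bot_of_simple fun e => hχ (Subtype.ext e)) ▸ χ.2.mem_charKer.2 hn)
  have := normal_subgroupOf_of_le_normalizer h.nm
  have h4 : N.relIndex (cj a Q) ∣ j := by
    rw [← relIndex_subgroupOf h2, Nat.eq_of_mul_eq_mul_left Nat.card_pos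
      (h.idx.trans (card_mul_relIndex_of_le h.le).symm)]
    exact relIndex_dvd_index_of_normal _ _
  obtain ⟨i, -, h5⟩ := two_pow_of_dvd (h3 ▸ relIndex_dvd_card N (cj a Q))
  rw [h5] at h4 ⊢
  rcases i with _ | _ | i
  · decide
  · decide
  · exact absurd ((Nat.mul_dvd_mul (Nat.dvd_of_mod_eq_zero h1.1) ((pow_dvd_pow 2 (by omega : 2 ≤ _)).trans
      h4)).trans (h.idx ▸ g.card ▸ card_subgroup_dvd_card K)) (by decide)

omit h in
theorem wN (y w : N) (hy : orderOf y = 5) (hw : orderOf w = 7) (e : w * y = y * w) :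
    Nat.card (normalizer (zpowers w : Set N) ⊓ centralizer {y} : Subgroup N) ∣ 105 := by
  rw [← card_map_of_injective (subtype_injective N)]
  refine (card_dvd_of_le ?_).trans (g.w y w ((orderOf_coe y).trans hy) ((orderOf_coe w).trans hw)
    (congrArg Subtype.val e))
  rintro _ ⟨a, ha, rfl⟩
  exact ⟨(mem_norm_subgroupOf a).1 ha.1, mem_centralizer_singleton_iff.2
    (congrArg Subtype.val (mem_centralizer_singleton_iff.1 ha.2))⟩

theorem eleven {k : ℕ} (h1 : 11 ^ k ∣ Nat.card N) (h2 : ¬ 11 ^ (k + 1) ∣ Nat.card N) :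
    ∃ (u : ℕ) (R : Subgroup G), Nat.card R = 11 ^ k ∧ ¬ 11 ∣ u ∧ u ∣ oG ∧
      j * (11 ^ k * u) ∣ Nat.card (normalizer (R : Set G)) ∧ Nat.card N % (11 ^ k * u) = 0 ∧
        Nat.card N / (11 ^ k * u) ≡ 1 [MOD 11 ^ k] := by
  have : Fact (Nat.Prime 11) := ⟨by decide⟩
  obtain ⟨S, hS⟩ := Sylow.exists_subgroup_card_pow_prime 11 h1
  have h3 : ¬ 11 ∣ S.index := fun e => h2 (by
    rw [← S.index_mul_card, hS, pow_succ']; exact Nat.mul_dvd_mul_right e _)
  have h4 := g.count ((IsPGroup.of_card hS).toSylow h3)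
  rw [IsPGroup.toSylow_coe] at h4
  have h5 : Nat.card (S.map N.subtype) = 11 ^ k := (card_map_of_injective (subtype_injective N)).trans hS
  have h6 := h.frat (IsPGroup.of_card h5) (map_subtype_le S) (by
    rwa [relIndex, subgroupOf, comap_map_eq_self_of_injective (subtype_injective N)])
  obtain ⟨u, hu⟩ := card_dvd_of_le (le_inf le_normalizer (map_subtype_le S))
  have h7 := hu ▸ card_dvd_of_le (inf_le_right : normalizer (S.map N.subtype : Set G) ⊓ N ≤ _)
  rw [hu] at h4 h6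
  rw [h5] at h4 h6 h7
  exact ⟨u, _, h5, fun e => h2 ((pow_succ 11 k ▸ Nat.mul_dvd_mul_left _ e).trans h7),
    (dvd_mul_left _ _).trans (h7.trans (g.dvd_oG h)), h6 ▸ card_dvd_of_le inf_le_left,
    Nat.mod_eq_zero_of_dvd h7, hS ▸ h4⟩

theorem okm_of (hj : ¬ 11 ∣ j) (ho : ∀ t ∈ TB, once (Nat.card N) t.1 = true →
    ∃ o, o ∈ ob (Nat.card N) j P t) : okm (Nat.card N) j P = true := by
  simp only [okm, Bool.and_eq_true, al_eq, List.all_eq_true, Bool.or_eq_true, Bool.not_eq_true',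
    beq_false, Bool.cond_eq_ite, or_iff_not_imp_left, Bool.not_eq_false]
  refine ⟨⟨fun t ht k => (ho t ht k).elim fun o k =>
    List.isEmpty_eq_false_iff.2 (List.ne_nil_of_mem k), h.idx ▸ g.i37⟩, ?_⟩
  split_ifs with h1
  · obtain ⟨u, R, k1, k2, k3, k4, k5, k6⟩ := g.eleven h (k := 3)
      (Nat.dvd_of_mod_eq_zero (Nat.eq_of_beq_eq_true h1))
      fun e => absurd (e.trans (g.dvd_oG h)) (by decide)
    have k7 : j * u ∣ 240 := Nat.dvd_of_mul_dvd_mul_left (show 0 < 1331 by decide)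
      (Dvd.dvd.trans (dvd_of_eq (by ring)) (k4.trans (g.norm_dvd (IsPGroup.of_card k1)
        (by rintro rfl; simp at k1))))
    refine anD_of ((dvd_mul_left _ _).trans k7) k3 ?_
    simp only [syl, Bool.and_eq_true, Nat.beq_eq]
    exact ⟨Nat.mod_eq_zero_of_dvd k7, k5, k6⟩
  · simp only [Bool.or_eq_true, Bool.not_eq_true', beq_false, or_iff_not_imp_left, not_not]
    intro h2
    obtain ⟨u, R, k1, k2, k3, k4, k5, k6⟩ := g.eleven h (k := 2) (Nat.dvd_of_mod_eq_zero h2)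
      fun e => h1 (Nat.beq_eq ▸ Nat.mod_eq_zero_of_dvd e)
    have k7 : j * u ∣ 20 := dvd_of_eleven (k := 1)
      (fun e => ((Nat.Prime.dvd_mul (by decide)).1 e).elim hj k2)
      (Nat.dvd_of_mul_dvd_mul_left (show 0 < 121 by decide)
        (Dvd.dvd.trans (dvd_of_eq (by ring)) (k4.trans (g.norm121 k1))))
    refine anD_of ((dvd_mul_left _ _).trans k7) k3 ?_
    simp only [syl, Bool.and_eq_true, Nat.beq_eq]
    exact ⟨Nat.mod_eq_zero_of_dvd k7, k5, k6⟩

end GD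

end CL.J4.Mx
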