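import Cfsg.Agent.SPOR.J4.MxBlk

/-!
Soundness of the checker: local rules and the search.
-/

set_option autoImplicit false

namespace CL.J4.Mx

open Cfsg Subgroup CL.Char CL.D1 CL.Orb
open CL.Blk hiding irrOne irrOne_apply

variable {N : Type*} [Group N] [Finite N] {q e c r f d : ℕ}

theorem card_norm_sub {F : Subgroup N} (w : F) : Nat.card (normalizer (zpowers w : Set F)) =
    Nat.card (normalizer (zpowers (w : N) : Set N) ⊓ F : Subgroup N) := by
  rw [show normalizer (zpowers w : Set F) = (normalizer (zpowers (w : N) : Set N)).subgroupOf F from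
    Subgroup.ext mem_norm_subgroupOf, ← inf_subgroupOf_right,
    Nat.card_congr (subgroupOfEquivOfLe inf_le_right).toEquiv]

theorem cnt_mod (hr : r.Prime) {F : Subgroup N} (hc : ¬ r ^ 2 ∣ Nat.card F) {w : N} (hF : w ∈ F)
    (hw : orderOf w = r) :
    Nat.card F / Nat.card (normalizer (zpowers w : Set N) ⊓ F : Subgroup N) % r = 1 := by
  rw [← card_norm_sub (⟨w, hF⟩ : F)]
  exact index_norm_mod hr hc ((orderOf_mk _ _).trans hw)

theorem gsy_of (hG : Nat.card N ∣ oG) (hr : r.Prime) (hc : ¬ r ^ 2 ∣ Nat.card N) {F : Subgroup N}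
    {w : N} (hF : w ∈ F) (hw : orderOf w = r) {ν μ : ℕ}
    (h1 : Nat.card (normalizer (zpowers w : Set N) ⊓ F : Subgroup N) ∣ ν)
    (h2 : μ ∣ Nat.card (normalizer (zpowers w : Set N) ⊓ F : Subgroup N)) :
    gsy (Nat.card F) r ν μ = true :=
  anD_of (Nat.dvd_gcd (card_dvd_of_le inf_le_right) h1) ((card_subgroup_dvd_card _).trans hG) (by
    rw [Nat.mod_eq_zero_of_dvd h2,
      cnt_mod hr (fun h => hc (h.trans (card_subgroup_dvd_card _))) hF hw]; rfl)

theorem range_dvd {A : Type*} [Group A] (φ : N →* A) (h : ∀ a b : A, a * b = b * a) (hr : r.Prime)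
    (hc : ¬ r ^ 2 ∣ Nat.card N) {w : N} (hw : orderOf w = r) :
    Nat.card φ.range ∣ Nat.card (normalizer (zpowers w : Set N)) := by
  have : Finite φ.range := Finite.of_surjective _ φ.rangeRestrict_surjective
  refine (card_dvd_of_le (H := φ.range) (K := (normalizer (zpowers w : Set N)).map φ) ?_).trans
    (card_map_dvd _ _)
  rintro _ ⟨g, rfl⟩
  obtain ⟨k, ⟨i, hi⟩, j, -, hj⟩ := conj_in (K := (zpowers (φ w)).comap φ) hr
    (fun h => hc (h.trans (card_subgroup_dvd_card _))) (a := w) (b := g * w * g⁻¹)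
    (mem_zpowers _) (by
      rw [mem_comap, map_mul, map_mul, h (φ g), map_inv, mul_inv_cancel_right]
      exact mem_zpowers _) hw ((CL.Small.orderOf_conj' _ _).trans hw)
  refine ⟨(w ^ i)⁻¹ * (k * g), mul_mem (inv_mem (le_normalizer (zpow_mem (mem_zpowers _) i)))
    (Orb.mem_normalizer_zpowers_iff.2 ?_), ?_⟩
  · rw [conj_mul_conj, hj]
    exact pow_mem (mem_zpowers _) j
  · rw [map_mul, map_mul, map_inv, map_zpow, ← hi]
    simp

/-- Frattini argument in the normaliser of a cyclic group -/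
theorem aut_dvd (hr : r.Prime) {y w : N} (hc : ¬ r ^ 2 ∣ Nat.card (normalizer (zpowers y : Set N)))
    (hF : w ∈ normalizer (zpowers y : Set N)) (hw : orderOf w = r)
    (he : Nat.card (normalizer (zpowers y : Set N)) = Nat.card (centralizer ({y} : Set N)) * e) :
    e ∣ Nat.card (normalizer (zpowers w : Set N) ⊓ normalizer (zpowers y : Set N) : Subgroup N) := by
  have h1 : Nat.card (zpowers y).normalizerMonoidHom.range = e :=
    Nat.eq_of_mul_eq_mul_right (Nat.card_pos (α := centralizer ({y} : Set N))) (by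
      rw [mul_comm e, ← he, ← card_range_mul_ker (zpowers y).normalizerMonoidHom,
        normalizerMonoidHom_ker,
        Nat.card_congr (subgroupOfEquivOfLe (centralizer_le_normalizer _)).toEquiv, cent_zpowers])
  rw [← h1, ← card_norm_sub (⟨w, hF⟩ : normalizer (zpowers y : Set N))]
  exact range_dvd _ (fun a b => (IsCyclic.mulAutMulEquiv (zpowers y)).injective
    (by rw [map_mul, map_mul, mul_comm])) hr hc ((orderOf_mk _ _).trans hw)

/-- the hypotheses on the simple group -/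
structure RS (N : Type*) [Group N] (j P : ℕ) : Prop where
  nc : ¬ IsMulCommutative N
  dvd : Nat.card N ∣ oG
  w : ∀ y w : N, orderOf y = 5 → orderOf w = 7 → w * y = y * w →
    Nat.card (normalizer (zpowers w : Set N) ⊓ centralizer {y} : Subgroup N) ∣ 105
  deg : ∀ χ : IrrCharacter N, χ ≠ irrOne N → lo (Nat.card N) j ≤ charDegree χ.1
  opt : ∀ x ∈ TB, once (Nat.card N) x.1 = true →
    ∃ e c, (x.1, e, c) ∈ ob (Nat.card N) j P x ∧ 1 < e ∧ Loc N x.1 e c ∧ c ∣ x.2.2.1

theorem rule1_of {j P : ℕ} (R : RS N j P) {x y : Opt} (hx : Real N x) (hy : Real N y) :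
    rule1 x y = true := by
  obtain ⟨q, e, c⟩ := x
  obtain ⟨r, f, d⟩ := y
  obtain ⟨-, c', L, hc⟩ := hx
  obtain ⟨-, d', L', hd⟩ := hy
  simp only [rule1, Bool.or_eq_true, Nat.beq_eq, or_iff_not_imp_left, Bool.and_eq_true,
    Bool.not_eq_true', beq_false, not_not, not_forall] at *
  intro ⟨⟨hne, h1⟩, h2⟩
  obtain rfl := hc h1
  obtain rfl := hd h2
  obtain ⟨y, hy⟩ := L.exists_y
  refine ⟨fun h => ?_, fun h => ?_⟩
  · obtain ⟨w, hw, ho⟩ := exists_orderOf (K := centralizer {y}) L'.pr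
      (L.cent y hy ▸ (Nat.dvd_of_mod_eq_zero h).mul_left q)
    have h3 := mem_centralizer_singleton_iff.1 hw
    have h4 := dvd_card_cent h3.symm
    rw [hy, L'.cent w ho] at h4
    refine ⟨Nat.mod_eq_zero_of_dvd (((Nat.coprime_primes L.pr L'.pr).2 hne).dvd_of_dvd_mul_left h4),
      L.cent y hy ▸ gsy_of R.dvd L'.pr L'.sq hw ho ?_ (one_dvd _)⟩
    rw [Bool.cond_eq_ite]
    split_ifs with h5
    · simp only [Bool.and_eq_true, Nat.beq_eq] at h5
      exact R.w y w (hy.trans h5.1) (ho.trans h5.2) h3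
    · exact L'.norm w ho ▸ card_dvd_of_le inf_le_left
  · obtain ⟨w, hw, ho⟩ := exists_orderOf (K := normalizer (zpowers y : Set N)) L'.pr
      (by rw [L.norm y hy, mul_assoc]; exact (Nat.dvd_of_mod_eq_zero h).mul_left q)
    exact L.norm y hy ▸ gsy_of R.dvd L'.pr L'.sq hw ho (L'.norm w ho ▸ card_dvd_of_le inf_le_left)
      (aut_dvd L'.pr (fun h => L'.sq (h.trans (card_subgroup_dvd_card _))) hw ho
        (by rw [L.norm y hy, L.cent y hy]))

theorem noqr_of {x y : Opt} (hx : Real N x) (hy : Real N y) (h : noqr x y = true) (g : N)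
    (hg : x.1 ∣ orderOf g) : ¬ y.1 ∣ orderOf g := by
  obtain ⟨-, c', L, hc⟩ := hx
  obtain ⟨-, d', L', hd⟩ := hy
  simp only [noqr, Bool.or_eq_true, Bool.and_eq_true, Bool.not_eq_true', beq_false] at h
  rcases h.2 with h' | h'
  · refine L.no_qr L'.pr h.1.symm (fun k => h' ?_) g hg
    rcases hc with hc | hc <;> simp [hc, Nat.mod_eq_zero_of_dvd k]
  · refine fun k0 => L'.no_qr L.pr h.1 (fun k => h' ?_) g k0 hg
    rcases hd with hd | hd <;> simp [hd, Nat.mod_eq_zero_of_dvd k]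

omit [Finite N] in
theorem noqr_comm (x y : Opt) : noqr x y = noqr y x := by
  rw [noqr, noqr, Bool.or_comm, show Nat.beq x.1 y.1 = Nat.beq y.1 x.1 by
    rw [Bool.eq_iff_iff, Nat.beq_eq, Nat.beq_eq, eq_comm]]

theorem deg_sq_le (χ : IrrCharacter N) : charDegree χ.1 * charDegree χ.1 ≤ Nat.card N := by
  have h1 : ∑ χ : IrrCharacter N, charDegree χ.1 * charDegree χ.1 = Nat.card N := by
    have := sum_degree_sq (G := N)
    simp only [IsIrrCharacter.apply_one_eq_charDegree (Subtype.prop _), sq] at this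
    exact_mod_cast this
  exact h1 ▸ Finset.single_le_sum (f := fun χ : IrrCharacter N => charDegree χ.1 * charDegree χ.1)
    (fun _ _ => Nat.zero_le _) (Finset.mem_univ χ)

variable [IsSimpleGroup N]

theorem unary_of (hN : ¬ IsMulCommutative N) {x y : Opt} (hx : Real N x) (hy : Real N y)
    (h : noqr x y = true) (D : Data N x.1 x.2.1) {a : WL} (ha : (a : Multiset (ℕ × ℤ)) = wD D) :
    unary (Nat.card N) a y = true := by
  classical
  have h0 := noqr_of hx hy h
  obtain ⟨-, c, L, -⟩ := hx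
  obtain ⟨-, d, L', hd⟩ := hy
  have := Fact.mk L.pr
  have := Fact.mk L'.pr
  obtain ⟨D'⟩ := L'.data (CL.Small.commutator_eq_top hN)
  have h1 := pair D D' h0
  have h2 : (0 : ℤ) < D.Y.card := by exact_mod_cast Finset.card_pos.2 D.Y_nonempty
  have h3 : (0 : ℤ) < D'.Y.card := by exact_mod_cast Finset.card_pos.2 D'.Y_nonempty
  obtain ⟨χ, hχ, h4⟩ : ∃ χ ∈ XY D ∩ XY D', wt D χ * wt D' χ < 0 := by
    by_contra k
    push Not at k
    have := Finset.sum_nonneg k
    have := mul_pos h2 h3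
    omega
  rw [Finset.mem_inter] at hχ
  simp only [unary, an_eq, List.any_eq_true, Bool.and_eq_true]
  refine ⟨(charDegree χ.1, wt D χ), Multiset.mem_coe.1 (ha ▸ Multiset.mem_map_of_mem _ hχ.1),
    okdeg_of hN L' hd D' (mem_XY.1 hχ.2), ?_⟩
  simp only [Bool.cond_eq_ite, decide_eq_true_eq]
  rcases mem_XY.1 hχ.2 with h5 | h5
  · rw [wt_X h5] at h4
    rcases degX L' D' h5 with ⟨e1, e2⟩ | ⟨e1, e2⟩ <;> rw [e1] at h4
    · rw [if_pos (by nlinarith)]
      simp [e2]
    · rw [if_neg (by nlinarith)]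
      simp [e2]
  · rw [wt_Y h5] at h4
    rcases degY L' D' h5 with ⟨e1, e2⟩ | ⟨e1, e2⟩ <;> rw [e1] at h4
    · rw [if_neg (by omega)]
      simp [e2]
    · rw [if_pos (by omega)]
      simp [e2]

omit [IsSimpleGroup N] in
theorem miss_of {y : Opt} (hy : Real N y) (D : Data N y.1 y.2.1) {χ : IrrCharacter N}
    (h1 : χ ≠ irrOne N) (h : χ ∉ XY D) : miss y (charDegree χ.1) = true := by
  obtain ⟨-, d, L, hd⟩ := hy
  have := Fact.mk L.pr
  obtain ⟨w, hw⟩ := L.exists_y
  simp only [miss, Bool.or_eq_true, Bool.not_eq_true', beq_false, Nat.beq_eq, or_iff_not_imp_left,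
    not_not]
  intro h2
  obtain rfl : d = 1 := by omega
  rw [mem_XY, not_or] at h
  exact Nat.mod_eq_zero_of_dvd (D.dvd_of_notMem hw ((L.cent w hw).trans (mul_one _)) h1 h.1 h.2)

/-- the entry describes `N` -/
def RealE (N : Type*) [Group N] (x : Ent) : Prop :=
  Real N x.1 ∧ ∀ a, x.2 = some a → ∃ D : Data N x.1.1 x.1.2.1, (a : Multiset (ℕ × ℤ)) = wD D

variable {j P : ℕ} (R : RS N j P)
include R

theorem pre_of {o : Opt} (ho : Real N o) {x : Ent} (hx : RealE N x) :
    pre (Nat.card N) o x = true := by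
  obtain ⟨x, _ | b⟩ := x
  · simp [pre, rule1_of R ho hx.1, rule1_of R hx.1 ho]
  · obtain ⟨D, hD⟩ := hx.2 b rfl
    simp only [pre, rule1_of R ho hx.1, rule1_of R hx.1 ho, Bool.true_and, Bool.or_eq_true,
      Bool.not_eq_true', or_iff_not_imp_left, Bool.not_eq_false]
    exact fun h => unary_of R.nc hx.1 ho (noqr_comm _ _ ▸ h) D hD

theorem cmp_of {o : Opt} (ho : Real N o) (D : Data N o.1 o.2.1) {a : WL}
    (ha : (a : Multiset (ℕ × ℤ)) = wD D) {x : Ent} (hx : RealE N x) :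
    cmp (Nat.card N) o a x = true := by
  classical
  simp only [cmp, Bool.or_eq_true, Bool.not_eq_true', or_iff_not_imp_left, Bool.not_eq_false]
  intro h
  obtain ⟨x, _ | b⟩ := x
  · exact unary_of R.nc ho hx.1 h D ha
  · obtain ⟨D', hD⟩ := hx.2 b rfl
    refine mtch_of ha hD (fun χ h1 => miss_of hx.1 D' (D.ne_one (mem_XY.1 h1)))
      (fun χ h1 => miss_of ho D (D'.ne_one (mem_XY.1 h1))) ?_
    rw [← pair D D' (noqr_of ho hx.1 h), card_Y D, card_Y D']
    simp

omit R [Finite N] [IsSimpleGroup N] in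
theorem mem_ext {f : Ent → Bool} {x : Ent} {chs : List (List Ent)} {ch : List Ent} (h : ch ∈ chs)
    (h' : ∀ y ∈ ch, f y = true) : x :: ch ∈ ext f x chs := by
  simp only [ext, fm_eq, List.mem_flatMap, mem_ite1, al_eq, List.all_eq_true]
  exact ⟨ch, h, h', rfl⟩

variable {iso : List (ℕ × ℕ)} (hi : ∀ o ∈ iso, 1 < o.2 ∧ Loc N o.1 o.2 1) (hv : List ℕ)
include hi

theorem step_of {chs : List (List Ent)} {ch : List Ent} (h : ch ∈ chs) (h' : ∀ x ∈ ch, RealE N x)
    {L : List Opt} {o : Opt} (ho : o ∈ L) (ho' : Real N o) :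
    ∃ ch ∈ step (Nat.card N) iso (degs (Nat.card N) (gok iso (lo (Nat.card N) j))) hv chs L,
      ∀ x ∈ ch, RealE N x := by
  have h1 : ch ∈ chs.filter fun ch => ch.all (pre (Nat.card N) o) :=
    List.mem_filter.2 ⟨h, List.all_eq_true.2 fun x hx => pre_of R ho' (h' x hx)⟩
  simp only [step, fm_eq, fS_eq, fW_eq, al_eq, fm_ite1, List.mem_flatMap]
  by_cases h2 : (Nat.ble o.2.1 5 || an (Nat.beq o.1) hv) = true
  · obtain ⟨c, L, hc⟩ := ho'.2
    obtain ⟨D⟩ := L.data (CL.Small.commutator_eq_top R.nc)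
    obtain ⟨a, ha, ha'⟩ := solve_of R.nc hi (degs_sorted (Nat.card N) (gok iso (lo (Nat.card N) j)))
      (fun χ hχ => mem_degs R.dvd χ.2.charDegree_dvd_card (deg_sq_le χ)
        (gok_of (CL.Small.commutator_eq_top R.nc)
          (fun o ho => (hi o ho).2) hχ (R.deg χ hχ))) L hc D
    refine ⟨(o, some a) :: ch, ⟨o, ho, ?_⟩, List.forall_mem_cons.2
      ⟨⟨ho', fun b hb => ⟨D, Option.some.inj hb ▸ ha'⟩⟩, h'⟩⟩
    rw [List.isEmpty_eq_false_iff.2 (List.ne_nil_of_mem h1), cond_false, h2, cond_true,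
      List.mem_flatMap]
    exact ⟨a, ha, mem_ext h1 fun x hx => cmp_of R ho' D ha' (h' x hx)⟩
  · refine ⟨(o, none) :: ch, ⟨o, ho, ?_⟩, List.forall_mem_cons.2 ⟨⟨ho', by simp⟩, h'⟩⟩
    rw [List.isEmpty_eq_false_iff.2 (List.ne_nil_of_mem h1), cond_false, Bool.eq_false_iff.2 h2,
      cond_false]
    exact mem_ext h1 fun _ _ => rfl

theorem blk_of (h : once (Nat.card N) q = true) (hq : q ∈ [3, 5, 7, 11, 23, 29, 31, 37, 43]) :
    ∃ o ∈ blk (Nat.card N) j P iso q, Real N o := by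
  simp only [blk, Bool.cond_eq_ite, an_eq, List.any_eq_true, Nat.beq_eq, fm_eq]
  split_ifs with h1 h2
  · obtain ⟨o, ho, rfl⟩ := h1
    exact ⟨(o.1, o.2, 1), List.mem_flatMap.2 ⟨o, ho, by simp⟩, (hi o ho).1, 1, (hi o ho).2, Or.inr rfl⟩
  · subst h2
    simp only [once, Bool.and_eq_true, Nat.beq_eq, Bool.not_eq_true', beq_false] at h
    obtain ⟨e, c, he, L⟩ := exists_loc (N := N) Nat.prime_three (by decide)
      (fun k => h.2 (Nat.mod_eq_zero_of_dvd k)) (Nat.dvd_of_mod_eq_zero h.1)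
    have := Fact.mk L.pr
    obtain ⟨S, -, h2, h3⟩ := L.sylow
    rcases (Nat.dvd_prime Nat.prime_two).1 he with rfl | rfl
    · exact absurd (eq_of_le_of_card_ge (centralizer_le_normalizer _) (by rw [h2, h3, mul_one])).ge
        (CL.Small.not_normalizer_le_centralizer R.nc S L.dvd)
    · exact ⟨(3, 2, 0), by simp, one_lt_two, c, L, Or.inl rfl⟩
  · obtain ⟨x, hx, rfl⟩ : ∃ x ∈ TB, x.1 = q := by
      revert h2
      fin_cases hq <;> decide
    obtain ⟨e, c, h3, h4, L, -⟩ := R.opt x hx h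
    exact ⟨_, List.mem_flatMap.2 ⟨x, hx, by simpa using h3⟩, h4, c, L, Or.inr rfl⟩

theorem bfs_of (L : List ℕ) {chs : List (List Ent)} {ch : List Ent} (h : ch ∈ chs)
    (h' : ∀ x ∈ ch, RealE N x) : bfs (Nat.card N) j P iso
      (degs (Nat.card N) (gok iso (lo (Nat.card N) j))) hv L chs = true := by
  induction L generalizing chs ch with
  | nil => exact (Bool.not_eq_true' _).mpr (List.isEmpty_eq_false_iff.2 (List.ne_nil_of_mem h))
  | cons q L ih =>
    show (!once _ q || !an (Nat.beq q) _ || fS _ (bfs _ _ _ _ _ _ L)) = true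
    simp only [Bool.or_eq_true, Bool.not_eq_true', or_iff_not_imp_left, Bool.not_eq_false, fS_eq,
      not_forall, an_eq, List.any_eq_true, Nat.beq_eq, exists_eq_right', exists_prop]
    intro ⟨h1, h2⟩
    obtain ⟨o, h3, h4⟩ := blk_of R hi h1 h2
    obtain ⟨ch', h5, h6⟩ := step_of R hi hv h h' h3 h4
    exact ih h5 h6

omit hi

omit [Finite N] [IsSimpleGroup N] in
theorem anIso_of {g : List (ℕ × ℕ) → Bool}
    (hg : ∀ iso : List (ℕ × ℕ), (∀ o ∈ iso, 1 < o.2 ∧ Loc N o.1 o.2 1) → g iso = true)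
    {L : List (ℕ × ℕ × ℕ × ℕ)} (hL : ∀ x ∈ L, x ∈ TB) {iso : List (ℕ × ℕ)}
    (hi : ∀ o ∈ iso, 1 < o.2 ∧ Loc N o.1 o.2 1) : anIso (Nat.card N) j P g L iso = true := by
  induction L generalizing iso with
  | nil => exact hg iso hi
  | cons x L ih =>
    have ih' := fun iso => ih (iso := iso) fun y hy => hL y (List.mem_cons_of_mem _ hy)
    show (bif once _ x.1 && Nat.beq x.2.2.1 1 then an (fun o => fN o.2.1 fun e =>
      anIso _ j P g L ((x.1, e) :: iso)) (ob _ j P x) else anIso _ j P g L iso) = true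
    simp only [Bool.cond_eq_ite, Bool.and_eq_true, Nat.beq_eq, an_eq, fN_eq]
    split_ifs with h
    · obtain ⟨e, c, h1, h2, h3, h4⟩ := R.opt x (hL x List.mem_cons_self) h.1
      obtain rfl : c = 1 := Nat.dvd_one.1 (h.2 ▸ h4)
      exact List.any_eq_true.2 ⟨_, h1, ih' _ (List.forall_mem_cons.2 ⟨⟨h2, h3⟩, hi⟩)⟩
    · exact ih' iso hi

theorem alive_of (L : List ℕ) : alive P j (Nat.card N) L hv = true :=
  anIso_of R (fun _ hi => by
    rw [fS_eq]; exact bfs_of R hi hv L List.mem_cons_self (by simp)) (fun _ h => h) (by simp)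

/-- The checker excludes the order. -/
theorem RS.false {E s : ℕ} {L : List (ℕ × ℕ × List ℕ × List ℕ)} (h1 : cover P E L = true)
    (h2 : dead P L = true) (hs : s * (P * E) ∣ oG) (hs1 : s % P = 1) (hs2 : s * (P * E) ≠ oG)
    (hj : j ∣ E) (hj' : j ≠ E) (hm : Nat.card N * j = s * (P * E))
    (hk : okm (Nat.card N) j P = true) : False := by
  have h0 : 0 < j := Nat.pos_of_dvd_of_pos (((dvd_mul_left _ _).trans hm.dvd).trans hs) (by decide)
  simp only [dead, al_eq, List.all_eq_true, Bool.not_eq_true'] at h2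
  rw [cover, Bool.not_eq_true', Bool.eq_false_iff] at h1
  refine h1 (anD_of (Nat.dvd_div_of_mul_dvd (mul_comm s _ ▸ hs)) ((dvd_mul_right _ _).trans hs) ?_)
  simp only [Bool.and_eq_true, Nat.beq_eq, Bool.not_eq_true', beq_false]
  refine ⟨⟨hs1, hs2⟩, anD_of hj (((dvd_mul_left _ _).trans hm.dvd).trans hs) ?_⟩
  simp only [Bool.and_eq_true, Bool.not_eq_true', beq_false, fN_eq, ← hm, Nat.mul_div_cancel _ h0,
    an_eq, List.any_eq_false, Nat.beq_eq, not_and]
  refine ⟨hj', hk, fun x hx e1 e2 => ?_⟩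
  have := h2 x hx
  rw [e1, e2, alive_of R] at this
  exact absurd this (by simp)

end CL.J4.Mx
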