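import Cfsg.Agent.SPOR.J4.MxLem

/-!
Special arguments.
-/

set_option autoImplicit false

namespace CL.J4.Mx

open Cfsg Subgroup CL.Orb CL.Tr CL.Char CL.LX
open scoped commutatorElement

variable {G : Type*} [Group G] [Finite G]

theorem deg_bound {χ : G → ℂ} (hχ : IsCharacter G χ) {B : Subgroup G} {z : G} (h1 : z * z = 1)
    (h3 : ∀ b ∈ B, z * b = b * z) (h4 : ∀ a ∈ B, ∀ b ∈ B, a * b = b * a ∨ a * b = b * a * z)
    (h5 : χ z ≠ χ 1) : Nat.card B ≤
      Nat.card (B ⊓ centralizer (B : Set G) : Subgroup G) * charDegree χ ^ 2 := by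
  classical
  have := Fintype.ofFinite B
  have := Fintype.ofFinite (zpowers z)
  have h0 : z ≠ 1 := by rintro rfl; exact h5 rfl
  have h6 := CL.D1.isCharacter_avg hχ (zpowers z) B fun a ha b hb => by
    rcases (mem_zpowers_of_sq h1).1 ha with rfl | rfl
    exacts [by simp, h3 b hb]
  have h7 : ∀ b : B, ((fun b : B => χ b) - fun b : B => (Nat.card (zpowers z) : ℂ)⁻¹ *
      ∑ a : zpowers z, χ (a * b)) b = (χ b - χ (z * b)) / 2 := fun b => by
    rw [Pi.sub_apply, Nat.card_zpowers, orderOf_eq_two_of h0 h1,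
      Fintype.sum_eq_add 1 ⟨z, mem_zpowers z⟩ (fun e => h0 (congrArg Subtype.val e).symm) fun a ha =>
        absurd ((mem_zpowers_of_sq h1).1 a.2) (not_or.2
          ⟨fun e => ha.1 (Subtype.ext e), fun e => ha.2 (Subtype.ext e)⟩)]
    simp
    ring
  have h8 := (hχ.res B).isGen.sub h6.isGen
  generalize ((fun b : B => χ b) - fun b : B => (Nat.card (zpowers z) : ℂ)⁻¹ *
      ∑ a : zpowers z, χ (a * b)) = ψ at h7 h8
  obtain ⟨n, hn⟩ := h8.exists_nat_norm
  have h9 : n ≠ 0 := by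
    rintro rfl
    have := h7 1
    rw [classInner_self_eq_zero.1 (hn.trans Nat.cast_zero)] at this
    exact h5 (by simpa [sub_eq_zero] using this.symm : χ 1 = χ z).symm
  have h10 : ∑ b : B, ‖ψ b‖ ^ 2 ≤
      Nat.card (B ⊓ centralizer (B : Set G) : Subgroup G) * (charDegree χ : ℝ) ^ 2 := by
    rw [inf_comm, ← card_subgroupOf_eq, ← Finset.sum_subset (Finset.subset_univ (Finset.univ.filter
      (· ∈ (centralizer (B : Set G)).subgroupOf B))) fun b _ hb => ?_]
    · refine (Finset.sum_le_card_nsmul _ _ ((charDegree χ : ℝ) ^ 2) fun b _ => ?_).trans (le_of_eq ?_)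
      · refine pow_le_pow_left₀ (norm_nonneg _) ?_ 2
        have e1 := hχ.norm_le b
        have e2 := hχ.norm_le (z * b)
        have e3 := norm_sub_le (χ b) (χ (z * b))
        rw [h7, norm_div]
        simp only [hχ.apply_one_eq_charDegree, Complex.natCast_re, Complex.norm_natCast,
          Complex.norm_ofNat] at e1 e2 ⊢
        linarith
      · rw [nsmul_eq_mul, Nat.subtype_card (Finset.univ.filter
          (· ∈ (centralizer (B : Set G)).subgroupOf B)) (by simp)]
    · simp only [Finset.mem_filter, Finset.mem_univ, true_and, mem_subgroupOf, mem_centralizer_iff,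
        not_forall] at hb
      obtain ⟨a, ha, hb⟩ := hb
      rw [h7, h3 b b.2, ← hχ.isClassFunction b a, (h4 a ha b b.2).resolve_left hb, mul_assoc,
        h3 _ (inv_mem ha), ← mul_assoc, mul_inv_cancel_right]
      simp
  rw [classInner_self_eq, ← Complex.ofReal_natCast, Complex.ofReal_inj,
    inv_mul_eq_iff_eq_mul₀ (Nat.cast_ne_zero.2 Nat.card_pos.ne')] at hn
  have h11 : Nat.card B * n ≤
      Nat.card (B ⊓ centralizer (B : Set G) : Subgroup G) * charDegree χ ^ 2 := by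
    exact_mod_cast hn ▸ h10
  exact (Nat.le_mul_of_pos_right _ (Nat.pos_of_ne_zero h9)).trans h11

theorem deg32 {Q N : Subgroup G} {z : G} (h : LX Q z) (hc : Nat.card Q = 2 ^ 13)
    (hi : N.relIndex Q ∣ 2) {χ : N → ℂ} (hχ : IsCharacter N χ) (hf : ∀ n, χ n = χ 1 → n = 1) :
    32 ≤ charDegree χ := by
  obtain ⟨w, hw, h1⟩ : ∃ w ∈ Q, ∀ q ∈ Q, q ∈ N ∨ q * w ∈ N := by
    rcases (Nat.dvd_prime Nat.prime_two).1 hi with e | e
    · exact ⟨1, one_mem _, fun q hq => Or.inl (relIndex_eq_one.1 e hq)⟩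
    · obtain ⟨a, ha⟩ := index_eq_two_iff.1 e
      exact ⟨a, a.2, fun q hq => (ha ⟨q, hq⟩).or.symm⟩
  have h2 : 2 ^ 12 ≤ Nat.card (N ⊓ Q : Subgroup G) := by
    have := card_inf_mul_relIndex N Q
    rcases (Nat.dvd_prime Nat.prime_two).1 hi with e | e <;> rw [e, hc] at this <;> omega
  have h3 : ∀ Z : Subgroup G, Z ≤ Q → (∀ y ∈ Z, ∀ a ∈ N ⊓ Q, a * y = y * a) → Nat.card Z ≤ 4 := by
    intro Z hZ k
    rw [card_eq_orbit_mul Z w]
    refine Nat.mul_le_mul (show _ ≤ 2 from (Set.ncard_le_ncard (t := {w, w * z}) ?_).trans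
      (Set.ncard_insert_le _ _ |>.trans (by simp))) (show _ ≤ 2 from
        (card_le_of_le (K := zpowers z) fun y hy =>
          h.mem_zpowers_iff.2 (h.self_cent y fun q hq => ?_)).trans
            (by rw [Nat.card_zpowers, h.orderOf_z]))
    · rintro _ ⟨y, hy, rfl⟩
      rcases h.comm y (hZ hy) w hw with e | e <;> rw [e]
      · simp
      · rw [mul_assoc w, h.z_comm y (hZ hy), ← mul_assoc, mul_inv_cancel_right]
        simp
    · rcases h1 q hq with e | e
      · exact (k y hy.1 q ⟨e, hq⟩).symm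
      · have := k y hy.1 _ ⟨e, mul_mem hq hw⟩
        rw [mul_assoc, ← mem_centralizer_singleton_iff.1 hy.2, ← mul_assoc, ← mul_assoc] at this
        exact (mul_right_cancel this).symm
  have h4 : z ∈ N := by
    by_contra k
    refine absurd (h2.trans (h3 _ inf_le_right fun y hy a ha =>
      (h.comm a ha.2 y hy.2).resolve_right fun e => k ?_)) (by decide)
    rw [show z = (y * a)⁻¹ * (a * y) by rw [e]; group]
    exact mul_mem (inv_mem (mul_mem hy.1 ha.1)) (mul_mem ha.1 hy.1)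
  have h5 := deg_bound hχ (B := Q.subgroupOf N) (z := ⟨z, h4⟩) (Subtype.ext h.z_sq)
    (fun b hb => Subtype.ext (h.z_comm b hb).symm)
    (fun a ha b hb => (h.comm a ha b hb).imp Subtype.ext Subtype.ext)
    fun e => h.z_ne (congrArg Subtype.val (hf _ e))
  have h6 := h3 ((Q.subgroupOf N ⊓ centralizer (Q.subgroupOf N : Set N)).map N.subtype)
    (by rintro _ ⟨y, hy, rfl⟩; exact hy.1)
    (by rintro _ ⟨y, hy, rfl⟩ a ha; exact congrArg Subtype.val (hy.2 ⟨a, ha.1⟩ ha.2))
  rw [card_map_of_injective (subtype_injective N)] at h6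
  rw [card_subgroupOf_eq, inf_comm] at h5
  by_contra k
  have := Nat.mul_le_mul h6 (Nat.pow_le_pow_left (show charDegree χ ≤ 31 by omega) 2)
  omega

/-- an element of order four modulo `Y` gives a normal subgroup of index four -/
theorem exists_index_four {Y : Subgroup G} [Y.Normal] (h : ¬ 8 ∣ Y.index) {y : G} (h1 : y ^ 4 ∈ Y)
    (h2 : y ^ 2 ∉ Y) : ∃ K : Subgroup G, K.Normal ∧ Y ≤ K ∧ K.index = 4 := by
  have h3 : orderOf (QuotientGroup.mk' Y y) = 2 ^ (1 + 1) := orderOf_eq_prime_pow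
    (by rwa [← map_pow, QuotientGroup.mk'_apply, QuotientGroup.eq_one_iff])
    (by rwa [← map_pow, QuotientGroup.mk'_apply, QuotientGroup.eq_one_iff])
  rw [← Nat.card_zpowers] at h3
  have h4 := (zpowers (QuotientGroup.mk' Y y)).index_mul_card
  rw [h3] at h4
  let S := (IsPGroup.of_card h3).toSylow fun e => h (by
    rw [index_eq_card]; omega)
  have h5 := IsCyclic.isComplement' (p := 2) (P := S) ((Nat.minFac_eq_two_iff _).2 (by omega))
    (inferInstanceAs (IsCyclic (zpowers _)))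
  exact ⟨_, (MonoidHom.normal_ker _).comap (QuotientGroup.mk' Y), le_comap_mk' _ _,
    by rw [index_comap_mk', h5.symm.index_eq_card]; exact h3⟩

theorem exists_le_card {p n : ℕ} [Fact p.Prime] {K : Subgroup G} (h : p ^ n ∣ Nat.card K) :
    ∃ T ≤ K, Nat.card T = p ^ n :=
  let ⟨T, hT⟩ := Sylow.exists_subgroup_card_pow_prime p h
  ⟨_, map_subtype_le T, (card_map_of_injective (subtype_injective K)).trans hT⟩

omit [Finite G] in
theorem card_two {T : Subgroup G} (hT : IsPGroup 2 T) [Finite T] {i k n : ℕ} (h1 : ¬ 2 ∣ i)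
    (h2 : Nat.card T * i = 2 ^ k * n) (h3 : ¬ 2 ∣ n) : Nat.card T = 2 ^ k := by
  obtain ⟨j, hj⟩ := hT.exists_card_eq
  rw [hj] at h2 ⊢
  exact Nat.dvd_antisymm ((Nat.Coprime.pow_left j ((Nat.Prime.coprime_iff_not_dvd Nat.prime_two).2
    h3)).dvd_of_dvd_mul_right (Dvd.intro _ h2)) ((Nat.Coprime.pow_left k
      ((Nat.Prime.coprime_iff_not_dvd Nat.prime_two).2 h1)).dvd_of_dvd_mul_right (Dvd.intro _ h2.symm))

omit [Finite G] in
theorem relIndex_cent_dvd (y : G) (K : Subgroup G) :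
    (centralizer {y}).relIndex (normalizer (zpowers y : Set G) ⊓ K) ∣
      (centralizer {y}).relIndex (normalizer (zpowers y : Set G)) := by
  have : ((centralizer {y}).subgroupOf (normalizer (zpowers y : Set G))).Normal := by
    rw [← cent_zpowers]; infer_instance
  rw [← relIndex_subgroupOf (inf_le_left : _ ⊓ _ ≤ normalizer (zpowers y : Set G))]
  exact relIndex_dvd_index_of_normal _ _

namespace GD

variable {z c : G} {Q U : Subgroup G} (g : GD z Q c U)
include g

theorem wlog {x : G} (h : IsConj x c) {T : Subgroup G} (hT : IsPGroup 2 T)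
    (h1 : T ≤ centralizer {x}) : ∃ a, a * x * a⁻¹ = c ∧ cj a T ≤ Q ⊓ centralizer {c} := by
  obtain ⟨a, rfl⟩ := isConj_iff.1 h
  obtain ⟨b, h2, h3⟩ := g.conjQ (hT.map (MulAut.conj a).toMonoidHom) ((map_conj_le_iff _ _ _).2
    fun y hy => mem_centralizer_singleton_iff.2
      (comm_conj_iff.2 (mem_centralizer_singleton_iff.1 (h1 hy))))
  exact ⟨b * a, by rw [conj_mul_conj, h2, mul_inv_cancel_right],
    (map_conj_le_iff _ _ _).2 fun y hy => conj_mul_conj b a y ▸ h3 _ (cj_mem.2 hy)⟩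

theorem card_Y {Y : Subgroup G} (hY : Y ≤ Q) (h : c ∈ normalizer (Y : Set G)) {k : ℕ}
    (h1 : Nat.card (Y ⊓ centralizer {c} : Subgroup G) = 2 ^ k) (h2 : k = 2 ∨ k = 3) :
    Y ≤ centralizer {c} ∨ Nat.card Y = 2 ^ (k + 10) := by
  have h3 := fix_dvd (by decide) g.oc h
  have h4 := card_le_of_le (inf_le_left : Y ⊓ centralizer {c} ≤ Y)
  obtain ⟨i, hi, h5⟩ := two_pow_of_dvd (g.cQ ▸ card_dvd_of_le hY)
  refine or_iff_not_imp_left.2 fun e => ?_
  have h6 : Nat.card Y ≠ 2 ^ k := fun e' =>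
    e (inf_eq_left.1 (eq_of_le_of_card_ge inf_le_left (by rw [h1, e'])))
  rw [h1] at h3 h4
  rw [h5] at h3 h4 h6 ⊢
  rcases h2 with rfl | rfl <;> interval_cases i <;> omega

theorem zY {Y : Subgroup G} (hY : Y ≤ Q ⊓ centralizer {c}) (h : 2 ∣ Nat.card Y) : z ∈ Y := by
  obtain ⟨w, h1, h2⟩ := exists_orderOf Nat.prime_two h
  exact g.uniq w (g.Q8_le (hY h1)) h2 ▸ h1

omit [Finite G] in
theorem sq_z {y : G} (hy : y ∈ Q ⊓ centralizer {c}) (h : y ∉ zpowers z) : y * y = z :=
  (g.sq y hy.1).resolve_left fun e => h (g.mem_zpowers_iff.2 (g.eq_z hy e))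

omit [Finite G] in
theorem not_le {Y : Subgroup G} (h : 4 ∣ Nat.card Y) : ¬ Y ≤ zpowers z := fun e =>
  absurd (h.trans (card_dvd_of_le e)) (by rw [Nat.card_zpowers, g.oz]; decide)

theorem f37' {N : Subgroup G} (h : Nat.card N = 196922880) (hc : c ∈ N)
    (h1 : Nat.card (centralizer {c} ⊓ N : Subgroup G) = 44)
    (h2 : Nat.card (normalizer (zpowers c : Set G) ⊓ N : Subgroup G) = 220)
    (h3 : 4 ∣ Nat.card (Q ⊓ N ⊓ centralizer {c} : Subgroup G)) : False := by
  have l1 : Q ⊓ N ⊓ centralizer {c} ≤ Q ⊓ centralizer {c} := inf_le_inf_right _ inf_le_left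
  have nY : centralizer {z} ⊓ N ≤ normalizer (Q ⊓ N : Subgroup G) :=
    le_normalizer_inf (inf_le_left.trans g.Hn) (inf_le_right.trans le_normalizer)
  have hc' : c ∈ centralizer {z} ⊓ N := ⟨mem_centralizer_singleton_iff.2 g.cz, hc⟩
  have h4 : Nat.card (Q ⊓ N ⊓ centralizer {c} : Subgroup G) = 2 ^ 2 := Nat.dvd_antisymm (Nat.dvd_gcd
    (g.Q8 ▸ card_dvd_of_le l1) (h1 ▸ card_dvd_of_le (le_inf inf_le_right
      (inf_le_left.trans inf_le_right)))) h3
  have h5 := (g.card_Y inf_le_left (nY hc') h4 (Or.inl rfl)).resolve_right fun e =>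
    absurd (e ▸ h ▸ card_dvd_of_le inf_le_right) (by decide)
  rw [inf_eq_left.2 h5] at h4 l1
  have hz := g.zY l1 (by rw [h4]; decide)
  obtain ⟨y, hy, hy'⟩ := SetLike.not_le_iff_exists.1 (g.not_le h4.symm.dvd)
  have h6 := g.sq_z (l1 hy) hy'
  have h7 : Nat.card (centralizer {z} ⊓ N : Subgroup G) ∣ 4 * 1320 := by
    have := g.stab y hy.1 h6 (centralizer {z} ⊓ N) inf_le_left fun a ha => ?_
    · rwa [show centralizer {z} ⊓ N ⊓ Q = Q ⊓ N from le_antisymm
        (le_inf inf_le_right (inf_le_left.trans inf_le_right)) (le_inf (le_inf (fun a ha =>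
          mem_centralizer_singleton_iff.2 (g.z_comm a ha.1)) inf_le_right) inf_le_left), h4] at this
    have k1 := conj_mem_of_mem_normalizer (nY ha) hy
    have k2 : (zpowers z).relIndex (Q ⊓ N) = 2 := by
      have := card_mul_relIndex_of_le (zpowers_le.2 hz)
      rw [h4, Nat.card_zpowers, g.oz] at this
      omega
    have k3 := (mul_mem_iff_of_index_two k2 (a := ⟨_, inv_mem hy⟩) (b := ⟨_, k1⟩)).2 (iff_of_false
      (fun e => hy' (inv_mem_iff.1 e)) fun e => hy' ((g.mem_zpowers_iff.1 e).elim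
        (fun e => by rw [conj_eq_one_iff.1 e]; exact one_mem _) fun (e : a * y * a⁻¹ = z) => by
          rw [mul_inv_eq_iff_eq_mul, ← mem_centralizer_singleton_iff.1 ha.1] at e
          rw [mul_left_cancel e]; exact mem_zpowers z))
    exact (g.mem_zpowers_iff.1 k3).imp (fun e => (inv_mul_eq_one.1 e).symm)
      inv_mul_eq_iff_eq_mul.1
  have h8 : centralizer {c} ⊓ N ≤ centralizer {z} := inf_eq_left.1 (eq_of_le_of_card_ge inf_le_left
    (Nat.le_of_dvd Nat.card_pos (h1 ▸ Nat.Coprime.mul_dvd_of_dvd_of_dvd (m := 4) (n := 11) (by decide)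
      (h4.symm.dvd.trans <| card_dvd_of_le (le_inf (le_inf h5 inf_le_right) fun a ha =>
        mem_centralizer_singleton_iff.2 (g.z_comm a ha.1)))
      (g.oc ▸ orderOf_dvd_natCard _ ⟨⟨mem_centralizer_singleton_iff.2 rfl, hc⟩, hc'.1⟩))))
  have h9 : normalizer (zpowers c : Set G) ⊓ N ≤ centralizer {z} ⊓ N := fun a ha => by
    have k : a * z * a⁻¹ ∈ centralizer {c} ⊓ N := ⟨cent_zpowers c ▸ conj_mem_of_mem_normalizer
      (normalizer_le_normalizer_centralizer _ ha.1) (cent_zpowers c ▸ h5 hz),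
        N.mul_mem (N.mul_mem ha.2 hz.2) (N.inv_mem ha.2)⟩
    exact ⟨mem_centralizer_singleton_iff.2 (mul_inv_eq_iff_eq_mul.1 (g.uniq _ (mem_C2.2
      ⟨mem_centralizer_singleton_iff.1 (h8 k), mem_centralizer_singleton_iff.1 k.1⟩)
      ((CL.Small.orderOf_conj' _ _).trans g.oz))), ha.2⟩
  have pY : IsPGroup 2 (Q ⊓ N : Subgroup G) := IsPGroup.of_card h4
  obtain ⟨T0, t1, t2, t3, t4⟩ := exists_sylowIn_ge pY (le_inf (fun a (ha : a ∈ Q ⊓ N) =>
    mem_centralizer_singleton_iff.2 (g.z_comm a ha.1)) inf_le_right : _ ≤ centralizer {z} ⊓ N)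
  obtain ⟨T, s1, s2, s3, s4⟩ := exists_sylowIn_ge t3 (t2.trans inf_le_right)
  have s5 : ¬ T ≤ T0 := fun e => by
    have k1 := card_mul_relIndex_of_le s2
    have k2 := (card_dvd_of_le (e.trans t2)).trans h7
    rw [h] at k1
    exact absurd (((Nat.Coprime.pow_left 9 ((Nat.Prime.coprime_iff_not_dvd Nat.prime_two).2
      s4)).dvd_of_dvd_mul_right (k1 ▸ by decide)).trans k2) (by decide)
  obtain ⟨a, ha, ha'⟩ := SetLike.exists_of_lt (lt_inf_normalizer_of_lt s3 (lt_of_le_not_ge s1 s5))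
  have k1 := t2 (conj_mem_of_mem_normalizer ha.2 (t1 hy))
  have k2 : (a * y * a⁻¹) ^ 2 = a * z * a⁻¹ := by rw [conj_pow, sq, h6]
  have : ((Q ⊓ N).subgroupOf (centralizer {z} ⊓ N)).Normal := normal_subgroupOf_of_le_normalizer nY
  have k3 := ((Q ⊓ N).subgroupOf (centralizer {z} ⊓ N)).index_mul_card
  rw [card_subgroupOf_of_le (t1.trans t2), h4] at k3
  have k6 := cnt_mod (by decide) (fun e => absurd (e.trans h7) (by decide)) hc' g.oc
  have k7 : normalizer (zpowers c : Set G) ⊓ (centralizer {z} ⊓ N) = normalizer (zpowers c : Set G) ⊓ N :=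
    le_antisymm (inf_le_inf_left _ inf_le_right) (le_inf inf_le_left h9)
  obtain ⟨s, hs⟩ := card_dvd_of_le h9
  rw [k7, h2] at k6
  rw [h2] at hs
  have k8 : s = 1 ∨ s = 12 := by
    have := Nat.le_of_dvd (by decide) h7
    have : s ≠ 23 := by rintro rfl; exact absurd (hs ▸ h7) (by decide)
    omega
  obtain ⟨K, _, k4, k5⟩ := exists_index_four (Y := (Q ⊓ N).subgroupOf (centralizer {z} ⊓ N))
    (y := ⟨_, k1⟩) (by omega) (by
      rw [mem_subgroupOf, coe_pow, show 4 = 2 * 2 from rfl, pow_mul, k2, conj_pow, sq, g.z_sq]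
      simp) fun e => ha' (le_of_sylowIn_le t4 (s3.to_le (sup_le s1 (zpowers_le.2 ha.1))) le_sup_left
        (sup_le t2 (zpowers_le.2 ⟨by
          rw [mem_subgroupOf, coe_pow, k2] at e
          exact mem_centralizer_singleton_iff.2 (mul_inv_eq_iff_eq_mul.1 (g.uniq _ (g.Q8_le (l1 e))
            ((CL.Small.orderOf_conj' _ _).trans g.oz))), s2 ha.1⟩)) (mem_sup_right (mem_zpowers a)))
  have k9 := card_norm_sub (⟨c, hc'⟩ : (centralizer {z} ⊓ N : Subgroup G))
  rw [k7, h2] at k9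
  have k10 : normalizer (zpowers (⟨c, hc'⟩ : (centralizer {z} ⊓ N : Subgroup G)) : Set _) ≤ K := by
    have e1 := card_mul_relIndex_of_le (show (Q ⊓ N).subgroupOf (centralizer {z} ⊓ N) ≤
      normalizer (zpowers (⟨c, hc'⟩ : (centralizer {z} ⊓ N : Subgroup G)) : Set _) from fun a ha =>
        (mem_norm_subgroupOf a).2 (centralizer_le_normalizer _ (cent_zpowers c ▸ h5 ha)))
    rw [k9, card_subgroupOf_of_le (t1.trans t2), h4] at e1
    exact relIndex_eq_one.1 (Nat.eq_one_of_dvd_coprimes (by decide : Nat.Coprime 4 55)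
      (k5 ▸ relIndex_dvd_index_of_normal _ _) ((relIndex_dvd_of_le_left _ k4).trans
        (dvd_of_eq (by omega))))
  have k11 := K.index_mul_card
  have k12 := cnt_mod (r := 11) (by decide) (fun e => absurd ((e.trans
    (card_subgroup_dvd_card K)).trans h7) (by decide)) (k10 (le_normalizer (mem_zpowers _)))
    ((orderOf_mk _ _).trans g.oc)
  rw [inf_eq_left.2 k10, k9] at k12
  rw [k5] at k11
  omega

theorem f37 {N : Subgroup G} (h : Nat.card N = 196922880) {x : G} (hx : x ∈ N) (ho : orderOf x = 11)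
    (h1 : Nat.card (centralizer {x} ⊓ N : Subgroup G) = 44)
    (h2 : Nat.card (normalizer (zpowers x : Set G) ⊓ N : Subgroup G) = 220) : False := by
  obtain ⟨T, t1, t2⟩ := exists_le_card (p := 2) (n := 2) (K := centralizer {x} ⊓ N) (by rw [h1]; decide)
  obtain ⟨a, h3, h4⟩ := g.wlog (((g.cls x (by rintro rfl; simp at ho) (IsPGroup.of_card (n := 1)
    (by rw [Nat.card_zpowers, ho]; rfl))).2).resolve_right fun e => absurd
      (h1 ▸ (card_dvd_of_le inf_le_left).trans e) (by decide)) (IsPGroup.of_card t2)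
      (t1.trans inf_le_left)
  refine g.f37' (N := cj a N) ((card_map_conj _ _).trans h) (h3 ▸ cj_mem.2 hx)
    (by rw [← h3, card_cent_cj, h1]) (by rw [← h3, ← cj_zpowers, card_norm_cj, h2]) ?_
  rw [show 4 = Nat.card (cj a T) from ((card_map_conj _ _).trans t2).symm]
  exact card_dvd_of_le (le_inf (le_inf (h4.trans inf_le_left) (map_mono (t1.trans inf_le_right)))
    (h4.trans inf_le_right))

theorem cN_dvd {K : Subgroup G} (h : Nat.card K = 97598130094080) (hU : U ≤ K) :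
    Nat.card (normalizer (zpowers c : Set G) ⊓ K : Subgroup G) = 1331 * 80 ∧
      Nat.card (centralizer {c} ⊓ K : Subgroup G) = 1331 * 8 := by
  have : Fact (Nat.Prime 11) := ⟨by decide⟩
  have h1 : Nat.card (U.subgroupOf K) = 11 ^ 3 := (card_subgroupOf_of_le hU).trans g.cU
  have h2 := g.count ((IsPGroup.of_card h1).toSylow fun e => by
    have := (U.subgroupOf K).index_mul_card
    rw [h1, h] at this
    omega)
  rw [IsPGroup.toSylow_coe, subgroupOf_map_subtype, inf_eq_left.2 hU, g.NU, h1, h] at h2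
  obtain ⟨u, hu⟩ := card_dvd_of_le (le_inf (le_normalizer.trans g.NU.le) hU)
  have h3 := g.cNc ▸ card_dvd_of_le (inf_le_left : normalizer (zpowers c : Set G) ⊓ K ≤ _)
  rw [g.cU] at hu
  rw [hu] at h2 h3
  obtain rfl : u = 80 := (by decide +kernel : ∀ u ∈ Nat.divisors 240,
    97598130094080 / (1331 * u) ≡ 1 [MOD 11 ^ 3] → u = 80) u
    (Nat.mem_divisors.2 ⟨Nat.dvd_of_mul_dvd_mul_left (by decide) h3, by decide⟩) h2
  have h4 := card_inf_mul_relIndex (centralizer {c}) (normalizer (zpowers c : Set G) ⊓ K)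
  have h5 := relIndex_cent_dvd c K
  have h6 := CL.Small.card_centralizer_mul_relIndex (zpowers c)
  have h7 := g.cCc ▸ card_dvd_of_le (inf_le_left : centralizer {c} ⊓ K ≤ _)
  rw [cent_zpowers, g.cCc, g.cNc] at h6
  rw [← inf_assoc, inf_eq_left.2 (show centralizer {c} ≤ normalizer (zpowers c : Set G) from
    cent_zpowers c ▸ centralizer_le_normalizer _), hu] at h4
  rw [show (centralizer {c}).relIndex (normalizer (zpowers c : Set G)) = 10 by omega] at h5
  refine ⟨hu, ?_⟩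
  have h8 := Nat.le_of_dvd (by decide) h5
  generalize (centralizer {c}).relIndex (normalizer (zpowers c : Set G) ⊓ K) = i at h4 h5 h8
  generalize Nat.card (centralizer {c} ⊓ K : Subgroup G) = n at h4 h7
  have h9 := Nat.le_of_dvd (by decide) (Nat.dvd_gcd h7 (Dvd.intro _ h4))
  norm_num at h9
  interval_cases i <;> omega

theorem i37' {K : Subgroup G} (h : Nat.card K = 97598130094080) (hU : U ≤ K)
    (hQ : Q ⊓ centralizer {c} ≤ K) : False := by
  have hz : z ∈ Q ⊓ centralizer {c} := ⟨g.z_mem, mem_centralizer_singleton_iff.2 g.cz.symm⟩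
  have nY : centralizer {z} ⊓ K ≤ normalizer (Q ⊓ K : Subgroup G) :=
    le_normalizer_inf (inf_le_left.trans g.Hn) (inf_le_right.trans le_normalizer)
  have hc : c ∈ centralizer {z} ⊓ K := ⟨mem_centralizer_singleton_iff.2 g.cz, hU g.cm⟩
  have l1 : Q ⊓ K ≤ centralizer {z} ⊓ K := inf_le_inf_right _ fun a ha =>
    mem_centralizer_singleton_iff.2 (g.z_comm a ha)
  have h1 : Q ⊓ K ⊓ centralizer {c} = Q ⊓ centralizer {c} := by
    rw [inf_right_comm, inf_eq_left.2 hQ]
  obtain ⟨T0, t1, t2, t3, t4⟩ := exists_sylowIn_ge (g.pQ.to_inf_left (K := K)) l1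
  obtain ⟨T, s1, s2, s3, s4⟩ := exists_sylowIn_ge t3 (t2.trans inf_le_right)
  have s5 : Nat.card T = 2 ^ 21 := by
    have k1 := card_mul_relIndex_of_le s2
    rw [h] at k1
    exact card_two s3 s4 (k1.trans (show _ = 2 ^ 21 * 46538415 by decide)) (by decide)
  have s6 : centralizer {z} ⊓ T ≤ T0 := le_sup_right.trans (le_of_sylowIn_le t4
    (s3.to_le (sup_le s1 inf_le_right)) le_sup_left (sup_le t2 (inf_le_inf_left _ s2)))
  rcases g.card_Y inf_le_left (nY hc) (k := 3) (h1 ▸ g.Q8) (Or.inr rfl) with h2 | h2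
  · rw [inf_eq_left.2 h2] at h1
    have : ((Q ⊓ K).subgroupOf T0).Normal := normal_subgroupOf_of_le_normalizer (t2.trans nY)
    have := t3.isNilpotent
    obtain ⟨y, y1, y2, y3⟩ := Cfsg.Agent.S0015.exists_mem_not_mem_commutator_mem
      ((zpowers z).subgroupOf T0) ((Q ⊓ K).subgroupOf T0) fun e => g.not_le (Y := Q ⊓ K)
        (by rw [h1, g.Q8]; decide) fun a ha => e (show (⟨a, t1 ha⟩ : T0) ∈ _ from ha)
    have h3 := g.stab y y1.1 (g.sq_z (h1.le y1) y2) T0 (t2.trans inf_le_left) fun a ha => by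
      have := inv_mem (y3 ⟨a, ha⟩)
      rw [commutatorElement_inv, mem_subgroupOf, g.mem_zpowers_iff] at this
      refine this.imp (fun e => mul_inv_eq_one.1 e) fun e => ?_
      rw [g.z_comm y y1.1]
      exact mul_inv_eq_iff_eq_mul.1 e
    rw [show T0 ⊓ Q = Q ⊓ K from le_antisymm (le_inf inf_le_right (inf_le_left.trans
      (t2.trans inf_le_right))) (le_inf t1 inf_le_left), h1, g.Q8] at h3
    have h4 := (g.big2 s3 s5 (s1 (t1 (h1.ge hz))) g.z_sq).trans_le (card_le_of_le s6)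
    have h5 : Nat.card T0 ∣ 64 :=
      (Nat.dvd_gcd h3 (s5 ▸ card_dvd_of_le s1 : Nat.card T0 ∣ 2 ^ 21)).trans (by decide)
    exact absurd (Nat.le_of_dvd (by decide) h5) (by omega)
  have h3 : Q ≤ K := inf_eq_left.1 (eq_of_le_of_card_ge inf_le_left (by rw [h2, g.cQ]))
  have h4 : T ≤ T0 := by
    by_contra e
    obtain ⟨a, ha, ha'⟩ := SetLike.exists_of_lt (lt_inf_normalizer_of_lt s3 (lt_of_le_not_ge s1 e))
    refine ha' (s6 ⟨mem_centralizer_singleton_iff.2 (mul_inv_eq_iff_eq_mul.1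
      ((g.self_cent _ fun q hq => ?_).resolve_left fun e => g.z_ne (conj_eq_one_iff.1 e))), ha.1⟩)
    have := mem_centralizer_singleton_iff.1 (t2 (inv_conj_mem_of_mem_normalizer ha.2
      (t1 ⟨hq, h3 hq⟩))).1
    rw [← comm_conj_iff (g := a), show a * (a⁻¹ * q * a) * a⁻¹ = q by group] at this
    exact this.symm
  obtain ⟨b1, b2⟩ := g.cN_dvd h hU
  have h5 := frat (S := Q ⊓ centralizer {c}) (N := centralizer {c} ⊓ K)
    (K := normalizer (zpowers c : Set G) ⊓ K) (p := 2) g.pQ.to_inf_left (le_inf inf_le_right hQ)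
    (fun e => by
      have := card_mul_relIndex_of_le (le_inf inf_le_right hQ : Q ⊓ centralizer {c} ≤ _)
      rw [g.Q8, b2] at this
      omega) (inf_le_inf_right _ (cent_zpowers c ▸ centralizer_le_normalizer _))
    (le_normalizer_inf (inf_le_left.trans (cent_zpowers c ▸ normalizer_le_normalizer_centralizer _))
      (inf_le_right.trans le_normalizer))
  have h6 : 88 ∣ Nat.card (normalizer (Q ⊓ centralizer {c} : Subgroup G) ⊓ (centralizer {c} ⊓ K) :
      Subgroup G) := Nat.Coprime.mul_dvd_of_dvd_of_dvd (m := 8) (n := 11) (by decide)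
    (g.Q8 ▸ card_dvd_of_le (le_inf le_normalizer (le_inf inf_le_right hQ)))
    (g.oc ▸ orderOf_dvd_natCard _ ⟨le_normalizer_inf (A := zpowers c) (zpowers_le.2 (g.Hn hc.1))
      (le_trans (zpowers_le.2 (mem_centralizer_singleton_iff.2 rfl)) le_normalizer) (mem_zpowers c),
      mem_centralizer_singleton_iff.2 rfl, hc.2⟩)
  have h7 := card_dvd_of_le (show normalizer (Q ⊓ centralizer {c} : Subgroup G) ⊓
      (normalizer (zpowers c : Set G) ⊓ K) ≤ normalizer (zpowers c : Set G) ⊓ (centralizer {z} ⊓ K)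
    from fun a ha => ⟨ha.2.1, mem_centralizer_singleton_iff.2 (mul_inv_eq_iff_eq_mul.1 (g.uniq _
      (g.Q8_le (conj_mem_of_mem_normalizer ha.1 hz)) ((CL.Small.orderOf_conj' _ _).trans g.oz))),
        ha.2.2⟩)
  have h8 : Nat.card (normalizer (zpowers c : Set G) ⊓ (centralizer {z} ⊓ K) : Subgroup G) ∣ 880 :=
    Nat.dvd_gcd (g.cN ▸ card_dvd_of_le (le_inf (inf_le_right.trans inf_le_left) inf_le_left))
      (b1 ▸ card_dvd_of_le (inf_le_inf_left _ inf_le_right))
  have h9 := card_mul_relIndex_of_le (inf_le_left : centralizer {z} ⊓ K ≤ _)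
  rw [g.cH] at h9
  have h10 := cnt_mod (by decide) (fun e => absurd (e.trans (Dvd.intro _ h9)) (by decide)) hc g.oc
  rw [b1, b2] at h5
  have h11 := Nat.dvd_antisymm h8 (Dvd.dvd.trans (by omega) h7)
  have h12 : 2 ^ 21 * 55 ∣ Nat.card (centralizer {z} ⊓ K : Subgroup G) :=
    Nat.Coprime.mul_dvd_of_dvd_of_dvd (by decide) (s5 ▸ card_dvd_of_le (h4.trans t2))
      (Dvd.dvd.trans (by decide) (h11 ▸ card_dvd_of_le inf_le_right))
  obtain ⟨n, hn⟩ := h12
  rw [h11, hn] at h10
  rw [hn, mul_assoc] at h9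
  obtain rfl : n = 63 := (by decide +kernel : ∀ n ∈ Nat.divisors 189,
    2 ^ 21 * 55 * n / 880 % 11 = 1 → n = 63) n (Nat.mem_divisors.2 ⟨Dvd.intro _
      (Nat.eq_of_mul_eq_mul_left (show 0 < 2 ^ 21 * 55 by decide) h9), by decide⟩) h10
  obtain ⟨R, r1, r2, r3⟩ := g.perf
  have h13 := perf_le (R := R.subgroupOf (centralizer {z}))
    (X := (centralizer {z} ⊓ K).subgroupOf (centralizer {z})) (map_injective (subtype_injective _)
      (by rw [map_commutator, subgroupOf_map_subtype, inf_eq_left.2 r1, r2])) (by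
        show (centralizer {z} ⊓ K).relIndex _ = 3
        omega)
  exact absurd (hn ▸ r3.trans (card_dvd_of_le fun a ha => h13 (show (⟨a, r1 ha⟩ :
    centralizer ({z} : Set G)) ∈ _ from ha))) (by decide)

theorem i37 {K : Subgroup G} : Nat.card K ≠ 97598130094080 := fun h => by
  have : Fact (Nat.Prime 11) := ⟨by decide⟩
  obtain ⟨R, r1, r2⟩ := exists_le_card (p := 11) (n := 3) (K := K) (by rw [h]; decide)
  obtain ⟨a, ha⟩ := g.conjU (IsPGroup.of_card r2)
  have h1 : U ≤ cj a K := (eq_of_le_of_card_ge ((map_conj_le_iff _ _ _).2 ha)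
    (by rw [card_map_conj, r2, g.cU]; decide)).ge.trans (map_mono r1)
  replace h : Nat.card (cj a K) = 97598130094080 := (card_map_conj K a).trans h
  generalize cj a K = K at h h1
  obtain ⟨T, t1, t2⟩ := exists_le_card (p := 2) (n := 3) (K := centralizer {c} ⊓ K)
    (by rw [(g.cN_dvd h h1).2]; decide)
  obtain ⟨b, h2, h3⟩ := g.conjQ (IsPGroup.of_card t2) (t1.trans inf_le_left)
  refine g.i37' (K := cj b K) ((card_map_conj _ _).trans h) ?_ ((eq_of_le_of_card_ge
    ((map_conj_le_iff _ _ _).2 h3) (by rw [card_map_conj, t2, g.Q8]; decide)).ge.trans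
      (map_mono (t1.trans inf_le_right)))
  exact (map_conj_eq_self_of_mem_normalizer (g.NU.ge (centralizer_le_normalizer _
    (cent_zpowers c ▸ mem_centralizer_singleton_iff.2 h2)))).ge.trans (map_mono h1)

end GD

end CL.J4.Mx
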