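import Cfsg.Agent.SPOR.J4.MxEasy

/-!
The normaliser of a self-centralising elementary abelian subgroup of order `2 ^ 10` is maximal.
-/

set_option autoImplicit false

namespace CL.J4.Mx

open Cfsg Subgroup CL.Orb CL.Tr CL.Golay CL.CG CL.F2M CL.LX CL.MAut

variable {G : Type*} [Group G] [Finite G]

theorem cnt_syl {p : ℕ} [Fact p.Prime] (S : Sylow p G) {K : Subgroup G}
    (h : normalizer ((S : Subgroup G) : Set G) ≤ K) :
    Nat.card K / Nat.card (normalizer ((S : Subgroup G) : Set G)) % p = 1 := by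
  have h1 := CL.Small.card_sylow_mul_card_normalizer (S.subtype (le_normalizer.trans h))
  rw [card_norm_map, Sylow.coe_subtype, subgroupOf_map_subtype, inf_eq_left.2 (le_normalizer.trans h),
    inf_eq_left.2 h] at h1
  rw [← h1, Nat.mul_div_cancel _ Nat.card_pos, card_sylow_modEq_one p K,
    Nat.mod_eq_of_lt (Fact.out : p.Prime).one_lt]

theorem s5_of {z : G} {V : Subgroup G} {θ : Finset GolayPt → G} {χ : M24 →* G} (h : JS z V θ χ)
    {y a : G} (hy : orderOf y = 7) {D : Subgroup G} (hD : D ≤ centralizer {y})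
    (h0 : Nat.card D = 420) (ha : a ∈ D) (ho : orderOf a = 2) :
    ¬ 3 ∣ Nat.card (centralizer {y} ⊓ centralizer {a} : Subgroup G) := by
  obtain ⟨ι, Z, μ, φ, σ, ν, f, P, hσ⟩ := h.exists_pen7 (S := zpowers y) (by rw [Nat.card_zpowers, hy])
  have h1 : centralizer {y} = P.F7.range := by
    rw [← cent_zpowers, hσ, cent_zpowers, (P.seven_aux h).1]
  obtain ⟨⟨b, π⟩, rfl⟩ := h1.le (hD ha)
  rw [orderOf_injective _ P.F7_inj] at ho
  have h2 : Nat.card (zpowers σ) = 7 := by rw [Nat.card_zpowers, P.σ_ord]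
  have h3 : π ^ 2 = 1 := congrArg Prod.snd (ho ▸ pow_orderOf_eq_one (b, π))
  have h4 : π ≠ 1 := by
    rintro rfl
    have := orderOf_dvd_natCard b
    rw [Prod.orderOf_mk, orderOf_one, Nat.lcm_one_right] at ho
    rw [ho, h2] at this
    exact absurd this (by decide)
  have h5 := card_mul_relIndex_of_le hD
  rw [h0, ← cent_zpowers, hσ, cent_zpowers, P.card_cent7 h, (P.seven_aux h).1] at h5
  have h6 := relIndex_le_of_le_right (H := D) (MonoidHom.range_comp P.F7 (MonoidHom.inr _ _) ▸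
    map_le_range _ _ : (P.F7.comp (MonoidHom.inr _ _)).range ≤ P.F7.range) (by omega)
  have h7 : D.relIndex (P.F7.comp (MonoidHom.inr _ _)).range ≠ 1 := fun e => by
    have := card_dvd_of_le (relIndex_eq_one.1 e)
    rw [h0, ← Nat.card_congr (MonoidHom.ofInjective (f := P.F7.comp (MonoidHom.inr _ _))
      (P.F7_inj.comp (Prod.mk_right_injective 1))).toEquiv, Nat.card_eq_fintype_card,
      Fintype.card_perm] at this
    exact absurd this (by decide)
  have h8 : D.relIndex (P.F7.comp (MonoidHom.inr _ _)).range ≠ 0 := index_ne_zero_of_finite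
  replace h8 : D.relIndex (P.F7.comp (MonoidHom.inr _ _)).range = 2 := by omega
  have h9 : π ^ 7 ∈ alternatingGroup (Fin 5) := by
    rw [← Equiv.Perm.eq_alternatingGroup_of_index_eq_two (G := D.comap (P.F7.comp (MonoidHom.inr _ _)))
      ((index_comap _ _).trans h8)]
    have := pow_mem ha 7
    rwa [← map_pow, Prod.pow_mk, ← h2, pow_card_eq_one', h2] at this
  have h10 : Nat.card (centralizer ({π} : Set S5)) = 8 := by
    rw [card_cent_eq]
    exact (by decide +kernel : ∀ π : S5, π ^ 2 = 1 → π ≠ 1 → Equiv.Perm.sign (π ^ 7) = 1 →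
      (Finset.univ.filter fun x => x * π = π * x).card = 8) π h3 h4 h9
  refine fun k => absurd (k.trans ((card_dvd_of_le (K := ((⊤ : Subgroup (zpowers σ)).prod
    (centralizer {π})).map P.F7) fun x hx => ?_).trans (dvd_of_eq (b := 7 * 8) ?_))) (by decide)
  · obtain ⟨⟨b, τ⟩, rfl⟩ := h1.le hx.1
    have := mem_centralizer_singleton_iff.1 hx.2
    rw [← map_mul, ← map_mul] at this
    exact ⟨_, ⟨trivial, mem_centralizer_singleton_iff.2 (congrArg Prod.snd (P.F7_inj this))⟩, rfl⟩
  · rw [card_map_of_injective P.F7_inj, Nat.card_congr (Subgroup.prodEquiv _ _).toEquiv, Nat.card_prod,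
      card_top, h2, h10]

theorem norm_norm {A : Subgroup G} (h0 : A ≠ ⊥) (h1 : centralizer (A : Set G) = A)
    (h2 : ∀ W ≤ A, normalizer (A : Set G) ≤ normalizer (W : Set G) → W = ⊥ ∨ W = A) :
    normalizer (normalizer (A : Set G) : Set G) ≤ normalizer (A : Set G) := fun k hk => by
  have h3 : normalizer (A : Set G) = normalizer (cj k A : Set G) := by
    rw [← map_conj_normalizer, map_conj_eq_self_of_mem_normalizer hk]
  rcases h2 (A ⊓ cj k A) inf_le_left (le_normalizer_inf le_rfl h3.le) with h4 | h4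
  · refine absurd (h4 ▸ inf_eq_right.2 (fun b hb => h1.le fun a ha => ?_)) (by
      rwa [Ne, map_eq_bot_iff_of_injective _ (MulAut.conj k).injective] : cj k A ≠ ⊥).symm
    have : a * b * a⁻¹ * b⁻¹ ∈ A ⊓ cj k A := ⟨by
      rw [mul_assoc, mul_assoc, ← mul_assoc b]
      exact A.mul_mem ha (conj_mem_of_mem_normalizer (h3.ge (le_normalizer hb)) (A.inv_mem ha)),
      (cj k A).mul_mem (conj_mem_of_mem_normalizer (h3.le (le_normalizer ha)) hb)
        ((cj k A).inv_mem hb)⟩
    rwa [h4, mem_bot, mul_inv_eq_one, mul_inv_eq_iff_eq_mul] at this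
  · exact mem_normalizer_of_map_conj_eq (eq_of_le_of_card_ge (inf_eq_left.1 h4)
      (card_map_conj _ _).le).symm

theorem GD.ten [IsSimpleGroup G] {z c : G} {Q U A : Subgroup G} (g : GD z Q c U)
    (h5 : ∀ {y a : G}, orderOf y = 7 → ∀ {D : Subgroup G}, D ≤ centralizer {y} → Nat.card D = 420 →
      a ∈ D → orderOf a = 2 → ¬ 3 ∣ Nat.card (centralizer {y} ⊓ centralizer {a} : Subgroup G))
    (h0 : Nat.card A = 2 ^ 10) (h1 : centralizer (A : Set G) = A)
    (h2 : ∀ W ≤ A, normalizer (A : Set G) ≤ normalizer (W : Set G) → W = ⊥ ∨ W = A)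
    (h3 : Nat.card (normalizer (A : Set G)) = 2 ^ 10 * 9999360) :
    IsCoatom (normalizer (A : Set G)) := by
  refine g.coatom h3 (by decide) (by decide) sieveA fun K hK i hi h => ?_
  simp only [List.mem_cons, List.not_mem_nil, or_false] at hi
  rcases hi with rfl | rfl | rfl
  · have h4 := card_mul_relIndex_of_le hK
    rw [h, h3] at h4
    have h6 := card_le_of_le ((le_normalizer_of_normal_subgroupOf (hK := normal_of_index_eq_two
      (show (normalizer (A : Set G)).relIndex K = 2 by omega)) hK).trans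
        (norm_norm (by rintro rfl; simp at h0) h1 h2))
    omega
  swap
  · have h4 := K.index_mul_card
    rw [h, g.card, oG] at h4
    rcases (normal_of_index_eq_two (show K.index = 2 by omega)).eq_bot_or_eq_top with rfl | rfl
    · simp at h
    · simp at h4 h
  have k : ∀ X : Subgroup G, 7 * 31 ∣ Nat.card X → ∃ c, c ∣ 120 ∧ Loc X 7 3 c := fun X hX => by
    obtain ⟨e, c, he, L⟩ := exists_loc (N := X) (q := 7) (by decide) (by decide)
      (fun k => absurd (k.trans (g.dvd_oG (nk_self X))) (by decide)) ((dvd_mul_right _ _).trans hX)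
    obtain ⟨b1, b2, -⟩ := g.bounds (nk_self X) (by decide) (t := (7, 3, 120, 360)) (by decide) he L
    have := g.one_lt L (g.loc (31, 10, 1, 10) (by decide) (by decide)) (by decide)
      ((dvd_mul_left _ _).trans hX) (by decide)
    obtain rfl := ((Nat.dvd_prime Nat.prime_three).1 b1).resolve_left this.ne'
    exact ⟨c, b2, L⟩
  obtain ⟨c, c1, L⟩ := k _ (by rw [h3]; decide)
  obtain ⟨d, d1, L'⟩ := k _ (by rw [h]; decide)
  obtain ⟨⟨y, hy⟩, oy⟩ := L.exists_y
  rw [orderOf_mk] at oy
  have h4 := ((nk_self _).loc L hy oy).1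
  have h6 := ((nk_self _).loc L' (hK hy) oy).1
  have h7 := fix_dvd (by decide) oy hy
  have l1 : A ⊓ centralizer {y} ≤ centralizer {y} ⊓ normalizer (A : Set G) :=
    le_inf inf_le_right (inf_le_left.trans le_normalizer)
  have h8 := h4 ▸ card_dvd_of_le l1
  have h9 := h6 ▸ h4 ▸ card_dvd_of_le (inf_le_inf_left (centralizer {y}) hK)
  obtain ⟨n, hn, h10⟩ := two_pow_of_dvd
    (h0 ▸ card_dvd_of_le inf_le_left : Nat.card (A ⊓ centralizer {y} : Subgroup G) ∣ _)
  rw [h0, h10] at h7
  obtain ⟨rfl, rfl, rfl⟩ : c = 12 ∧ d = 60 ∧ n = 1 := by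
    have a1 := (by decide +kernel : ∀ c ∈ Nat.divisors 120,
      syl (2 ^ 10 * 9999360) 7 (7 * c * 3) = true → c = 5 ∨ c = 12 ∨ c = 40) c
      (Nat.mem_divisors.2 ⟨c1, by decide⟩) (h3 ▸ L.syl)
    have a2 := (by decide +kernel : ∀ d ∈ Nat.divisors 120,
      syl (2 ^ 10 * 9999360 * 33) 7 (7 * d * 3) = true → d = 4 ∨ d = 60) d
      (Nat.mem_divisors.2 ⟨d1, by decide⟩) (h ▸ L'.syl)
    rw [h10] at h8
    rcases a1 with rfl | rfl | rfl <;> rcases a2 with rfl | rfl <;> interval_cases n <;> omega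
  obtain ⟨a, ha, oa⟩ := exists_orderOf Nat.prime_two h10.symm.dvd
  have h11 := eq_of_le_of_card_ge (zpowers_le.2 ha) (by rw [h10, Nat.card_zpowers, oa]; rfl)
  refine h5 oy inf_le_left h6 ⟨ha.2, hK (le_normalizer ha.1)⟩ oa (Dvd.dvd.trans (by decide)
    (h4 ▸ card_dvd_of_le (le_inf inf_le_left fun t ht => mem_centralizer_singleton_iff.2
      (mul_inv_eq_iff_eq_mul.1 ?_))))
  exact ((mem_zpowers_of_sq (by rw [← sq, ← oa, pow_orderOf_eq_one])).1 (h11.ge
    (conj_mem_of_mem_normalizer (le_normalizer_inf inf_le_right (inf_le_left.trans le_normalizer) ht)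
      ha))).resolve_left fun e => by rw [conj_eq_one_iff.1 e] at oa; simp at oa

end CL.J4.Mx
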