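import Cfsg.Agent.SPOR.J4.Red

/-!
Small facts on `M22`, and rigidity of the twelve-dimensional linear group.
-/

set_option autoImplicit false
set_option maxRecDepth 100000
set_option linter.unusedSectionVars false
set_option linter.unusedVariables false

namespace CL.J4

open Finset CL.K CL.CG CL.F2M CL.LX CL.MSS Cfsg CL.Golay CL.MAut MulAction CL.FiRec CL.Fus CL.Orb
open CL.F24 hiding qf bf qf_add bf_add_left bf_comm bf_add_right bf_self qf_zero bf_zero_left bf_zero_right bf_eq qC bC qC_code bC_code Z0 code_Z0 code_Z0_inv Z0_sq Z0_cube Z0_sum add_Z0 eq_zero_of_Z0 qf_Z0 qf_Z0_inv bf_smul bf_Z0_self eq_zero_of_bf Frame cw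

attribute [local irreducible] gcode vcode

open scoped Pointwise

/-- an involution of `M22` -/
def su : ℕ := 976768299277413956938701513523627072
/-- a four-group -/
def sL : List ℕ := [984818244535754528103549039458486304, 976768299277413956938701513523627072, 958816971593803810495111138405407232, 956943460760686756302879650004681408]
/-- generators of a Sylow 2-subgroup -/
def sG : List ℕ := [980147661057599054037801818848961760, 975504170615426334858823189022743168, 967167441550452619729807789736480064]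

theorem sL_ok : lgOK sL = true := by decide +kernel

theorem R_su : R (pm su) su := Golay.R.pm (by decide +kernel)

/-- cuts out a Sylow 2-subgroup of `M22` -/
def K2 : Subgroup Pm :=
  stabilizer Pm (none : GolayPt) ⊓ (Subgroup.centralizer {pm su} ⊓ Subgroup.normalizer (lgrp sL sL_ok : Set Pm))

/-- membership test -/
noncomputable def k2 (P : ℕ) : Bool := Nat.beq (app24 P 23) 23 &&
  (Nat.beq (comp24 P su) (comp24 su P) && lall (fun s => force (conj24 P s) fun t => lmem t sL) sL)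

theorem mem_K2 {g : Pm} {P : ℕ} (hP : R g P) : g ∈ K2 ↔ k2 P = true := by
  rewrite [K2, k2, Subgroup.mem_inf, Subgroup.mem_inf, Bool.and_eq_true, Bool.and_eq_true,
    mem_norm_lgrp sL_ok hP, Subgroup.mem_centralizer_singleton_iff, Nat.beq_eq, Nat.beq_eq,
    hP.comp24_eq_iff R_su R_su hP]
  refine and_congr_left' ⟨fun h => MAut.R.app_eq hP (p := none) h, fun h => ?_⟩
  exact E.enc_injective ((hP none).trans (by rw [← app24_eq]; exact h))

theorem S2_le : Duad ⊓ K2 ≤ Spor.M22 := fun g hg => by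
  obtain ⟨a1, a2 | a2⟩ := mem_Duad.1 hg.1
  · exact mem_M22.2 ⟨a1, a2⟩
  · exact absurd (a2.1.symm.trans hg.2.1) (by simp)

theorem card_S2 : Nat.card (Duad ⊓ K2 : Subgroup Pm) = 128 :=
  (card_Duad_sep (K := K2) (q := fun P => cond (k2 P) 1 0) ((Enc.Snd.cConj R_su R_su).mono fun _ h =>
    Subgroup.mem_centralizer_singleton_iff.1 h.2.1) fun g P hP => by
      rw [mem_K2 hP]
      exact ⟨fun e => by rw [e]; rfl, fun e => by rw [Bool.eq_false_iff.2 e]; rfl⟩).trans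
    (by decide +kernel)

theorem sG_in : ∀ A ∈ sG, R (pm A) A ∧ pm A ∈ Duad ⊓ K2 := fun A hA => by
  have : lall (fun A => (okM A && th22 A) && k2 A) sG = true := by decide +kernel
  have h := Bool.and_eq_true_iff.1 (lall_iff.1 this A hA)
  exact ⟨rp (inD h.1), (inD h.1).permOf_mem, (mem_K2 (rp (inD h.1))).2 h.2⟩

theorem bimp {a b c : Bool} (h : (!(a && b) || c) = true) (ha : a = true) (hb : b = true) :
    c = true := by subst ha hb; exact h

theorem cent_S2 {g : Pm} (hg : g ∈ Duad ⊓ K2) (hc : ∀ A ∈ sG, g * pm A = pm A * g) :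
    g = 1 ∨ g = pm su := by
  obtain ⟨P, hP, h1⟩ := all_Duad (Enc.Snd.cConj R_su R_su) (p := fun P => !(Nat.beq (app24 P 23) 23 &&
    lall (fun A => Nat.beq (comp24 P A) (comp24 A P)) sG) || (Nat.beq P one24 || Nat.beq P su))
    (by decide +kernel) hg.1 (Subgroup.mem_centralizer_singleton_iff.1 hg.2.2.1)
  rcases Bool.or_eq_true_iff.1 (bimp h1 (Nat.beq_eq.mpr (MAut.R.app_eq hP (p := none) hg.2.1))
    (lall_iff.2 fun A hA => Nat.beq_eq.mpr
      ((hP.comp24_eq_iff (sG_in A hA).1 (sG_in A hA).1 hP).2 (hc A hA)))) with h1 | h1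
  · exact Or.inl (MAut.R.eq_of hP Golay.R.one (CG.eq_of_beq h1))
  · exact Or.inr (MAut.R.eq_of hP R_su (CG.eq_of_beq h1))

theorem norm_S2 {w : Pm} (hD : w ∈ Duad) (h3 : w ^ 3 = 1)
    (hw : ∀ r ∈ Duad ⊓ K2, w * r * w⁻¹ ∈ Duad ⊓ K2) : w = 1 := by
  have hu : pm su ∈ Duad ⊓ K2 :=
    ⟨(inD (A := su) (by decide +kernel)).permOf_mem, (mem_K2 R_su).2 (by decide +kernel)⟩
  have e : w⁻¹ = w * w := by rw [inv_eq_iff_mul_eq_one, ← pow_three, h3]
  have hc : ∀ A ∈ sG, w * pm su * w⁻¹ * pm A = pm A * (w * pm su * w⁻¹) := fun A hA => by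
    have h1 := Subgroup.mem_centralizer_singleton_iff.1 (hw _ (hw _ (sG_in A hA).2)).2.2.1
    generalize pm A = a, pm su = u at h1 ⊢
    have h2 : w * (w * a * w⁻¹) * w⁻¹ = w⁻¹ * a * w := by
      rw [← mul_assoc, ← mul_assoc, ← e, mul_assoc _ w⁻¹, ← mul_inv_rev, ← e, inv_inv]
    rw [h2] at h1
    calc _ = w * (u * (w⁻¹ * a * w)) * w⁻¹ := by group
      _ = _ := by rw [← h1]; group
  have h2 : w * pm su = pm su * w := by
    rcases cent_S2 (hw _ hu) hc with h1 | h1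
    · rw [conj_eq_one_iff.1 h1, mul_one, one_mul]
    · exact mul_inv_eq_iff_eq_mul.1 h1
  obtain ⟨P, hP, h1⟩ := all_Duad (Enc.Snd.cConj R_su R_su) (p := fun P =>
    !(Nat.beq (pow24 P 3) one24 && lall (fun A => force (conj24 P A) k2) sG) || Nat.beq P one24)
    (by decide +kernel) hD h2
  refine MAut.R.eq_of hP Golay.R.one (CG.eq_of_beq (bimp h1
    (Nat.beq_eq.mpr ((hP.pow_succ_eq_one_iff 2).2 h3)) (lall_iff.2 fun A hA => ?_)))
  rewrite [force_eq]
  exact (mem_K2 (hP.conj (sG_in A hA).1)).1 (hw _ (sG_in A hA).2).2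

theorem exists_conj_le {K : Type*} [Group K] [Finite K] {p : ℕ} [Fact p.Prime] {A T : Subgroup K}
    (hA : IsPGroup p A) (hT : IsPGroup p T) (hi : ¬ p ∣ T.index) :
    ∃ g : K, ∀ a ∈ A, g * a * g⁻¹ ∈ T := by
  obtain ⟨B, hB⟩ := hA.exists_le_sylow
  obtain ⟨g, hg⟩ := exists_smul_eq K B (hT.toSylow hi)
  refine ⟨g, fun a ha => ?_⟩
  have : g * a * g⁻¹ ∈ ((g • B : Sylow p K) : Subgroup K) :=
    Subgroup.smul_mem_pointwise_smul a (MulAut.conj g) _ (hB ha)
  rwa [hg] at this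

theorem sub_M22 {T : Subgroup Pm} (h : T ≤ Spor.M22) {p k m : ℕ} (hc : Nat.card T = p ^ k)
    (hp : 0 < p) (e : 443520 = p ^ k * m) (hm : ¬ p ∣ m) :
    IsPGroup p (T.subgroupOf Spor.M22) ∧ ¬ p ∣ (T.subgroupOf Spor.M22).index := by
  have h1 : Nat.card (T.subgroupOf Spor.M22) = p ^ k := by
    rw [Nat.card_congr (Subgroup.subgroupOfEquivOfLe h).toEquiv, hc]
  have h2 := (T.subgroupOf Spor.M22).card_mul_index
  rw [h1, card_M22, e] at h2
  exact ⟨IsPGroup.of_card h1, by rwa [Nat.eq_of_mul_eq_mul_left (pow_pos hp k) h2]⟩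

theorem syl2_M22 {R : Subgroup Spor.M22} (hR : Nat.card R = 128) {w : Spor.M22} (h3 : w ^ 3 = 1)
    (hw : ∀ r ∈ R, w * r * w⁻¹ ∈ R) : w = 1 := by
  have : Fact (Nat.Prime 2) := ⟨Nat.prime_two⟩
  obtain ⟨a1, a2⟩ := sub_M22 S2_le (p := 2) (k := 7) (m := 3465) card_S2 (by norm_num) (by norm_num)
    (by norm_num)
  obtain ⟨g, hg⟩ := exists_conj_le (IsPGroup.of_card (n := 7) hR) a1 a2
  have h1 : R.map (Spor.M22.subtype.comp (MulAut.conj g).toMonoidHom) = Duad ⊓ K2 :=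
    Subgroup.eq_of_le_of_card_ge (by rintro _ ⟨r, hr, rfl⟩; exact hg r hr) (by
      rw [Subgroup.card_map_of_injective (f := Spor.M22.subtype.comp (MulAut.conj g).toMonoidHom)
        ((Subgroup.subtype_injective _).comp (MulAut.conj g).injective), hR, card_S2])
  have h2 := norm_S2 (w := (g * w * g⁻¹ : Spor.M22)) (M22_le_Duad (g * w * g⁻¹).2)
    (by rw [← Subgroup.coe_pow, conj_pow, h3]; simp) (by
      rw [← h1]
      rintro _ ⟨r, hr, rfl⟩
      exact ⟨_, hw r hr, by simp [mul_assoc]⟩)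
  exact conj_eq_one_iff.1 (OneMemClass.coe_eq_one.1 h2)

theorem real3_M22 {y : Spor.M22} (h3 : y ^ 3 = 1) : ∃ k : Spor.M22, k * y * k⁻¹ = y⁻¹ := by
  have : Fact (Nat.Prime 3) := ⟨Nat.prime_three⟩
  obtain ⟨a1, a2⟩ := sub_M22 T3_le (p := 3) (k := 2) (m := 49280) card_T3 (by norm_num) (by norm_num)
    (by norm_num)
  obtain ⟨g, hg⟩ := exists_conj_le (isPGroup_zpowers (k := 1) (by rw [pow_one, h3])) a1 a2
  obtain ⟨P, hP, h⟩ := hg y (Subgroup.mem_zpowers y)
  have hi : I Spor.M22 983549310955746530506231437997410400 := inM (by decide +kernel)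
  have : lall (fun P => Nat.beq (conj24 983549310955746530506231437997410400 P) (inv24 P)) T3L =
    true := by decide +kernel
  have e := MAut.R.eq_of ((rp hi).conj h) h.inv (CG.eq_of_beq (lall_iff.1 this P hP))
  have e' : (⟨_, hi.permOf_mem⟩ : Spor.M22) * (g * y * g⁻¹) * (⟨_, hi.permOf_mem⟩ : Spor.M22)⁻¹ =
    (g * y * g⁻¹)⁻¹ := Subtype.ext e
  generalize (⟨_, hi.permOf_mem⟩ : Spor.M22) = i at e'
  refine ⟨g⁻¹ * i * g, ?_⟩
  calc _ = g⁻¹ * (i * (g * y * g⁻¹) * i⁻¹) * g := by group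
    _ = _ := by rw [e']; group
theorem ea_M22 {R : Subgroup Spor.M22} (h2 : ∀ r ∈ R, r * r = 1) : Nat.card R ≠ 32 := fun hR => by
  classical
  let A := R.map Spor.M22.subtype
  have hA : Nat.card A = 32 := by
    rw [Subgroup.card_map_of_injective (Subgroup.subtype_injective _), hR]
  have := Fintype.ofFinite A
  have := Fintype.ofFinite (orbitRel.Quotient A GolayPt)
  have h1 := sum_card_fixedBy_eq_card_orbits_mul_card_group A GolayPt
  have h3 : ∀ a : A, Fintype.card (fixedBy GolayPt a) = 8 + if a = 1 then 16 else 0 := fun a => by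
    have e : Fintype.card (fixedBy GolayPt a) = (fixS (a : Pm)).card :=
      Fintype.card_of_subtype _ fun p => mem_fixS
    rw [e]
    split_ifs with h
    · rw [h]
      have : fixS ((1 : A) : Pm) = univ := eq_univ_of_forall fun p => mem_fixS.2 rfl
      rw [this, card_univ, card_pt]
    · obtain ⟨_, r, hr, rfl⟩ := a
      have : Fact (Nat.Prime 2) := ⟨Nat.prime_two⟩
      have m := mem_M22.1 r.2
      exact ((conjTo_2A m.1 (orderOf_eq_prime (by rw [pow_two]; exact congrArg Subtype.val (h2 r hr))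
        fun e => h (Subtype.ext e)) fun e => card_fixS_eq_zero.1 e _ m.2.1).card_fixS).trans
          card_fixS_2A
  simp only [h3, sum_add_distrib, sum_const, card_univ, sum_ite_eq', mem_univ, if_true] at h1
  rw [← Nat.card_eq_fintype_card (α := A), hA, smul_eq_mul] at h1
  omega


/-! ### The linear group normalises `Z0` -/

theorem LG_norm {δ : GL12} (h : δ ∈ (gen gcode LG : Subgroup GL12)) :
    δ * Z0 = Z0 * δ ∨ δ * Z0 = Z0⁻¹ * δ := by
  have h1 : (gen gcode LG : Subgroup GL12) ≤ Subgroup.normalizer (Subgroup.zpowers Z0 : Set GL12) := by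
    refine (Subgroup.closure_le _).2 fun g hg => Subgroup.mem_normalizer_fintype ?_
    rintro _ ⟨i, rfl⟩
    have : lall (fun c => Nat.beq (mm c cX) (mm cX c) || Nat.beq (mm c cX) (mm cXX c)) LG = true := by
      decide +kernel
    have h2 : g * Z0 * g⁻¹ ∈ Subgroup.zpowers Z0 := by
      rcases Bool.or_eq_true_iff.1 (lall_iff.1 this _ hg) with e | e <;> replace e := CG.eq_of_beq e
      · rewrite [← code_Z0, C12.map_mul, C12.map_mul] at e
        rw [C12.inj e, mul_inv_cancel_right]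
        exact Subgroup.mem_zpowers _
      · rewrite [← code_Z0_inv, ← code_Z0, C12.map_mul, C12.map_mul] at e
        rw [C12.inj e, mul_inv_cancel_right]
        exact inv_mem (Subgroup.mem_zpowers _)
    simp only [← conj_zpow]
    exact zpow_mem h2 i
  rcases mem_zpowers_three Z0_cube
    ((Subgroup.mem_normalizer_iff.1 (h1 h) Z0).1 (Subgroup.mem_zpowers _)) with e | e | e
  · exact absurd (congrFun (eq_zero_of_Z0 (v := eb 0) (by rw [conj_eq_one_iff.1 e, one_smul])) 0)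
      (by simp [eb])
  · exact Or.inl (mul_inv_eq_iff_eq_mul.1 e)
  · exact Or.inr (by rw [← Z0_sq, ← e, inv_mul_cancel_right])

theorem inMask_of {S k : ℕ} (h : S.testBit k = true) : inMask S k = true :=
  Nat.beq_eq.mpr (bit_eq_one_iff.2 h)

/-- the orbit of length 693 -/
def SS : Set W := {v | S693.testBit (vcode v) = true}

theorem SS_ne {v : W} (h : v ∈ SS) : v ≠ 0 := by
  rintro rfl
  have : S693.testBit (vcode (0 : W)) = true := h
  rw [vcode_zero] at this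
  exact absurd this (by decide +kernel)

theorem mem_SS {a : ℕ} (ha : a < 4096) : vdec 12 a ∈ SS ↔ S693.testBit a = true := by
  rw [SS, Set.mem_ofPred_eq, vcode_vdec ha]

theorem SS_inv {Γ : Subgroup GL12} (hL : gen gcode LG ≤ Γ) (hq : ∀ γ ∈ Γ, ∀ v, qf (γ • v) = qf v)
    (h81 : ¬ 81 ∣ Nat.card Γ) {γ : GL12} (hγ : γ ∈ Γ) {v : W} (hv : v ∈ SS) : γ • v ∈ SS := by
  by_contra hn
  have c1 := (A12.orbit_eq C12 top_LG (b := 1) (S := S693) (m := 693) (by norm_num)
    (by decide +kernel)).1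
  have c2 := (A12.orbit_eq C12 top_LG (b := 20) (S := S1386) (m := 1386) (by norm_num)
    (by decide +kernel)).1
  change (orbit (gen gcode LG : Subgroup GL12) (vdec 12 1)).ncard = _ at c1
  change (orbit (gen gcode LG : Subgroup GL12) (vdec 12 20)).ncard = _ at c2
  have q0 : ∀ w, qf w = 0 ↔ qC (vcode w) = 0 := fun w => by rw [qC_code, ZMod.val_eq_zero]
  have q1 : qf (vdec 12 1) = 0 := by rw [q0, vcode_vdec (by norm_num)]; decide +kernel
  have cs : ∀ g ∈ Γ, g • vdec 12 1 ∈ orbit (gen gcode LG : Subgroup GL12) (vdec 12 1) ∪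
      orbit (gen gcode LG : Subgroup GL12) (vdec 12 20) := fun g hg => by
    have h1 := (q0 _).1 ((hq g hg _).trans q1)
    rcases vec_cases (vcode_lt (g • vdec 12 1)) with ⟨-, e | e | e⟩ | ⟨e, -⟩
    · exact absurd ((smul_eq_zero_iff_eq g).1 (vcode_injective (e.trans vcode_zero.symm)))
        (SS_ne ((mem_SS (by norm_num)).2 (by decide +kernel)))
    · exact Or.inl ((orb693 _).2 e)
    · exact Or.inr ((orb1386 _).2 e)
    · omega
  obtain ⟨⟨δ, hδ⟩, rfl⟩ := (orb693 v).2 hv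
  have h1 : γ • δ • vdec 12 1 ∈ orbit (gen gcode LG : Subgroup GL12) (vdec 12 20) :=
    (mul_smul γ δ (vdec 12 1) ▸ cs _ (mul_mem hγ (hL hδ))).resolve_left fun e => hn ((orb693 _).1 e)
  have h2 : orbit Γ (vdec 12 1) = orbit (gen gcode LG : Subgroup GL12) (vdec 12 1) ∪
      orbit (gen gcode LG : Subgroup GL12) (vdec 12 20) := by
    refine Set.Subset.antisymm (by rintro _ ⟨g, rfl⟩; exact cs g g.2) ?_
    obtain ⟨⟨ε, hε⟩, e⟩ := h1
    rintro _ (⟨⟨g, hg⟩, rfl⟩ | ⟨⟨g, hg⟩, rfl⟩)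
    · exact ⟨⟨g, hL hg⟩, rfl⟩
    · refine ⟨⟨g * ε⁻¹ * γ * δ, mul_mem (mul_mem (mul_mem (hL hg) (inv_mem (hL hε))) hγ) (hL hδ)⟩, ?_⟩
      change (g * ε⁻¹ * γ * δ) • vdec 12 1 = g • vdec 12 20
      rw [mul_smul, mul_smul, ← show ε • vdec 12 20 = γ • δ • vdec 12 1 from e, mul_smul,
        inv_smul_smul]
  have h3 : (orbit Γ (vdec 12 1)).ncard = 2079 := by
    rw [h2, Set.ncard_union_eq (Set.disjoint_left.2 fun w a b => ?_), c1, c2]
    have : allN (fun c => !(inMask S693 c && inMask S1386 c)) 4096 = true := by decide +kernel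
    have h := allN_spec this _ (vcode_lt w)
    rewrite [inMask_of ((orb693 w).1 a), inMask_of ((orb1386 w).1 b)] at h
    exact absurd h (by decide)
  have m := mem_gen top_LG
  have mc := m cC (by simp [LG])
  have m1 := C12.mem_mul (C12.mem_mul (C12.mem_mul (C12.mem_mul (C12.mem_mul mc mc) mc)
    (m cE (by simp [LG]))) mc) (m cX (by simp [LG]))
  obtain ⟨s, hs, e⟩ := C12.mem_mul m1 m1
  have : Fact (Nat.Prime 3) := ⟨Nat.prime_three⟩
  have h0 : (⟨s, hL hs⟩ : Γ) ∈ stabilizer Γ (vdec 12 1) := smul_eq_of_code (g := s) (by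
    rw [vcode_vdec (by norm_num), e]; decide +kernel)
  have h4 : orderOf (⟨_, h0⟩ : stabilizer Γ (vdec 12 1)) = 3 := by
    rw [Subgroup.orderOf_mk, Subgroup.orderOf_mk]
    refine orderOf_eq_prime (C12.inj (by rw [code_pow e, C12.map_one]; decide +kernel)) fun e1 => ?_
    rw [e1, C12.map_one] at e
    exact absurd e (by decide +kernel)
  obtain ⟨k, hk⟩ := h4 ▸ orderOf_dvd_natCard _
  have h5 := (stabilizer Γ (vdec 12 1)).card_mul_index
  rw [index_stabilizer, h3, hk] at h5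
  exact h81 ⟨77 * k, by omega⟩

/-- an invariant relation -/
def Pp (v w : W) : Prop := ∀ u ∈ SS, u + v ∈ SS → bf u w = 0

theorem Pp_one (w : W) : Pp (vdec 12 1) w ↔
    w = 0 ∨ w = vdec 12 1 ∨ w = Z0 • vdec 12 1 ∨ w = Z0⁻¹ • vdec 12 1 := by
  have e1 : Z0 • vdec 12 1 = vdec 12 2 := smul_eq_of_code (by
    rw [code_Z0, vcode_vdec (by norm_num), vcode_vdec (by norm_num)]; decide +kernel)
  have e2 : Z0⁻¹ • vdec 12 1 = vdec 12 3 := smul_eq_of_code (by
    rw [code_Z0_inv, vcode_vdec (by norm_num), vcode_vdec (by norm_num)]; decide +kernel)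
  have b0 : ∀ u w, bf u w = 0 ↔ bC (vcode u) (vcode w) = 0 := fun u w => by
    rw [bC_code, ZMod.val_eq_zero]
  rw [e1, e2]
  constructor
  · intro h
    have h1 : lall (fun u => blt u 4096 && inMask S693 u && inMask S693 (Nat.xor u 1))
      [2, 3, 4, 8, 16, 32, 256, 512, 1024, 2048] = true := by decide +kernel
    have h2 : allN (fun c => !lall (fun u => Nat.beq (bC u c) 0)
      [2, 3, 4, 8, 16, 32, 256, 512, 1024, 2048] || blt c 4) 4096 = true := by decide +kernel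
    have h3 := allN_spec h2 _ (vcode_lt w)
    rewrite [lall_iff.2 fun u hu => ?_] at h3
    · have h4 : vcode w < 4 := lt_of_blt h3
      rw [← vdec_vcode w, ← vdec_zero]
      generalize vcode w = a at h4
      interval_cases a <;> simp
    · have h4 := lall_iff.1 h1 u hu
      rewrite [Bool.and_eq_true, Bool.and_eq_true] at h4
      have h5 := lt_of_blt h4.1.1
      have h6 := (b0 _ _).1 (h _ ((mem_SS h5).2 (inMask_spec h4.1.2)) (by
        rw [← vdec_xor]
        exact (mem_SS (Nat.xor_lt_two_pow (n := 12) h5 (by norm_num))).2 (inMask_spec h4.2)))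
      rewrite [vcode_vdec h5] at h6
      exact Nat.beq_eq.mpr h6
  · intro h u hu hu'
    have h1 : allN (fun u => !(inMask S693 u && inMask S693 (Nat.xor u 1)) ||
      allLt (fun c => Nat.beq (bC u c) 0) 4) 4096 = true := by decide +kernel
    have h2 : S693.testBit (Nat.xor (vcode u) 1) = true := by
      have : S693.testBit (vcode (u + vdec 12 1)) = true := hu'
      rwa [vcode_add, vcode_vdec (by norm_num)] at this
    have h3 := allLt_iff.1 (bimp (allN_spec h1 _ (vcode_lt u)) (inMask_of hu) (inMask_of h2))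
    have h4 : ∀ c < 4, bf u (vdec 12 c) = 0 := fun c hc => (b0 _ _).2 (by
      rw [vcode_vdec (by omega)]; exact CG.eq_of_beq (h3 c hc))
    rcases h with rfl | rfl | rfl | rfl
    exacts [bf_zero_right u, h4 1 (by norm_num), h4 2 (by norm_num), h4 3 (by norm_num)]

theorem norm_Z0 {Γ : Subgroup GL12} (hL : gen gcode LG ≤ Γ) (hq : ∀ γ ∈ Γ, ∀ v, qf (γ • v) = qf v)
    (h81 : ¬ 81 ∣ Nat.card Γ) {γ : GL12} (hγ : γ ∈ Γ) : γ * Z0 * γ⁻¹ ∈ Subgroup.zpowers Z0 := by
  have hP : ∀ g ∈ Γ, ∀ v w, Pp v w → Pp (g • v) (g • w) := fun g hg v w h u hu hu' => by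
    have := h (g⁻¹ • u) (SS_inv hL hq h81 (inv_mem hg) hu) (by
      have := SS_inv hL hq h81 (inv_mem hg) hu'
      rwa [smul_add, inv_smul_smul] at this)
    rwa [← bf_smul (hq g hg), smul_inv_smul] at this
  have hC : ∀ v ∈ SS, ∀ w, Pp v w ↔ w = 0 ∨ w = v ∨ w = Z0 • v ∨ w = Z0⁻¹ • v := fun v hv w => by
    obtain ⟨⟨δ, hδ⟩, rfl⟩ := (orb693 v).2 hv
    change Pp (δ • vdec 12 1) w ↔ w = 0 ∨ w = δ • vdec 12 1 ∨ w = Z0 • δ • vdec 12 1 ∨
      w = Z0⁻¹ • δ • vdec 12 1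
    have h1 : Pp (δ • vdec 12 1) w ↔ Pp (vdec 12 1) (δ⁻¹ • w) :=
      ⟨fun h => by simpa using hP _ (inv_mem (hL hδ)) _ _ h, fun h => by simpa using hP _ (hL hδ) _ _ h⟩
    rw [h1, Pp_one]
    simp only [inv_smul_eq_iff, smul_zero, ← mul_smul]
    rcases LG_norm hδ with e | e
    · rw [e, show δ * Z0⁻¹ = Z0⁻¹ * δ from (Commute.inv_right e).eq]
    · have e' : δ * Z0⁻¹ = Z0 * δ := by rw [mul_inv_eq_iff_eq_mul, mul_assoc, e, mul_inv_cancel_left]
      rw [e, e', or_comm (a := w = (Z0⁻¹ * δ) • vdec 12 1)]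
  have hb : ∀ v ∈ SS, (γ * Z0 * γ⁻¹) • v = Z0 • v ∨ (γ * Z0 * γ⁻¹) • v = Z0⁻¹ • v := fun v hv => by
    have h1 := SS_inv hL hq h81 (inv_mem hγ) hv
    have h2 := hP γ hγ _ _ ((hC _ h1 _).2 (Or.inr (Or.inr (Or.inl rfl))))
    rw [smul_inv_smul, hC v hv, ← mul_smul, ← mul_smul] at h2
    rcases h2 with e | e | e
    · exact absurd ((smul_eq_zero_iff_eq _).1 e) (SS_ne hv)
    · rw [mul_smul, mul_smul, ← eq_inv_smul_iff] at e
      exact absurd (eq_zero_of_Z0 e) (SS_ne h1)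
    · exact e
  generalize γ * Z0 * γ⁻¹ = b at hb ⊢
  have hn : ∀ v : W, Z0 • v = Z0⁻¹ • v → v = 0 := fun v e => eq_zero_of_Z0 (by
    rw [← Z0_sq, mul_smul, smul_left_cancel_iff] at e; exact e.symm)
  have st : ∀ A B : GL12, (∀ v : W, A • v = B • v → v = 0) → (∀ v ∈ SS, b • v = A • v ∨ b • v = B • v) →
      b • vdec 12 1 = A • vdec 12 1 → b = A := fun A B hAB h h1 => by
    have s1 : ∀ a c, a < 4096 → c < 4096 → b • vdec 12 a = A • vdec 12 a → S693.testBit a = true →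
        S693.testBit c = true → S693.testBit (a ^^^ c) = true → b • vdec 12 c = A • vdec 12 c :=
      fun a c ha hc e t1 t2 t3 => by
        have m3 := (mem_SS (Nat.xor_lt_two_pow (n := 12) ha hc)).2 t3
        rw [vdec_xor] at m3
        rcases h _ m3 with e1 | e1 <;> rw [smul_add, smul_add, e] at e1
        · exact add_left_cancel e1
        · refine (h _ ((mem_SS hc).2 t2)).elim id fun e2 => ?_
          rw [e2] at e1
          exact absurd (hAB _ (add_right_cancel e1)) (SS_ne ((mem_SS ha).2 t1))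
    have s2 : ∀ c, c < 4096 → S693.testBit c = true → S693.testBit (1 ^^^ c) = true →
        b • vdec 12 c = A • vdec 12 c := fun c hc => s1 1 c (by norm_num) hc h1 (by decide +kernel)
    have s3 : ∀ c, c < 4096 → S693.testBit c = true → S693.testBit (256 ^^^ c) = true →
        b • vdec 12 c = A • vdec 12 c := fun c hc => s1 256 c (by norm_num) hc
          (s2 256 (by norm_num) (by decide +kernel) (by decide +kernel)) (by decide +kernel)
    refine Units.ext (mat_ext fun j => ?_)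
    change b • eb j = A • eb j
    rw [← vdec_vcode (eb j), vcode_eb]
    have : ∀ j : Fin 12, (j : ℕ) = 0 ∨ S693.testBit (2 ^ (j : ℕ)) = true ∧
      (S693.testBit (1 ^^^ 2 ^ (j : ℕ)) = true ∨ S693.testBit (256 ^^^ 2 ^ (j : ℕ)) = true) := by
      decide +kernel
    have hj : 2 ^ (j : ℕ) < 4096 := Nat.pow_lt_pow_right (n := 12) one_lt_two j.2
    rcases this j with e | ⟨e, e' | e'⟩
    exacts [by rw [e]; exact h1, s2 _ hj e e', s3 _ hj e e']
  rcases hb _ ((mem_SS (a := 1) (by norm_num)).2 (by decide +kernel)) with e | e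
  · rw [st _ _ hn hb e]; exact Subgroup.mem_zpowers _
  · rw [st _ _ (fun v e => hn v e.symm) (fun v hv => (hb v hv).symm) e]
    exact inv_mem (Subgroup.mem_zpowers _)
/-- the linear data of `3.Aut(M22)` for an abstract group -/
structure Lin {A : Type*} [Group A] (ρ : A →* GL12) (μ : A →* Pm) (ξ : A) : Prop where
  range : μ.range = Duad
  X3 : ρ ξ ^ 3 = 1
  ker' : ∀ k, μ k = 1 ↔ ρ k ∈ Subgroup.zpowers (ρ ξ)
  fix_X : ∀ v : W, ρ ξ • v = v → v = 0
  inv : ∃ h, ρ h * ρ ξ * (ρ h)⁻¹ = (ρ ξ)⁻¹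

namespace Lin

variable {A : Type*} [Group A] {ρ : A →* GL12} {μ : A →* Pm} {ξ : A} (R : Lin ρ μ ξ)
include R

theorem sum_X (v : W) : v + ρ ξ • v + ρ ξ • ρ ξ • v = 0 := R.fix_X _ (by
  have : ρ ξ • ρ ξ • ρ ξ • v = v := by
    rw [← mul_smul, ← mul_smul, ← pow_two, ← pow_succ, R.X3, one_smul]
  rw [smul_add, smul_add, this]
  abel)

theorem X_ne : ρ ξ * ρ ξ ≠ ρ ξ := fun e => by
  have h1 := R.fix_X (eb 0) (by rw [mul_eq_left.1 e, one_smul])
  exact absurd (congrFun h1 0) (by simp [eb])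

theorem conj_X (k : A) :
    ρ k * ρ ξ * (ρ k)⁻¹ = ρ ξ ∨ ρ k * ρ ξ * (ρ k)⁻¹ = ρ ξ * ρ ξ := by
  have h1 : μ (k * ξ * k⁻¹) = 1 := by
    rw [map_mul, map_mul, (R.ker' ξ).2 (Subgroup.mem_zpowers _), map_inv, mul_one, mul_inv_cancel]
  rw [R.ker', map_mul, map_mul, map_inv] at h1
  rcases mem_zpowers_three (R.X3) h1 with e | e
  · rw [conj_eq_one_iff] at e
    exact absurd (by rw [e, one_mul]) (R.X_ne)
  · exact e

theorem comm_of_eq {a b : A} (e : μ a = μ b)
    (hb : ρ b * ρ ξ = ρ ξ * ρ b) : ρ a * ρ ξ = ρ ξ * ρ a := by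
  obtain ⟨i, hi⟩ := (R.ker' (b⁻¹ * a)).1 (by rw [map_mul, map_inv, e, inv_mul_cancel])
  rw [map_mul, map_inv, eq_inv_mul_iff_mul_eq] at hi
  rw [← hi]
  exact (Commute.mul_left hb ((Commute.refl _).zpow_left i)).eq

theorem inner {k : A} (hk : μ k ∈ Spor.M22) :
    ρ k * ρ ξ = ρ ξ * ρ k := by
  let K := (Subgroup.centralizer ({ρ ξ} : Set GL12)).comap ρ
  have hsq : ∀ B, I Duad B → I (K.map μ) (comp24 B B) := fun B hA => by
    obtain ⟨a, ha⟩ : pm B ∈ μ.range := R.range ▸ hA.permOf_mem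
    refine ⟨_, ⟨a * a, ?_, rfl⟩, by rw [map_mul, ha]; exact Golay.R.mul (rp hA) (rp hA)⟩
    change ρ (a * a) ∈ Subgroup.centralizer _
    rw [Subgroup.mem_centralizer_singleton_iff, ← mul_inv_eq_iff_eq_mul, map_mul]
    have e0 : ρ a * ρ a * ρ ξ * (ρ a * ρ a)⁻¹ = ρ a * (ρ a * ρ ξ * (ρ a)⁻¹) * (ρ a)⁻¹ := by group
    rcases R.conj_X a with e | e
    · rw [e0, e, e]
    · have e1 : ρ a * (ρ ξ * ρ ξ) * (ρ a)⁻¹ = (ρ a * ρ ξ * (ρ a)⁻¹) * (ρ a * ρ ξ * (ρ a)⁻¹) := by group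
      rw [e0, e, e1, e, show ρ ξ * ρ ξ * (ρ ξ * ρ ξ) = ρ ξ ^ 3 * ρ ξ by
        simp only [pow_succ, pow_zero, one_mul, mul_assoc], R.X3, one_mul]
  have hD : ∀ B, (okM B && th22 B) = true → I Duad B := fun B hA =>
    inDuad (I.of_okM (Bool.and_eq_true_iff.1 hA).1) (Bool.and_eq_true_iff.1 hA).2
  have h1 := hsq 958107259180361783550630650541884992 (hD _ (by decide +kernel))
  have h2 := hsq 971741779563050630254604756882837536 (hD _ (by decide +kernel))
  have h3 := I.mul _ _ (hsq 5938494374395201392163656135030295 (hD _ (by decide +kernel)))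
    (hsq 961114247896545750810895626457361088 (hD _ (by decide +kernel)))
  have h4 : Spor.M22 ≤ K.map μ := ga22_eq ▸ Enc.gen_le fun B hA => by
    simp only [ga22, List.mem_cons, List.not_mem_nil, or_false] at hA
    rcases hA with rfl | rfl | rfl
    · convert h1 using 1; decide +kernel
    · convert h2 using 1; decide +kernel
    · convert h3 using 1; decide +kernel
  obtain ⟨b, hb, e⟩ := h4 hk
  exact R.comm_of_eq e.symm (Subgroup.mem_centralizer_singleton_iff.1 hb)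

theorem outer {k : A} (hk : μ k ∉ Spor.M22) :
    ρ k * ρ ξ = ρ ξ * ρ ξ * ρ k := by
  obtain ⟨a, ha⟩ := R.inv
  have e : ρ ξ * ρ ξ = (ρ ξ)⁻¹ := eq_inv_of_mul_eq_one_left (by rw [← pow_two, ← pow_succ, R.X3])
  have h1 : ρ a * ρ ξ = ρ ξ * ρ ξ * ρ a := by
    rw [e, ← ha, inv_mul_cancel_right]
  have h2 : μ a ∉ Spor.M22 := fun hm => R.X_ne (mul_right_cancel (h1.symm.trans (R.inner hm)))
  have hD : ∀ b, μ b ∈ Duad := fun b => R.range ▸ ⟨b, rfl⟩
  have h3 : μ (a⁻¹ * k) ∈ Spor.M22 := by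
    obtain ⟨a1, a2⟩ := mem_Duad.1 (hD a)
    obtain ⟨k1, k2⟩ := mem_Duad.1 (hD k)
    have a3 := a2.resolve_left fun e => h2 (mem_M22.2 ⟨a1, e⟩)
    have k3 := k2.resolve_left fun e => hk (mem_M22.2 ⟨k1, e⟩)
    rw [map_mul, map_inv]
    refine mem_M22.2 ⟨mul_mem (inv_mem a1) k1, ?_, ?_⟩ <;>
      rw [Equiv.Perm.mul_apply, Equiv.Perm.inv_eq_iff_eq]
    exacts [k3.1.trans a3.1.symm, k3.2.trans a3.2.symm]
  have h4 := R.inner h3
  rw [map_mul, map_inv] at h4
  calc ρ k * ρ ξ = ρ a * ((ρ a)⁻¹ * ρ k * ρ ξ) := by group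
    _ = ρ a * ρ ξ * ((ρ a)⁻¹ * ρ k) := by rw [h4]; group
    _ = _ := by rw [h1]; group

theorem exists_lift {g : Pm} (hg : g ∈ Duad) {n m : ℕ} (hn : g ^ n = 1) (hm : g ^ (3 * m) = g) :
    ∃ k, μ k = g ∧ ρ k ^ n = 1 := by
  obtain ⟨a, rfl⟩ : g ∈ μ.range := R.range ▸ hg
  refine ⟨a ^ (3 * m), by rw [map_pow, hm], ?_⟩
  obtain ⟨i, hi⟩ := (R.ker' (a ^ n)).1 (by rw [map_pow, hn])
  rw [map_pow, ← pow_mul, mul_comm, pow_mul, ← map_pow, ← hi, pow_mul]
  simp only
  rw [← zpow_natCast _ 3, ← zpow_mul, mul_comm, zpow_mul, zpow_natCast, R.X3, one_zpow, one_pow]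

theorem eq_of {a b : A} (e : μ a = μ b) (hb : μ b ∈ Spor.M22)
    {n : ℕ} (hn : Nat.Coprime n 3) (h1 : ρ a ^ n = 1) (h2 : ρ b ^ n = 1) : ρ a = ρ b := by
  obtain ⟨i, hi⟩ := (R.ker' (b⁻¹ * a)).1 (by rw [map_mul, map_inv, e, inv_mul_cancel])
  rw [map_mul, map_inv, eq_inv_mul_iff_mul_eq] at hi
  have c : Commute (ρ b) (ρ ξ ^ i) := (show Commute (ρ b) (ρ ξ) from R.inner hb).zpow_right i
  rw [← hi, c.mul_pow, h2, one_mul] at h1
  have h3 : (ρ ξ ^ i) ^ 3 = 1 := by
    rw [← zpow_natCast _ 3, ← zpow_mul, mul_comm, zpow_mul, zpow_natCast, R.X3, one_zpow]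
  have h4 : ρ ξ ^ i = 1 := by
    have := (pow_gcd_eq_one (a := ρ ξ ^ i) (m := n) (n := 3)).2 ⟨h1, h3⟩
    rwa [hn, pow_one] at this
  rw [← hi]
  simp only [h4, mul_one]

theorem exists_hyp : ∃ c d e f, Hyp (ρ ξ) (ρ c) (ρ d) (ρ e) (ρ f) ∧ Golay.R (μ c) pC ∧
    Golay.R (μ d) pD ∧ Golay.R (μ e) pE ∧ Golay.R (μ f) pF := by
  have ic : I Spor.M22 pC := inM (by decide +kernel)
  have id : I Spor.M22 pD := inM (by decide +kernel)
  have ie : I Spor.M22 pE := inM (by decide +kernel)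
  have iF : I Duad pF := inD (by decide +kernel)
  have one : ∀ {g : Pm} {B : ℕ}, Golay.R g B → B = one24 → g = 1 := fun hg e => (e ▸ hg).eq_one
  obtain ⟨c, hc, c11⟩ := R.exists_lift (M22_le_Duad ic.permOf_mem) (n := 11) (m := 4)
    (one ((rp ic).pow 11) (by decide +kernel)) (MAut.R.eq_of ((rp ic).pow 12) (rp ic) (by decide +kernel))
  obtain ⟨d, hd, d5⟩ := R.exists_lift (M22_le_Duad id.permOf_mem) (n := 5) (m := 2)
    (one ((rp id).pow 5) (by decide +kernel)) (MAut.R.eq_of ((rp id).pow 6) (rp id) (by decide +kernel))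
  obtain ⟨e, he, e4⟩ := R.exists_lift (M22_le_Duad ie.permOf_mem) (n := 4) (m := 3)
    (one ((rp ie).pow 4) (by decide +kernel)) (MAut.R.eq_of ((rp ie).pow 9) (rp ie) (by decide +kernel))
  obtain ⟨f, hf⟩ : pm pF ∈ μ.range := R.range ▸ iF.permOf_mem
  have mc : μ c ∈ Spor.M22 := hc ▸ ic.permOf_mem
  have md : μ d ∈ Spor.M22 := hd ▸ id.permOf_mem
  have me : μ e ∈ Spor.M22 := he ▸ ie.permOf_mem
  have rc : Golay.R (μ c) pC := hc ▸ rp ic
  have rd : Golay.R (μ d) pD := hd ▸ rp id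
  have re : Golay.R (μ e) pE := he ▸ rp ie
  have rf : Golay.R (μ f) pF := hf ▸ rp iF
  have mf : μ f ∉ Spor.M22 := fun hm => absurd (mem22.2 _ _ hm rf) (by decide +kernel)
  have cj : ∀ (a b : A) (D B k n : ℕ), Golay.R (μ a) D →
      Golay.R (μ b) B → μ b ∈ Spor.M22 → Nat.Coprime n 3 → ρ b ^ n = 1 →
      conj24 D B = pow24 B k → ρ a * ρ b = ρ b ^ k * ρ a := fun a b D B k n ha hb hm hn h1 e => by
    have := R.eq_of (a := a * b * a⁻¹) (b := b ^ k)
      (by rw [map_mul, map_mul, map_inv, map_pow]; exact MAut.R.eq_of (ha.conj hb) (hb.pow k) e)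
      (by rw [map_pow]; exact pow_mem hm k) hn
      (by rw [map_mul, map_mul, map_inv, conj_pow, h1]; group)
      (by rw [map_pow, ← pow_mul, mul_comm, pow_mul, h1, one_pow])
    rw [map_mul, map_mul, map_inv, map_pow] at this
    rw [← this, inv_mul_cancel_right]
  refine ⟨c, d, e, f, ⟨R.sum_X, (R.inner mc).symm, (R.inner md).symm, (R.inner me).symm,
    R.outer mf, c11, fun e1 => ?_, d5, cj d c pD pC 3 11 rd rc mc (by norm_num) c11 (by decide +kernel),
    ?_, e4, cj f c pF pC 10 11 rf rc mc (by norm_num) c11 (by decide +kernel), ?_, ?_, ?_, ?_⟩,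
    rc, rd, re, rf⟩
  · have := (R.ker' c).2 (e1 ▸ one_mem _)
    exact absurd (Golay.R.comp24_eq_one_iff rc Golay.R.one |>.2 (by rw [this, mul_one]))
      (by decide +kernel)
  · rw [← pow_two]; exact cj e d pE pD 2 5 re rd md (by norm_num) d5 (by decide +kernel)
  · simpa using cj f d pF pD 1 5 rf rd md (by norm_num) d5 (by decide +kernel)
  · rw [← map_mul, ← map_pow, ← R.ker', map_pow, map_mul]
    exact one ((re.mul rc).pow 7) (by decide +kernel)
  · rw [← map_pow, ← map_mul, ← map_mul, ← map_mul, ← map_pow, ← R.ker', map_pow, map_mul, map_mul,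
      map_mul, map_pow]
    exact one (((rc.mul (rd.pow 4)).mul (re.mul re)).pow 3) (by decide +kernel)
  · rw [← map_pow, ← map_mul, ← map_mul, ← map_mul, ← map_pow, ← R.ker', map_pow, map_mul, map_mul,
      map_mul, map_pow]
    exact one (((re.mul rd).mul (rf.mul (rd.pow 4))).pow 4) (by decide +kernel)

theorem exists_g : ∃ g : GL12, (g * ρ ξ * g⁻¹ = Z0 ∨ g * ρ ξ * g⁻¹ = Z0⁻¹) ∧
    gen gcode LG ≤ ((MulAut.conj g).toMonoidHom.comp ρ).range := by
  obtain ⟨c, d, e, f, hy, -⟩ := R.exists_hyp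
  have key : ∀ ζ : A, Concl (ρ ζ) (ρ c) (ρ d) (ρ e) (ρ f) → ∃ g : GL12, g * ρ ζ * g⁻¹ = Z0 ∧
      gen gcode LG ≤ ((MulAut.conj g).toMonoidHom.comp ρ).range := by
    rintro ζ ⟨g, g1, g2, g3, g4, i, g5⟩
    refine ⟨g, C12.inj (by rw [g1, code_Z0]), C12.gen_le fun a ha => ?_⟩
    simp only [LG, List.mem_cons, List.not_mem_nil, or_false] at ha
    rcases ha with rfl | rfl | rfl | rfl | rfl
    exacts [⟨_, ⟨c, rfl⟩, g2⟩, ⟨_, ⟨d, rfl⟩, g3⟩, ⟨_, ⟨e, rfl⟩, g4⟩,
      ⟨_, ⟨f * ζ ^ i, rfl⟩, by rw [← g5, ← map_pow, ← map_mul]; rfl⟩, ⟨_, ⟨ζ, rfl⟩, g1⟩]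
  rcases ident hy with k | k
  · obtain ⟨g, h1, h2⟩ := key ξ k
    exact ⟨g, Or.inl h1, h2⟩
  · obtain ⟨g, h1, h2⟩ := key (ξ * ξ) (by rwa [map_mul])
    refine ⟨g, Or.inr ?_, h2⟩
    have e : ρ ξ * ρ ξ = (ρ ξ)⁻¹ := eq_inv_of_mul_eq_one_left (by rw [← pow_two, ← pow_succ, R.X3])
    rw [← h1, map_mul, e, conj_inv, inv_inv]

end Lin

end CL.J4
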