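import Cfsg.Agent.SPOR.J4.MSEl
import Cfsg.Agent.SPOR.J4.TenLin

/-!
Coordinates for the group `2^10` attached to the octad `O0`: kernel checks.
-/

set_option autoImplicit false

namespace CL.J4.Ten

open Cfsg CL.K CL.Golay CL.MAut CL.F2M CL.Orb

/-- six tetrads in the octad -/
def B6 : ℕ := 57158102448182298625727942355752992780

/-- the even subset of the octad with code `c` -/
noncomputable def ms (c : ℕ) : ℕ := sel (fld 24 16777215 B6) 6 c

/-- the pointwise stabiliser of the octad -/
def K16 : List ℕ := [984818244535754528103549039458486304, 963721886883755259286232606933354528,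
  979121071158219704299181131031480352, 981818691054096003685363657089320992,
  972512676110088067912772961567868960, 983548720921252936276249910206105632,
  970499966350631336865513127433832480, 967812279691448225500382947153381408,
  965128854020860192151391391390468128, 961365507626256404119956257276790816,
  975346028712660580592452217730074656, 966182099583441531322624363496310816,
  980224387687010295957922729495201824, 976448692869377735270425038196672544,
  968708902336673183175954409307867168, 971592882964418941354553515258775584]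

/-- the table with code `c` -/
noncomputable def kt (c : ℕ) : ℕ := lget K16 (Nat.shiftRight c 6)

theorem K16_fix : AllI (Fix (E.setOf O0)) K16 :=
  (AllI.ofM (by decide +kernel)).fix O0 (by decide +kernel)

theorem kt_fix {c : ℕ} (hc : c < 1024) : I (Fix (E.setOf O0)) (kt c) :=
  K16_fix _ (lget_mem (show c >>> 6 < 16 by rw [Nat.shiftRight_eq_div_pow]; omega))

theorem kt_in {c : ℕ} (hc : c < 1024) : I M24 (kt c) := (kt_fix hc).mono (Fix_le _)

theorem all1024 {p : ℕ → Bool} (h : allLt2 p 32 32 = true) {c : ℕ} (hc : c < 1024) : p c = true :=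
  allLt2_iff.1 h c hc

theorem all4096 {p : ℕ → Bool} (h : allLt2 p 64 64 = true) {c : ℕ} (hc : c < 4096) : p c = true :=
  allLt2_iff.1 h c hc

theorem chk_ms {c : ℕ} (hc : c < 1024) : okN (ms c) = true ∧ ms c &&& O0 = ms c := by
  simpa [force_eq] using all1024 (p := fun c => force (ms c) fun m => okN m && Nat.beq (Nat.land m O0) m)
    (by decide +kernel) hc

theorem ok_ms {c : ℕ} (hc : c < 1024) : okN (ms c) = true := (chk_ms hc).1

theorem ms_sub {c : ℕ} (hc : c < 1024) : E.setOf (ms c) ⊆ E.setOf O0 :=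
  (E.setOf_subset_iff (okN_iff.1 (ok_ms hc)).1).2 (chk_ms hc).2

theorem ms_xor (a b : ℕ) : ms (a ^^^ b) = ms a ^^^ ms b := sel_xor _ _ _ _

theorem kt_xor {a b : ℕ} (ha : a < 1024) (hb : b < 1024) :
    comp24 (kt a) (kt b) = kt (a ^^^ b) := by
  have := allLt_iff.1 (allLt_iff.1 (show allLt (fun i => allLt (fun j =>
    Nat.beq (comp24 (lget K16 i) (lget K16 j)) (lget K16 (Nat.xor i j))) 16) 16 = true by
      decide +kernel) (a >>> 6) (by rw [Nat.shiftRight_eq_div_pow]; omega)) (b >>> 6)
      (by rw [Nat.shiftRight_eq_div_pow]; omega)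
  exact (Nat.eq_of_beq_eq_true this).trans (congrArg (lget K16) Nat.shiftRight_xor_distrib.symm)

theorem img_ms {a b : ℕ} (ha : a < 1024) (hb : b < 1024) : img24 (kt a) (ms b) = ms b :=
  R.img_eq (kt_fix ha).rep (okN_iff.1 (ok_ms hb)).1
    (smul_eq_self_of_fix fun p hp => (mem_Fix.1 (kt_fix ha).permOf_mem).2 p (ms_sub hb hp))

theorem chk_four {c : ℕ} (hc : c < 1024) (h : app24 (kt c) 4 = 4) : c < 64 := by
  simpa [h] using all1024 (p := fun c => !Nat.beq (app24 (kt c) 4) 4 || Nat.blt c 64)
    (by decide +kernel) hc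

theorem kt_small {c : ℕ} (hc : c < 64) : kt c = one24 := by
  rw [kt, show Nat.shiftRight c 6 = 0 from (Nat.shiftRight_eq_div_pow c 6).trans (by omega)]
  decide +kernel

theorem chk_syn {c : ℕ} (hc : c < 64) (h : syn (ms c) = 0) : c = 0 := by
  simpa [h] using allLt_iff.1 (show allLt (fun c => !Nat.beq (syn (ms c)) 0 || Nat.beq c 0) 64 = true
    by decide +kernel) c hc

/-- the syndrome `σ` belongs to an even subset of the octad -/
noncomputable def in6 (σ : ℕ) : Bool := anyLt (fun c => Nat.beq (syn (ms c)) σ) 64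

theorem in6_iff {σ : ℕ} : in6 σ = true ↔ ∃ c < 64, syn (ms c) = σ := by
  simp [in6, anyLt_iff]

theorem chk_cent {σ : ℕ} (hσ : σ < 4096) (h0 : okN (σ <<< 12) = true)
    (h : ∀ i < 4, syn (img24 (kt (2 ^ (6 + i))) (σ <<< 12)) = σ) : in6 σ = true := by
  have := all4096 (p := fun σ => force (Nat.shiftLeft σ 12) fun r => !okN r ||
    !allLt (fun i => Nat.beq (syn (img24 (kt (2 ^ (6 + i))) r)) σ) 4 || in6 σ)
    (by decide +kernel) hσ
  rw [force_eq, allLt_iff.2 fun i hi => Nat.beq_eq ▸ h i hi] at this
  simpa [h0] using this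

theorem chk_duad {i j : ℕ} (hi : i < 24) (hj : j < 24) (h1 : O0.testBit i = true)
    (h2 : O0.testBit j = true) : in6 (syn (2 ^ i ^^^ 2 ^ j)) = true := by
  simpa [h1, h2] using allLt_iff.1 (allLt_iff.1 (show allLt (fun i => allLt (fun j =>
    !O0.testBit i || !O0.testBit j || in6 (syn (2 ^ i ^^^ 2 ^ j))) 24) 24 = true by
      decide +kernel) i hi) j hj

theorem chk_reg {i : ℕ} (hi : i < 24) (h : O0.testBit i = false) :
    ∃ j < 16, app24 (kt (64 * j)) 4 = i := by
  simpa [h, anyLt_iff] using allLt_iff.1 (show allLt (fun i => O0.testBit i ||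
    anyLt (fun j => Nat.beq (app24 (kt (64 * j)) 4) i) 16) 24 = true by decide +kernel) i hi

theorem chk_K {c : ℕ} (hc : c < 1024) (h : syn (17 ^^^ img24 (kt c) 17) = syn (ms c)) : c = 0 := by
  simpa [h] using all1024 (p := fun c => !Nat.beq (syn (17 ^^^ img24 (kt c) 17)) (syn (ms c)) ||
    Nat.beq c 0) (by decide +kernel) hc

theorem chk_72 {σ : ℕ} (hσ : σ < 4096) (h0 : okN (σ <<< 12) = true) :
    syn (ms 72) ≠ syn (σ <<< 12 ^^^ img24 (kt 72) (σ <<< 12)) := by
  intro e
  simpa [h0, force_eq, ← e] using all4096 (p := fun σ => force (Nat.shiftLeft σ 12) fun r =>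
    !okN r || !Nat.beq (syn (ms 72)) (syn (r ^^^ img24 (kt 72) r))) (by decide +kernel) hσ

/-- the action of the two generators on codes -/
noncomputable def fG (j c : ℕ) : ℕ :=
  act 10 1023 (lget [1037925860792459696078071054360, 734879314704728828589581066264] j) c

/-- the masks of the two generators -/
noncomputable def vG (j : ℕ) : ℕ := 17 ^^^ img24 (lget gOct j) 17

theorem chk_gen {j c : ℕ} (hj : j < 2) (hc : c < 1024) : fG j c < 1024 ∧
    syn (vG j ^^^ img24 (lget gOct j) (ms c)) = syn (ms (fG j c) ^^^ img24 (kt (fG j c)) (vG j)) ∧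
    comp24 (lget gOct j) (kt c) = comp24 (kt (fG j c)) (lget gOct j) := by
  have := allLt_iff.1 (show allLt (fun j =>
    force (lget gOct j) fun g => force (vG j) fun v => allLt2 (fun c => force (fG j c) fun d =>
      force (kt d) fun k => Nat.blt d 1024 &&
      Nat.beq (syn (v ^^^ img24 g (ms c))) (syn (ms d ^^^ img24 k v)) &&
      Nat.beq (comp24 g (kt c)) (comp24 k g)) 32 32) 2 = true by decide +kernel) j hj
  rw [force_eq, force_eq] at this
  simpa [force_eq, and_assoc] using all1024 this hc

/-- the Pfaffians vanish -/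
def qz (c : ℕ) : Bool := decide (q (vdec 10 c) = 0)

theorem reach_of {c0 : ℕ} {p : ℕ → Bool}
    (h : orb fG (fun c => c) 2 c0 1100 (fun S _ => allLt2 (fun c => !p c || S.testBit c) 32 32) = true)
    {c : ℕ} (hc : c < 1024) (hp : p c = true) : Reach fG 2 c0 c := by
  obtain ⟨A, S, n, hA, hk, -⟩ := orb_spec h
  obtain ⟨d, hd, rfl⟩ := (hA.bits c).1 (by simpa [hp] using all1024 hk hc)
  exact hA.reach d hd

theorem reach_23 {c : ℕ} (hc : c < 1024) (h : (!qz c && Nat.blt c 64) = true) : Reach fG 2 23 c :=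
  reach_of (p := fun c => !qz c && Nat.blt c 64) (by decide +kernel) hc h

theorem reach_72 {c : ℕ} (hc : c < 1024) (h : (!qz c && !Nat.blt c 64) = true) : Reach fG 2 72 c :=
  reach_of (p := fun c => !qz c && !Nat.blt c 64) (by decide +kernel) hc h

theorem reach_34 {c : ℕ} (hc : c < 1024) (h : (qz c && !Nat.beq c 0 && Nat.blt c 64) = true) :
    Reach fG 2 34 c :=
  reach_of (p := fun c => qz c && !Nat.beq c 0 && Nat.blt c 64) (by decide +kernel) hc h

theorem reach_64 {c : ℕ} (hc : c < 1024) (h : (qz c && !Nat.blt c 64) = true) : Reach fG 2 64 c :=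
  reach_of (p := fun c => qz c && !Nat.blt c 64) (by decide +kernel) hc h

theorem ncard_codes (p : ℕ → Bool) :
    {c | c < 1024 ∧ p c = true}.ncard = sumLt2 (fun c => when (p c) 1) 32 32 := by
  rw [sumLt2_eq, ← card_filter_range_eq_sum _ (fun c => p c = true) _ fun c _ => when_one_eq _,
    ← Set.ncard_coe_finset]
  congr 1
  ext c
  simp

theorem cnt_28 : sumLt2 (fun c => when (!qz c && Nat.blt c 64) 1) 32 32 = 28 := by decide +kernel

theorem cnt_868 : sumLt2 (fun c => when (!qz c) 1) 32 32 = 868 := by decide +kernel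

theorem cnt_35 : sumLt2 (fun c => when (qz c && !Nat.beq c 0 && Nat.blt c 64) 1) 32 32 = 35 := by
  decide +kernel

theorem cnt_155 : sumLt2 (fun c => when (qz c && !Nat.beq c 0) 1) 32 32 = 155 := by decide +kernel

end CL.J4.Ten
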